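import Cfsg.Prelude.Def_RootSubgroups

/-!
# Rank one groups: the action on the unipotent subgroups

For a rank one pair `(A, B)` the group `A ⊔ B` is doubly transitive on the conjugates of `A`, with `A` regular on
the others.
-/

set_option autoImplicit false

namespace Cfsg.Agent.Lib.RankOne

open Cfsg

section Conj

variable {G : Type*} [Group G]

theorem mem_conjBy {A : Subgroup G} {g x : G} : x ∈ conjBy A g ↔ g⁻¹ * x * g ∈ A := by
  constructor
  · rintro ⟨y, hy, rfl⟩
    simpa [mul_assoc] using hy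
  · intro hx
    exact ⟨g⁻¹ * x * g, hx, by simp [mul_assoc]⟩

theorem conj_mem_conjBy {A : Subgroup G} {g x : G} (hx : x ∈ A) : g * x * g⁻¹ ∈ conjBy A g :=
  mem_conjBy.mpr (by simpa [mul_assoc] using hx)

theorem conjBy_conjBy (A : Subgroup G) (g k : G) : conjBy (conjBy A g) k = conjBy A (k * g) := by
  ext x
  simp only [mem_conjBy, mul_inv_rev, mul_assoc]

theorem conjBy_one (A : Subgroup G) : conjBy A 1 = A := by
  ext x
  simp [mem_conjBy]

theorem conjBy_eq_iff {A B : Subgroup G} {g k : G} : conjBy A g = conjBy B k ↔ conjBy A (k⁻¹ * g) = B := by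
  constructor
  · intro h
    rw [← conjBy_conjBy, h, conjBy_conjBy, inv_mul_cancel, conjBy_one]
  · intro h
    rw [← h, conjBy_conjBy, mul_inv_cancel_left]

theorem mem_normalizer_iff {A : Subgroup G} {g : G} :
    g ∈ Subgroup.normalizer (A : Set G) ↔ conjBy A g = A := by
  rw [Subgroup.mem_normalizer_iff]
  constructor
  · intro h
    ext x
    rw [mem_conjBy, h (g⁻¹ * x * g)]
    simp [mul_assoc]
  · intro h x
    constructor
    · intro hx
      have := conj_mem_conjBy (g := g) hx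
      rwa [h] at this
    · intro hx
      rw [← h, mem_conjBy] at hx
      simpa [mul_assoc] using hx

theorem conjBy_eq_self_of_mem {A : Subgroup G} {g : G} (hg : g ∈ A) : conjBy A g = A :=
  mem_normalizer_iff.mp (Subgroup.le_normalizer hg)

theorem conjBy_inj {A B : Subgroup G} {g : G} (h : conjBy A g = conjBy B g) : A = B := by
  have := conjBy_eq_iff.mp h
  rwa [inv_mul_cancel, conjBy_one] at this

theorem conjBy_sup (A B : Subgroup G) (g : G) : conjBy (A ⊔ B) g = conjBy A g ⊔ conjBy B g :=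
  Subgroup.map_sup A B _

theorem conjBy_bot (g : G) : conjBy (⊥ : Subgroup G) g = ⊥ := Subgroup.map_bot _

/-- Conjugation carries a rank one pair to a rank one pair. -/
theorem pair_conjBy {A B : Subgroup G} (h : IsRankOnePair A B) (g : G) :
    IsRankOnePair (conjBy A g) (conjBy B g) := by
  have hcond : ∀ {A B : Subgroup G}, RankOneCondition A B → RankOneCondition (conjBy A g) (conjBy B g) := by
    intro A B hc a ha ha1
    obtain ⟨a₀, ha₀, rfl⟩ := ha
    obtain ⟨b, hb, hb1, e⟩ := hc a₀ ha₀ (fun h => ha1 (by simp [h]))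
    refine ⟨g * b * g⁻¹, conj_mem_conjBy hb, fun h => hb1 ?_, ?_⟩
    · simpa using h
    · show conjBy (conjBy A g) (g * b * g⁻¹)⁻¹ = conjBy (conjBy B g) ((MulAut.conj g) a₀)⁻¹
      rw [conjBy_conjBy, conjBy_conjBy, MulAut.conj_apply,
        show (g * b * g⁻¹)⁻¹ * g = g * b⁻¹ by group, show (g * a₀ * g⁻¹)⁻¹ * g = g * a₀⁻¹ by group,
        ← conjBy_conjBy, e, conjBy_conjBy]
  haveI := h.nilpotent_left
  haveI := h.nilpotent_right
  refine ⟨fun e => h.ne (conjBy_inj e), ?_, ?_, hcond h.cond_left, hcond h.cond_right⟩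
  · exact Group.nilpotent_of_mulEquiv (Subgroup.equivMapOfInjective A _ (MulAut.conj g).injective)
  · exact Group.nilpotent_of_mulEquiv (Subgroup.equivMapOfInjective B _ (MulAut.conj g).injective)

theorem commutator_eq_bot_iff {A B : Subgroup G} : ⁅A, B⁆ = ⊥ ↔ ∀ a ∈ A, ∀ b ∈ B, a * b = b * a := by
  rw [Subgroup.commutator_eq_bot_iff_le_centralizer]
  constructor
  · intro h a ha b hb
    exact (h ha b hb).symm
  · intro h a ha b hb
    exact (h a ha b hb).symm

theorem conjBy_eq_self_of_commute {A : Subgroup G} {g : G} (h : ∀ a ∈ A, g * a = a * g) : conjBy A g = A := by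
  refine mem_normalizer_iff.mp (Subgroup.mem_normalizer_iff.mpr fun x => ⟨fun hx => ?_, fun hx => ?_⟩)
  · rwa [h x hx, mul_inv_cancel_right]
  · have e := h _ hx
    have e' : g * x * g⁻¹ = x := mul_left_cancel (a := g) (by rw [e]; group)
    rwa [e'] at hx

end Conj

section Pair

variable {G : Type*} [Group G] {A B : Subgroup G}

theorem left_ne_bot (h : IsRankOnePair A B) : A ≠ ⊥ := by
  intro hA
  have hB : B = ⊥ := by
    rw [Subgroup.eq_bot_iff_forall]
    intro b hb
    by_contra hb1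
    obtain ⟨a, ha, ha1, -⟩ := h.cond_right b hb hb1
    rw [hA, Subgroup.mem_bot] at ha
    exact ha1 ha
  exact h.ne (hA.trans hB.symm)

theorem eq_one_of_normalizes (h : IsRankOnePair A B) {a : G} (ha : a ∈ A) (hn : conjBy B a = B) : a = 1 := by
  by_contra ha1
  obtain ⟨b, hb, -, e⟩ := h.cond_left a ha ha1
  have hn' : conjBy B a⁻¹ = B := mem_normalizer_iff.mp (inv_mem (mem_normalizer_iff.mpr hn))
  rw [hn'] at e
  have h1 : A = B := by
    have := congrArg (fun C => conjBy C b) e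
    rwa [conjBy_conjBy, mul_inv_cancel, conjBy_one, conjBy_eq_self_of_mem hb] at this
  exact h.ne h1

theorem inf_normalizer (h : IsRankOnePair A B) : A ⊓ Subgroup.normalizer (B : Set G) = ⊥ :=
  (Subgroup.eq_bot_iff_forall _).mpr fun _ hx => eq_one_of_normalizes h hx.1 (mem_normalizer_iff.mp hx.2)

theorem mem_unip_left (A B : Subgroup G) : A ∈ unipotentSubgroups A B :=
  ⟨1, one_mem _, (conjBy_one A).symm⟩

theorem conj_mem_unip {C : Subgroup G} {x : G} (hx : x ∈ A ⊔ B) (hC : C ∈ unipotentSubgroups A B) :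
    conjBy C x ∈ unipotentSubgroups A B := by
  obtain ⟨y, hy, rfl⟩ := hC
  exact ⟨x * y, mul_mem hx hy, conjBy_conjBy A y x⟩

theorem unip_le {C : Subgroup G} (hC : C ∈ unipotentSubgroups A B) : C ≤ A ⊔ B := by
  obtain ⟨y, hy, rfl⟩ := hC
  intro z hz
  have h1 : y⁻¹ * z * y ∈ A ⊔ B := (le_sup_left : A ≤ A ⊔ B) (mem_conjBy.mp hz)
  have := mul_mem (mul_mem hy h1) (inv_mem hy)
  simpa [mul_assoc] using this

theorem mem_unip_right (h : IsRankOnePair A B) : B ∈ unipotentSubgroups A B := by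
  obtain ⟨a, ha, ha1⟩ := (Subgroup.bot_or_exists_ne_one A).resolve_left (left_ne_bot h)
  obtain ⟨b, hb, -, e⟩ := h.cond_left a ha ha1
  refine ⟨a * b⁻¹, mul_mem ((le_sup_left : A ≤ A ⊔ B) ha) ((le_sup_right : B ≤ A ⊔ B) (inv_mem hb)), ?_⟩
  rw [← conjBy_conjBy, e, conjBy_conjBy, mul_inv_cancel, conjBy_one]

theorem mem_unip_iff (h : IsRankOnePair A B) {C : Subgroup G} :
    C ∈ unipotentSubgroups A B ↔ C = A ∨ ∃ a ∈ A, C = conjBy B a := by
  constructor
  · let P : Subgroup G → Prop := fun C => C = A ∨ ∃ a ∈ A, C = conjBy B a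
    have hA : ∀ a ∈ A, ∀ C, P C → P (conjBy C a) := by
      rintro a ha C (rfl | ⟨a', ha', rfl⟩)
      · exact Or.inl (conjBy_eq_self_of_mem ha)
      · exact Or.inr ⟨a * a', mul_mem ha ha', conjBy_conjBy _ _ _⟩
    have hbA : ∀ b ∈ B, P (conjBy A b) := by
      intro b hb
      by_cases hb1 : b = 1
      · exact Or.inl (by rw [hb1, conjBy_one])
      obtain ⟨a, ha, -, e⟩ := h.cond_right b⁻¹ (inv_mem hb) (by simpa using hb1)
      rw [inv_inv] at e
      exact Or.inr ⟨a⁻¹, inv_mem ha, e.symm⟩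
    have hB : ∀ b ∈ B, ∀ C, P C → P (conjBy C b) := by
      rintro b hb C (rfl | ⟨a, ha, rfl⟩)
      · exact hbA b hb
      · by_cases ha1 : a = 1
        · refine Or.inr ⟨1, one_mem _, ?_⟩
          rw [ha1, conjBy_one, conjBy_eq_self_of_mem hb]
        obtain ⟨b', hb', -, e⟩ := h.cond_left a⁻¹ (inv_mem ha) (by simpa using ha1)
        rw [inv_inv] at e
        rw [← e, conjBy_conjBy]
        exact hbA _ (mul_mem hb (inv_mem hb'))
    let S : Subgroup G :=
      { carrier := {x | (∀ C, P C → P (conjBy C x)) ∧ ∀ C, P C → P (conjBy C x⁻¹)}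
        one_mem' := ⟨fun C hC => by rwa [conjBy_one], fun C hC => by rwa [inv_one, conjBy_one]⟩
        mul_mem' := fun {x y} hx hy => ⟨fun C hC => by rw [← conjBy_conjBy]; exact hx.1 _ (hy.1 C hC),
          fun C hC => by rw [mul_inv_rev, ← conjBy_conjBy]; exact hy.2 _ (hx.2 C hC)⟩
        inv_mem' := fun {x} hx => ⟨hx.2, fun C hC => by rw [inv_inv]; exact hx.1 C hC⟩ }
    have hle : A ⊔ B ≤ S := sup_le (fun a ha => ⟨hA a ha, hA _ (inv_mem ha)⟩) fun b hb => ⟨hB b hb, hB _ (inv_mem hb)⟩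
    rintro ⟨x, hx, rfl⟩
    exact (hle hx).1 A (Or.inl rfl)
  · rintro (rfl | ⟨a, ha, rfl⟩)
    · exact mem_unip_left _ _
    · exact conj_mem_unip ((le_sup_left : A ≤ A ⊔ B) ha) (mem_unip_right h)

theorem unip_symm (h : IsRankOnePair A B) : unipotentSubgroups A B = unipotentSubgroups B A := by
  have : ∀ {A B : Subgroup G}, IsRankOnePair A B → unipotentSubgroups A B ⊆ unipotentSubgroups B A := by
    rintro A B h C ⟨x, hx, rfl⟩
    exact conj_mem_unip (by rwa [sup_comm]) (mem_unip_right (RankOnePair_symm h))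
  exact Set.Subset.antisymm (this h) (this (RankOnePair_symm h))

theorem exists_map_pair (h : IsRankOnePair A B) {C D : Subgroup G} (hC : C ∈ unipotentSubgroups A B)
    (hD : D ∈ unipotentSubgroups A B) (hne : C ≠ D) :
    ∃ x ∈ A ⊔ B, conjBy A x = C ∧ conjBy B x = D := by
  obtain ⟨y, hy, rfl⟩ := hC
  rcases (mem_unip_iff h).mp (conj_mem_unip (inv_mem hy) hD) with e | ⟨a, ha, e⟩
  · refine absurd ?_ hne
    conv_lhs => rw [← e]
    rw [conjBy_conjBy, mul_inv_cancel, conjBy_one]
  · refine ⟨y * a, mul_mem hy ((le_sup_left : A ≤ A ⊔ B) ha), ?_, ?_⟩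
    · rw [← conjBy_conjBy, conjBy_eq_self_of_mem ha]
    · rw [← conjBy_conjBy, ← e, conjBy_conjBy, mul_inv_cancel, conjBy_one]

theorem pair_of_mem (h : IsRankOnePair A B) {C D : Subgroup G} (hC : C ∈ unipotentSubgroups A B)
    (hD : D ∈ unipotentSubgroups A B) (hne : C ≠ D) : IsRankOnePair C D := by
  obtain ⟨x, -, rfl, rfl⟩ := exists_map_pair h hC hD hne
  exact pair_conjBy h x

theorem eq_of_commute (h : IsRankOnePair A B) {C D : Subgroup G} (hC : C ∈ unipotentSubgroups A B)
    (hD : D ∈ unipotentSubgroups A B) (hcm : ⁅C, D⁆ = ⊥) : C = D := by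
  by_contra hne
  have hp := pair_of_mem h hC hD hne
  refine left_ne_bot hp ((Subgroup.eq_bot_iff_forall C).mpr fun c hc => eq_one_of_normalizes hp hc ?_)
  exact conjBy_eq_self_of_commute fun d hd => commutator_eq_bot_iff.mp hcm c hc d hd

theorem regular (h : IsRankOnePair A B) {C D : Subgroup G} (hC : C ∈ unipotentSubgroups A B)
    (hD : D ∈ unipotentSubgroups A B) (hCA : C ≠ A) (hDA : D ≠ A) : ∃! a : G, a ∈ A ∧ conjBy C a = D := by
  obtain ⟨c, hc, rfl⟩ := ((mem_unip_iff h).mp hC).resolve_left hCA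
  obtain ⟨d, hd, rfl⟩ := ((mem_unip_iff h).mp hD).resolve_left hDA
  refine ⟨d * c⁻¹, ⟨mul_mem hd (inv_mem hc), by rw [conjBy_conjBy, inv_mul_cancel_right]⟩, ?_⟩
  rintro a ⟨ha, e⟩
  rw [conjBy_conjBy, conjBy_eq_iff] at e
  have := eq_one_of_normalizes h (mul_mem (inv_mem hd) (mul_mem ha hc)) e
  calc a = d * (d⁻¹ * (a * c)) * c⁻¹ := by group
    _ = d * c⁻¹ := by rw [this, mul_one]

theorem exists_third (h : IsRankOnePair A B) :
    ∃ C ∈ unipotentSubgroups A B, C ≠ A ∧ C ≠ B := by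
  obtain ⟨a, ha, ha1⟩ := (Subgroup.bot_or_exists_ne_one A).resolve_left (left_ne_bot h)
  refine ⟨conjBy B a, (mem_unip_iff h).mpr (Or.inr ⟨a, ha, rfl⟩), fun e => h.ne ?_,
    fun e => ha1 (eq_one_of_normalizes h ha e)⟩
  have := congrArg (fun C => conjBy C a⁻¹) e
  rw [conjBy_conjBy, inv_mul_cancel, conjBy_one, conjBy_eq_self_of_mem (inv_mem ha)] at this
  exact this.symm

/-- An element fixing all unipotent subgroups centralizes them. -/
theorem commute_of_fix (h : IsRankOnePair A B) {x : G}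
    (hfix : ∀ C ∈ unipotentSubgroups A B, conjBy C x = C) {a : G} (ha : a ∈ A) : x * a = a * x := by
  have hxA : conjBy A x = A := hfix A (mem_unip_left A B)
  have h1 : x * a * x⁻¹ * a⁻¹ ∈ A := mul_mem (hxA ▸ conj_mem_conjBy ha) (inv_mem ha)
  have h2 : conjBy B (x * a * x⁻¹ * a⁻¹) = B := by
    have haX : a⁻¹ ∈ A ⊔ B := inv_mem ((le_sup_left : A ≤ A ⊔ B) ha)
    have e1 := hfix _ (conj_mem_unip haX (mem_unip_right h))
    have e2 : conjBy (conjBy B a⁻¹) x⁻¹ = conjBy B a⁻¹ := by
      conv_lhs => rw [← e1]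
      rw [conjBy_conjBy, inv_mul_cancel, conjBy_one]
    rw [← conjBy_conjBy B a⁻¹ (x * a * x⁻¹), ← conjBy_conjBy _ x⁻¹ (x * a), e2, ← conjBy_conjBy _ a x]
    rw [conjBy_conjBy B a⁻¹ a, mul_inv_cancel, conjBy_one, hfix B (mem_unip_right h)]
  have := eq_one_of_normalizes h h1 h2
  calc x * a = x * a * x⁻¹ * a⁻¹ * (a * x) := by group
    _ = a * x := by rw [this, one_mul]

end Pair

section RankOneGroup

variable {X : Type*} [Group X] {A B : Subgroup X}

/-- A normal subgroup covers the group together with `A`, or is central. -/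
theorem normal_dichotomy (hgen : A ⊔ B = ⊤) (h : IsRankOnePair A B) (N : Subgroup X) (hN : N.Normal) :
    N ⊔ A = ⊤ ∨ N ≤ Subgroup.center X := by
  by_cases hfix : ∀ n ∈ N, ∀ C ∈ unipotentSubgroups A B, conjBy C n = C
  · refine Or.inr fun n hn => Subgroup.mem_center_iff.mpr fun x => ?_
    have hle : A ⊔ B ≤ Subgroup.centralizer ({n} : Set X) := by
      refine sup_le (fun a ha => Subgroup.mem_centralizer_singleton_iff.mpr ?_)
        (fun b hb => Subgroup.mem_centralizer_singleton_iff.mpr ?_)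
      · exact (commute_of_fix h (hfix n hn) ha).symm
      · exact (commute_of_fix (RankOnePair_symm h) (fun C hC => hfix n hn C (by rwa [unip_symm h])) hb).symm
    exact Subgroup.mem_centralizer_singleton_iff.mp (hle (hgen ▸ Subgroup.mem_top x))
  · push Not at hfix
    obtain ⟨n, hn, C, hC, hne⟩ := hfix
    refine Or.inl (eq_top_iff.mpr (hgen ▸ sup_le le_sup_right ?_))
    obtain ⟨x, -, rfl, hxB⟩ :=
      exists_map_pair h hC (conj_mem_unip (hgen ▸ Subgroup.mem_top n) hC) fun e => hne e.symm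
    rw [conjBy_conjBy] at hxB
    rw [← conjBy_eq_iff.mp hxB.symm]
    rintro _ ⟨a, ha, rfl⟩
    have hk : x⁻¹ * (n * x) ∈ N ⊔ A :=
      Subgroup.mem_sup_left (by simpa [mul_assoc] using hN.conj_mem n hn x⁻¹)
    show x⁻¹ * (n * x) * a * (x⁻¹ * (n * x))⁻¹ ∈ N ⊔ A
    exact mul_mem (mul_mem hk (Subgroup.mem_sup_right ha)) (inv_mem hk)

theorem not_nilpotent (hgen : A ⊔ B = ⊤) (h : IsRankOnePair A B) : ¬ Group.IsNilpotent X := by
  intro hnil
  obtain ⟨n, hn⟩ := Group.IsNilpotent.nilpotent X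
  have key : ∀ i, A ⊔ Subgroup.upperCentralSeries X (n - i) = ⊤ := by
    intro i
    induction i with
    | zero => rw [Nat.sub_zero, hn, sup_top_eq]
    | succ i ih =>
      rcases Nat.eq_zero_or_pos (n - i) with hz | hz
      · rw [show n - (i + 1) = n - i by omega]; exact ih
      obtain ⟨j, hj⟩ : ∃ j, n - i = j + 1 := ⟨n - i - 1, by omega⟩
      rw [show n - (i + 1) = j by omega]
      rw [hj] at ih
      set M := A ⊔ Subgroup.upperCentralSeries X j
      have hnorm : A ⊔ Subgroup.upperCentralSeries X (j + 1) ≤ Subgroup.normalizer (M : Set X) := by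
        refine sup_le ((le_sup_left : A ≤ M).trans Subgroup.le_normalizer) fun z hz => ?_
        have hstep : ∀ z ∈ Subgroup.upperCentralSeries X (j + 1), ∀ m ∈ M, z * m * z⁻¹ ∈ M := fun z hz m hm => by
          have := Subgroup.mem_upperCentralSeries_succ_iff.mp hz m
          have h2 : z * m * z⁻¹ * m⁻¹ ∈ M := Subgroup.mem_sup_right this
          simpa using mul_mem h2 hm
        refine Subgroup.mem_normalizer_iff.mpr fun m => ⟨hstep z hz m, fun hm => ?_⟩
        simpa [mul_assoc] using hstep z⁻¹ (inv_mem hz) _ hm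
      rw [ih] at hnorm
      have hB : B ≤ M := by
        obtain ⟨x, -, e⟩ := mem_unip_right h
        intro b hb
        rw [e, mem_conjBy] at hb
        have hx : x ∈ Subgroup.normalizer (M : Set X) := hnorm (Subgroup.mem_top x)
        have := (Subgroup.mem_normalizer_iff.mp hx _).mp ((le_sup_left : A ≤ M) hb)
        simpa [mul_assoc] using this
      exact eq_top_iff.mpr (hgen ▸ sup_le le_sup_left hB)
  have htop := key n
  rw [Nat.sub_self, Subgroup.upperCentralSeries_zero, sup_bot_eq] at htop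
  refine left_ne_bot (RankOnePair_symm h) ((Subgroup.eq_bot_iff_forall B).mpr fun b hb => ?_)
  refine eq_one_of_normalizes (RankOnePair_symm h) hb ?_
  exact conjBy_eq_self_of_mem (htop ▸ Subgroup.mem_top b)

end RankOneGroup

end Cfsg.Agent.Lib.RankOne
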