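import Cfsg.Agent.Lib.RankOne.CommCase
import Mathlib.GroupTheory.Nilpotent

/-!
# Three members in a chain of two commutator cases
-/

set_option autoImplicit false

namespace Cfsg.Agent.Lib.RankOne

open Cfsg
open scoped commutatorElement

variable {G : Type*} [Group G] {S : Set (Subgroup G)} {A B C : Subgroup G}

/-- Commutators of a subgroup given by generators. -/
theorem commutator_closure_le {s : Set G} {L N : Subgroup G}
    (hn : ∀ g ∈ s, g ∈ Subgroup.normalizer (N : Set G)) (h : ∀ g ∈ s, ∀ l ∈ L, ⁅g, l⁆ ∈ N) :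
    ⁅Subgroup.closure s, L⁆ ≤ N := by
  let T : Subgroup G :=
    { carrier := {x | x ∈ Subgroup.normalizer (N : Set G) ∧ ∀ l ∈ L, ⁅x, l⁆ ∈ N}
      one_mem' := ⟨one_mem _, fun l _ => by simp [commutatorElement_def]⟩
      mul_mem' := fun {x y} hx hy => ⟨mul_mem hx.1 hy.1, fun l hl => by
        have h1 := mul_mem ((Subgroup.mem_normalizer_iff.mp hx.1 _).mp (hy.2 l hl)) (hx.2 l hl)
        convert h1 using 1
        rw [commutatorElement_def, commutatorElement_def, commutatorElement_def]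
        group⟩
      inv_mem' := fun {x} hx => ⟨inv_mem hx.1, fun l hl => by
        have h1 := (Subgroup.mem_normalizer_iff.mp (inv_mem hx.1) _).mp (inv_mem (hx.2 l hl))
        convert h1 using 1
        rw [commutatorElement_def, commutatorElement_def]
        group⟩ }
  have hle : Subgroup.closure s ≤ T := (Subgroup.closure_le _).mpr fun g hg => ⟨hn g hg, h g hg⟩
  exact Subgroup.commutator_le.mpr fun x hx l hl => (hle hx).2 l hl

theorem commutator_sup_le {H K L N : Subgroup G} (hH : H ≤ Subgroup.normalizer (N : Set G))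
    (hK : K ≤ Subgroup.normalizer (N : Set G)) (h1 : ⁅H, L⁆ ≤ N) (h2 : ⁅K, L⁆ ≤ N) :
    ⁅H ⊔ K, L⁆ ≤ N := by
  rw [Subgroup.sup_eq_closure]
  exact commutator_closure_le (fun g hg => hg.elim (fun a => hH a) fun a => hK a)
    fun g hg l hl => hg.elim (fun a => h1 (Subgroup.commutator_mem_commutator a hl))
      fun a => h2 (Subgroup.commutator_mem_commutator a hl)

theorem le_normalizer_of_commutator {H N : Subgroup G} (h : ⁅H, N⁆ ≤ N) :
    H ≤ Subgroup.normalizer (N : Set G) := by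
  have key : ∀ x ∈ H, ∀ n ∈ N, x * n * x⁻¹ ∈ N := fun x hx n hn => by
    have h1 := mul_mem (h (Subgroup.commutator_mem_commutator hx hn)) hn
    rwa [commutatorElement_def, inv_mul_cancel_right] at h1
  intro x hx
  refine Subgroup.mem_normalizer_iff.mpr fun n => ⟨key x hx n, fun hn => ?_⟩
  simpa [mul_assoc] using key x⁻¹ (inv_mem hx) _ hn

theorem le_normalizer_of_commute {H N : Subgroup G} (h : ⁅H, N⁆ = ⊥) :
    H ≤ Subgroup.normalizer (N : Set G) :=
  le_normalizer_of_commutator (h.le.trans bot_le)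

theorem isMulCommutative_of_commutator {H : Subgroup G} (h : ⁅H, H⁆ = ⊥) : IsMulCommutative H :=
  ⟨⟨fun a b => Subtype.ext (commutator_eq_bot_iff.mp h a a.2 b b.2)⟩⟩

theorem commutator_self_eq_bot (hS : IsRootSubgroupSet S) (hA : A ∈ S) : ⁅A, A⁆ = ⊥ :=
  commutator_eq_bot_iff.mpr fun _ hx _ hy => commute_of_mem hS hA hx hy

/-- Commuting pieces of a join. -/
theorem commutator_sup_eq_bot {H K L : Subgroup G} (h1 : ⁅H, L⁆ = ⊥) (h2 : ⁅K, L⁆ = ⊥) :
    ⁅H ⊔ K, L⁆ = ⊥ := by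
  have hn : ∀ U : Subgroup G, U ≤ Subgroup.normalizer ((⊥ : Subgroup G) : Set G) := fun U x _ =>
    Subgroup.mem_normalizer_iff.mpr fun y => by simp
  exact le_bot_iff.mp (commutator_sup_le (hn H) (hn K) h1.le h2.le)

/-- Two commuting members `A`, `C` with `⁅A, B⁆` and `⁅B, C⁆` members. -/
structure Chain (S : Set (Subgroup G)) (A B C : Subgroup G) : Prop where
  hS : IsRootSubgroupSet S
  hA : A ∈ S
  hB : B ∈ S
  hC : C ∈ S
  hAB : ⁅A, B⁆ ∈ S
  hBC : ⁅B, C⁆ ∈ S
  hAC : ⁅A, C⁆ = ⊥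

theorem Chain.swap (h : Chain S A B C) : Chain S C B A where
  hS := h.hS
  hA := h.hC
  hB := h.hB
  hC := h.hA
  hAB := Subgroup.commutator_comm B C ▸ h.hBC
  hBC := Subgroup.commutator_comm A B ▸ h.hAB
  hAC := Subgroup.commutator_comm A C ▸ h.hAC

theorem Chain.central_left (h : Chain S A B C) :
    ⁅⁅A, B⁆, A⁆ = ⊥ ∧ ⁅⁅A, B⁆, B⁆ = ⊥ := by
  have hcc := comm_case_of_mem h.hS h.hA h.hB h.hAB
  exact ⟨commutator_eq_bot_iff.mpr fun z hz a ha => hcc.2.1 z hz a ((le_sup_left : A ≤ A ⊔ B) ha),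
    commutator_eq_bot_iff.mpr fun z hz b hb => hcc.2.1 z hz b ((le_sup_right : B ≤ A ⊔ B) hb)⟩

theorem Chain.central_right (h : Chain S A B C) :
    ⁅⁅B, C⁆, B⁆ = ⊥ ∧ ⁅⁅B, C⁆, C⁆ = ⊥ := by
  obtain ⟨h1, h2⟩ := h.swap.central_left
  rw [Subgroup.commutator_comm C B] at h1 h2
  exact ⟨h2, h1⟩

theorem Chain.commutator_eq_iff (h : Chain S A B C) :
    ⁅A, ⁅B, C⁆⁆ = ⊥ → ⁅⁅A, B⁆, C⁆ = ⊥ := by
  intro h1
  refine Subgroup.commutator_commutator_eq_bot_of_rotate ?_ ?_
  · rwa [Subgroup.commutator_comm]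
  · rw [Subgroup.commutator_comm C A, h.hAC]
    exact Subgroup.commutator_bot_left B

theorem Chain.conj_elt (h : Chain S A B C) {b : G} (hb : b ∈ B) (hb1 : b ≠ 1) {z : G}
    (hz : z ∈ ⁅B, C⁆) : ∃ c ∈ C, b * c * b⁻¹ = z * c := by
  obtain ⟨c, hc, e⟩ := comm_surjective (comm_case_of_mem h.hS h.hB h.hC h.hBC) hb hb1 hz
  exact ⟨c, hc, by rw [← e]; group⟩

theorem Chain.sup_eq (h : Chain S A B C) {b : G} (hb : b ∈ B) (hb1 : b ≠ 1) :
    C ⊔ conjBy C b = C ⊔ ⁅B, C⁆ := by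
  refine le_antisymm (sup_le le_sup_left fun x hx => ?_) (sup_le le_sup_left fun z hz => ?_)
  · have hc := mem_conjBy.mp hx
    have h1 := Subgroup.commutator_mem_commutator hb hc
    have h2 : x = ⁅b, b⁻¹ * x * b⁆ * (b⁻¹ * x * b) := by rw [commutatorElement_def]; group
    rw [h2]
    exact mul_mem ((le_sup_right : _ ≤ C ⊔ ⁅B, C⁆) h1) ((le_sup_left : C ≤ C ⊔ ⁅B, C⁆) hc)
  · obtain ⟨c, hc, e⟩ := h.conj_elt hb hb1 hz
    rw [show z = b * c * b⁻¹ * c⁻¹ by rw [e]; group]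
    exact mul_mem ((le_sup_right : _ ≤ C ⊔ conjBy C b) (conj_mem_conjBy hc))
      ((le_sup_left : C ≤ C ⊔ conjBy C b) (inv_mem hc))

theorem Chain.sup_eq_left (h : Chain S A B C) {b : G} (hb : b ∈ B) (hb1 : b ≠ 1) :
    A ⊔ conjBy A b = A ⊔ ⁅A, B⁆ := by
  rw [h.swap.sup_eq hb hb1, Subgroup.commutator_comm B A]

theorem Chain.base (h : Chain S A B C) {b : G} (hb : b ∈ B) (hb1 : b ≠ 1) :
    ⁅A, conjBy A b⁆ = ⊥ ∧ ⁅C, conjBy C b⁆ = ⊥ ∧ ⁅conjBy A b, conjBy C b⁆ = ⊥ ∧
      ⁅A, conjBy C b⁆ = ⁅A, ⁅B, C⁆⁆ ∧ ⁅conjBy A b, C⁆ = ⁅⁅A, B⁆, C⁆ := by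
  have hA' : ∀ x ∈ A ⊔ ⁅A, B⁆, ∀ a ∈ A, x * a = a * x := commutator_eq_bot_iff.mp
    (commutator_sup_eq_bot (commutator_self_eq_bot h.hS h.hA) h.central_left.1)
  have hC' : ∀ x ∈ C ⊔ ⁅B, C⁆, ∀ c ∈ C, x * c = c * x := commutator_eq_bot_iff.mp
    (commutator_sup_eq_bot (commutator_self_eq_bot h.hS h.hC) h.central_right.2)
  have hAC := commutator_eq_bot_iff.mp h.hAC
  refine ⟨?_, ?_, ?_, ?_, ?_⟩
  · exact commutator_eq_bot_iff.mpr fun a ha x hx =>
      (hA' x ((h.sup_eq_left hb hb1).le ((le_sup_right : _ ≤ A ⊔ conjBy A b) hx)) a ha).symm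
  · exact commutator_eq_bot_iff.mpr fun c hc x hx =>
      (hC' x ((h.sup_eq hb hb1).le ((le_sup_right : _ ≤ C ⊔ conjBy C b) hx)) c hc).symm
  · refine commutator_eq_bot_iff.mpr fun x hx y hy => ?_
    have := hAC _ (mem_conjBy.mp hx) _ (mem_conjBy.mp hy)
    calc x * y = b * ((b⁻¹ * x * b) * (b⁻¹ * y * b)) * b⁻¹ := by group
      _ = y * x := by rw [this]; group
  · refine le_antisymm (Subgroup.commutator_le.mpr fun a ha x hx => ?_)
      (Subgroup.commutator_le.mpr fun a ha z hz => ?_)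
    · have hc := mem_conjBy.mp hx
      have e : ⁅a, x⁆ = ⁅a, ⁅b, b⁻¹ * x * b⁆⁆ := by
        have h1 : x = ⁅b, b⁻¹ * x * b⁆ * (b⁻¹ * x * b) := by rw [commutatorElement_def]; group
        conv_lhs => rw [h1]
        rw [commutatorElement_def a, commutatorElement_def a, mul_inv_rev]
        have h2 : (b⁻¹ * x * b) * a⁻¹ = a⁻¹ * (b⁻¹ * x * b) := (hAC _ (inv_mem ha) _ hc).symm
        calc a * (⁅b, b⁻¹ * x * b⁆ * (b⁻¹ * x * b)) * a⁻¹ *
              ((b⁻¹ * x * b)⁻¹ * ⁅b, b⁻¹ * x * b⁆⁻¹)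
            = a * ⁅b, b⁻¹ * x * b⁆ * ((b⁻¹ * x * b) * a⁻¹) * (b⁻¹ * x * b)⁻¹ *
              ⁅b, b⁻¹ * x * b⁆⁻¹ := by simp only [mul_assoc]
          _ = _ := by rw [h2]; group
      rw [e]
      exact Subgroup.commutator_mem_commutator ha (Subgroup.commutator_mem_commutator hb hc)
    · obtain ⟨c, hc, e⟩ := h.conj_elt hb hb1 hz
      have e1 : ⁅a, z⁆ = ⁅a, b * c * b⁻¹⁆ := by
        rw [e, commutatorElement_def a, commutatorElement_def a, mul_inv_rev]
        have h2 : c * a⁻¹ = a⁻¹ * c := (hAC _ (inv_mem ha) _ hc).symm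
        calc a * z * a⁻¹ * z⁻¹ = a * z * (a⁻¹ * c) * c⁻¹ * z⁻¹ := by group
          _ = _ := by rw [← h2]; group
      rw [e1]
      exact Subgroup.commutator_mem_commutator ha (conj_mem_conjBy hc)
  · rw [Subgroup.commutator_comm ⁅A, B⁆, Subgroup.commutator_comm (conjBy A b)]
    refine le_antisymm (Subgroup.commutator_le.mpr fun a ha x hx => ?_)
      (Subgroup.commutator_le.mpr fun a ha z hz => ?_)
    · have hc := mem_conjBy.mp hx
      have e : ⁅a, x⁆ = ⁅a, ⁅b, b⁻¹ * x * b⁆⁆ := by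
        have h1 : x = ⁅b, b⁻¹ * x * b⁆ * (b⁻¹ * x * b) := by rw [commutatorElement_def]; group
        conv_lhs => rw [h1]
        rw [commutatorElement_def a, commutatorElement_def a, mul_inv_rev]
        have h2 : (b⁻¹ * x * b) * a⁻¹ = a⁻¹ * (b⁻¹ * x * b) := hAC _ hc _ (inv_mem ha)
        calc a * (⁅b, b⁻¹ * x * b⁆ * (b⁻¹ * x * b)) * a⁻¹ *
              ((b⁻¹ * x * b)⁻¹ * ⁅b, b⁻¹ * x * b⁆⁻¹)
            = a * ⁅b, b⁻¹ * x * b⁆ * ((b⁻¹ * x * b) * a⁻¹) * (b⁻¹ * x * b)⁻¹ *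
              ⁅b, b⁻¹ * x * b⁆⁻¹ := by simp only [mul_assoc]
          _ = _ := by rw [h2]; group
      rw [e, Subgroup.commutator_comm A B]
      exact Subgroup.commutator_mem_commutator ha (Subgroup.commutator_mem_commutator hb hc)
    · rw [Subgroup.commutator_comm A B] at hz
      obtain ⟨c, hc, e⟩ := h.swap.conj_elt hb hb1 hz
      have e1 : ⁅a, z⁆ = ⁅a, b * c * b⁻¹⁆ := by
        rw [e, commutatorElement_def a, commutatorElement_def a, mul_inv_rev]
        have h2 : c * a⁻¹ = a⁻¹ * c := hAC _ hc _ (inv_mem ha)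
        calc a * z * a⁻¹ * z⁻¹ = a * z * (a⁻¹ * c) * c⁻¹ * z⁻¹ := by group
          _ = _ := by rw [← h2]; group
      rw [e1]
      exact Subgroup.commutator_mem_commutator ha (conj_mem_conjBy hc)

/-- The commutator `⁅A, ⁅B, C⁆⁆` is centralized by all four subgroups. -/
theorem Chain.central_commutator (h : Chain S A B C) {b : G} (hb : b ∈ B) (hb1 : b ≠ 1) :
    (∀ U ∈ ({A, conjBy A b, C, conjBy C b} : Set (Subgroup G)), ⁅U, ⁅A, conjBy C b⁆⁆ = ⊥) ∧
      ⁅⁅A ⊔ conjBy C b, A ⊔ conjBy C b⁆, A ⊔ conjBy C b⁆ = ⊥ := by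
  obtain ⟨bAA, bCC, bAC, -, -⟩ := h.base hb hb1
  set Cb := conjBy C b
  have hCb : Cb ∈ S := h.hS.conj_mem C h.hC b
  set D := ⁅A, Cb⁆ with hDdef
  have hD : ⁅A, D⁆ = ⊥ ∧ ⁅Cb, D⁆ = ⊥ := by
    rcases h.hS.pair A h.hA Cb hCb with e | e | e
    · rw [hDdef, e]
      exact ⟨Subgroup.commutator_bot_right _, Subgroup.commutator_bot_right _⟩
    · exfalso
      obtain ⟨a, ha, ha1⟩ := (Subgroup.bot_or_exists_ne_one A).resolve_left (h.hS.ne_bot A h.hA)
      have hmem := conj_mem_conjBy (g := b) ha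
      have hcen : ∀ y ∈ A ⊔ Cb, b * a * b⁻¹ * y = y * (b * a * b⁻¹) := by
        intro y hy
        have := commutator_eq_bot_iff.mp (commutator_sup_eq_bot bAA
          (show ⁅Cb, conjBy A b⁆ = ⊥ by rw [Subgroup.commutator_comm]; exact bAC)) y hy _ hmem
        exact this.symm
      have hx1 : b * a * b⁻¹ ≠ 1 := by
        rw [Ne, conj_eq_one_iff]
        exact ha1
      refine translate h.hS h.hA hCb e hcen hx1 (inv_mem ha) (inv_ne_one.mpr ha1) h.hAB ?_
      rw [Subgroup.commutator_comm]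
      have := Subgroup.commutator_mem_commutator hb ha
      rwa [commutatorElement_def] at this
    · exact ⟨commutator_eq_bot_iff.mpr fun x hx y hy =>
        (e.2.1 y hy x ((le_sup_left : A ≤ A ⊔ Cb) hx)).symm,
        commutator_eq_bot_iff.mpr fun x hx y hy =>
          (e.2.1 y hy x ((le_sup_right : Cb ≤ A ⊔ Cb) hx)).symm⟩
  have hc : ∀ U : Subgroup G, ⁅A, U⁆ = ⊥ → ⁅Cb, U⁆ = ⊥ → ⁅U, D⁆ = ⊥ := by
    intro U h1 h2
    rw [Subgroup.commutator_comm]
    refine Subgroup.commutator_commutator_eq_bot_of_rotate ?_ ?_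
    · rw [h2]; exact Subgroup.commutator_bot_left _
    · rw [Subgroup.commutator_comm U A, h1]; exact Subgroup.commutator_bot_left _
  refine ⟨?_, ?_⟩
  · intro U hU
    simp only [Set.mem_insert_iff, Set.mem_singleton_iff] at hU
    rcases hU with rfl | rfl | rfl | rfl
    · exact hD.1
    · exact hc _ bAA (by rw [Subgroup.commutator_comm]; exact bAC)
    · exact hc _ h.hAC (by rw [Subgroup.commutator_comm]; exact bCC)
    · exact hD.2
  · have hnA : A ≤ Subgroup.normalizer (D : Set G) := le_normalizer_of_commute hD.1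
    have hnC : Cb ≤ Subgroup.normalizer (D : Set G) := le_normalizer_of_commute hD.2
    have h1 : ⁅A ⊔ Cb, A ⊔ Cb⁆ ≤ D := by
      refine commutator_sup_le hnA hnC ?_ ?_
      · rw [Subgroup.commutator_comm]
        refine commutator_sup_le hnA hnC ((commutator_self_eq_bot h.hS h.hA).le.trans bot_le) ?_
        rw [Subgroup.commutator_comm]
      · rw [Subgroup.commutator_comm]
        exact commutator_sup_le hnA hnC le_rfl ((commutator_self_eq_bot h.hS hCb).le.trans bot_le)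
    refine le_bot_iff.mp ((Subgroup.commutator_mono h1 le_rfl).trans ?_)
    rw [Subgroup.commutator_comm]
    exact (commutator_sup_eq_bot hD.1 hD.2).le

theorem Chain.main (h : Chain S A B C) {b : G} (hb : b ∈ B) (hb1 : b ≠ 1) :
    ((IsMulCommutative ↥(A ⊔ conjBy C b) ∧ IsMulCommutative ↥(conjBy A b ⊔ C)) ∨
      ((¬ IsMulCommutative ↥(A ⊔ conjBy C b) ∧
          ⁅⁅A ⊔ conjBy C b, A ⊔ conjBy C b⁆, A ⊔ conjBy C b⁆ = ⊥) ∧
        (¬ IsMulCommutative ↥(conjBy A b ⊔ C) ∧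
          ⁅⁅conjBy A b ⊔ C, conjBy A b ⊔ C⁆, conjBy A b ⊔ C⁆ = ⊥))) ∧
    ⁅A ⊔ conjBy C b, conjBy A b ⊔ C⁆ = ⊥ ∧
    (∀ r ∈ A ⊔ B ⊔ C, conjBy ((A ⊔ conjBy C b) ⊔ (conjBy A b ⊔ C)) r =
      (A ⊔ conjBy C b) ⊔ (conjBy A b ⊔ C)) ∧
    ((A ⊔ conjBy C b) ⊔ (conjBy A b ⊔ C)) ⊔ B = A ⊔ B ⊔ C ∧
    Group.IsNilpotent ↥(A ⊔ B ⊔ C) := by
  obtain ⟨bAA, bCC, bAC, bD, bD'⟩ := h.base hb hb1
  obtain ⟨hcD, hX⟩ := h.central_commutator hb hb1
  obtain ⟨hcD', hY⟩ := h.swap.central_commutator hb hb1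
  rw [Subgroup.commutator_comm C (conjBy A b)] at hcD'
  rw [sup_comm C (conjBy A b)] at hY
  have eA := h.sup_eq_left hb hb1
  have eC := h.sup_eq hb hb1
  set A' := ⁅A, B⁆ with hA'def
  set C' := ⁅B, C⁆ with hC'def
  have eN : (A ⊔ conjBy C b) ⊔ (conjBy A b ⊔ C) = (A ⊔ A') ⊔ (C ⊔ C') := by
    rw [← eA, ← eC]; ac_rfl
  refine ⟨?_, ?_, ?_⟩
  · by_cases h0 : ⁅A, C'⁆ = ⊥
    · left
      have h0' := h.commutator_eq_iff h0
      refine ⟨isMulCommutative_of_commutator ?_, isMulCommutative_of_commutator ?_⟩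
      · refine commutator_sup_eq_bot ?_ ?_ <;> rw [Subgroup.commutator_comm] <;>
          refine commutator_sup_eq_bot ?_ ?_
        · exact commutator_self_eq_bot h.hS h.hA
        · rw [Subgroup.commutator_comm, bD]; exact h0
        · rw [bD]; exact h0
        · exact commutator_self_eq_bot h.hS (h.hS.conj_mem C h.hC b)
      · refine commutator_sup_eq_bot ?_ ?_ <;> rw [Subgroup.commutator_comm] <;>
          refine commutator_sup_eq_bot ?_ ?_
        · exact commutator_self_eq_bot h.hS (h.hS.conj_mem A h.hA b)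
        · rw [Subgroup.commutator_comm, bD']; exact h0'
        · rw [bD']; exact h0'
        · exact commutator_self_eq_bot h.hS h.hC
    · right
      refine ⟨⟨fun hc => h0 ?_, hX⟩, fun hc => h0 ?_, hY⟩
      · rw [← bD]
        exact commutator_eq_bot_iff.mpr fun x hx y hy => congrArg Subtype.val
          (hc.is_comm.comm (⟨x, (le_sup_left : A ≤ A ⊔ conjBy C b) hx⟩ : ↥(A ⊔ conjBy C b))
            ⟨y, (le_sup_right : _ ≤ A ⊔ conjBy C b) hy⟩)
      · have h1 : ⁅⁅A, B⁆, C⁆ = ⊥ := by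
          rw [← bD']
          exact commutator_eq_bot_iff.mpr fun x hx y hy => congrArg Subtype.val
            (hc.is_comm.comm (⟨x, (le_sup_left : _ ≤ conjBy A b ⊔ C) hx⟩ : ↥(conjBy A b ⊔ C))
              ⟨y, (le_sup_right : _ ≤ conjBy A b ⊔ C) hy⟩)
        have := h.swap.commutator_eq_iff
          (by rw [Subgroup.commutator_comm B A, Subgroup.commutator_comm]; exact h1)
        rwa [Subgroup.commutator_comm C B, Subgroup.commutator_comm] at this
  · refine commutator_sup_eq_bot ?_ ?_ <;> rw [Subgroup.commutator_comm] <;>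
      refine commutator_sup_eq_bot ?_ ?_
    · rw [Subgroup.commutator_comm]; exact bAA
    · rw [Subgroup.commutator_comm]; exact h.hAC
    · exact bAC
    · exact bCC
  rw [eN]
  set N := (A ⊔ A') ⊔ (C ⊔ C') with hNdef
  set E₂ := ⁅A, C'⁆ ⊔ ⁅A', C⁆ with hE₂def
  set E₃ := ⁅A', C'⁆ with hE₃def
  set E₁ := A' ⊔ C' ⊔ E₂ with hE₁def
  -- `E₂` is centralized by `N`
  have hcE : ∀ U ∈ ({A, conjBy A b, C, conjBy C b} : Set (Subgroup G)), ⁅U, E₂⁆ = ⊥ := by
    intro U hU
    rw [Subgroup.commutator_comm]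
    refine commutator_sup_eq_bot ?_ ?_
    · rw [Subgroup.commutator_comm, ← bD]; exact hcD U hU
    · rw [Subgroup.commutator_comm, ← bD']
      refine hcD' U ?_
      simp only [Set.mem_insert_iff, Set.mem_singleton_iff] at hU ⊢
      tauto
  have hNE : ⁅N, E₂⁆ = ⊥ := by
    rw [hNdef, ← eA, ← eC]
    exact commutator_sup_eq_bot
      (commutator_sup_eq_bot (hcE A (by simp)) (hcE _ (by simp)))
      (commutator_sup_eq_bot (hcE C (by simp)) (hcE _ (by simp)))
  have hnN : ∀ U : Subgroup G, U ≤ N → U ≤ Subgroup.normalizer (E₂ : Set G) := fun U hU =>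
    hU.trans (le_normalizer_of_commute hNE)
  have hAN : A ≤ N := le_sup_left.trans le_sup_left
  have hA'N : A' ≤ N := le_sup_right.trans le_sup_left
  have hCN : C ≤ N := le_sup_left.trans le_sup_right
  have hC'N : C' ≤ N := le_sup_right.trans le_sup_right
  -- all commutators between `A ⊔ A'` and `C ⊔ C'` lie in `E₂`
  have hcross : ⁅A ⊔ A', C ⊔ C'⁆ ≤ E₂ := by
    have hAb : conjBy A b ≤ N := ((le_sup_right : _ ≤ A ⊔ conjBy A b).trans eA.le).trans le_sup_left
    have hCb : conjBy C b ≤ N := ((le_sup_right : _ ≤ C ⊔ conjBy C b).trans eC.le).trans le_sup_right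
    rw [← eA, ← eC]
    refine commutator_sup_le (hnN _ hAN) (hnN _ hAb) ?_ ?_ <;> rw [Subgroup.commutator_comm] <;>
      refine commutator_sup_le (hnN _ hCN) (hnN _ hCb) ?_ ?_ <;> rw [Subgroup.commutator_comm]
    · rw [h.hAC]; exact bot_le
    · rw [bD]; exact le_sup_left
    · rw [bD']; exact le_sup_right
    · rw [bAC]; exact bot_le
  have hE₃le : E₃ ≤ E₂ := (Subgroup.commutator_mono le_sup_right le_sup_right).trans hcross
  have hNE₃ : ⁅N, E₃⁆ = ⊥ := le_bot_iff.mp ((Subgroup.commutator_mono le_rfl hE₃le).trans hNE.le)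
  have hBA' : ⁅B, A'⁆ = ⊥ := by rw [Subgroup.commutator_comm]; exact h.central_left.2
  have hBC' : ⁅B, C'⁆ = ⊥ := by rw [Subgroup.commutator_comm]; exact h.central_right.1
  have hBE₃ : ⁅B, E₃⁆ = ⊥ := by
    rw [Subgroup.commutator_comm]
    refine Subgroup.commutator_commutator_eq_bot_of_rotate ?_ ?_
    · rw [Subgroup.commutator_comm C' B, hBC']; exact Subgroup.commutator_bot_left _
    · rw [hBA']; exact Subgroup.commutator_bot_left _
  have hnE₃ : ∀ U : Subgroup G, U ≤ N → U ≤ Subgroup.normalizer (E₃ : Set G) := fun U hU =>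
    hU.trans (le_normalizer_of_commute hNE₃)
  -- `⁅E₂, B⁆ ≤ E₃`
  have hE₂B : ⁅E₂, B⁆ ≤ E₃ := by
    have hD₁N : ⁅A, C'⁆ ≤ Subgroup.normalizer (E₃ : Set G) :=
      (Subgroup.commutator_le.mpr fun x hx y hy => by
        rw [commutatorElement_def]
        exact mul_mem (mul_mem (mul_mem (hAN hx) (hC'N hy)) (inv_mem (hAN hx))) (inv_mem (hC'N hy))).trans
        (le_normalizer_of_commute hNE₃)
    have hD₂N : ⁅A', C⁆ ≤ Subgroup.normalizer (E₃ : Set G) :=
      (Subgroup.commutator_le.mpr fun x hx y hy => by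
        rw [commutatorElement_def]
        exact mul_mem (mul_mem (mul_mem (hA'N hx) (hCN hy)) (inv_mem (hA'N hx))) (inv_mem (hCN hy))).trans
        (le_normalizer_of_commute hNE₃)
    have cE : ∀ x ∈ N, ∀ e ∈ E₂, x * e = e * x := commutator_eq_bot_iff.mp hNE
    have cB : ∀ y ∈ A' ⊔ C', ∀ x ∈ B, y * x = x * y := commutator_eq_bot_iff.mp (commutator_sup_eq_bot
      (show ⁅A', B⁆ = ⊥ by rw [Subgroup.commutator_comm]; exact hBA')
      (show ⁅C', B⁆ = ⊥ by rw [Subgroup.commutator_comm]; exact hBC'))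
    refine commutator_sup_le hD₁N hD₂N ?_ ?_
    · refine commutator_closure_le ?_ ?_
      · rintro _ ⟨a, ha, z, hz, rfl⟩
        exact hD₁N (Subgroup.commutator_mem_commutator ha hz)
      · rintro _ ⟨a, ha, z, hz, rfl⟩ x hx
        have hz' := cB z ((le_sup_right : C' ≤ A' ⊔ C') hz) x hx
        set w := x * a * x⁻¹ * a⁻¹ with hw
        have hwA : w ∈ A' := by
          rw [hA'def, Subgroup.commutator_comm]
          have := Subgroup.commutator_mem_commutator hx ha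
          rwa [commutatorElement_def] at this
        have haz : ⁅a, z⁆ ∈ E₂ := (le_sup_left : _ ≤ E₂) (Subgroup.commutator_mem_commutator ha hz)
        have e1 : x * ⁅a, z⁆ * x⁻¹ = ⁅w * a, z⁆ := by
          rw [hw, inv_mul_cancel_right, commutatorElement_def, commutatorElement_def]
          have hz1 : x * z * x⁻¹ = z := by rw [← hz', mul_inv_cancel_right]
          calc x * (a * z * a⁻¹ * z⁻¹) * x⁻¹
              = (x * a * x⁻¹) * (x * z * x⁻¹) * (x * a * x⁻¹)⁻¹ * (x * z * x⁻¹)⁻¹ := by group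
            _ = _ := by rw [hz1]
        have e2 : ⁅w * a, z⁆ = ⁅a, z⁆ * ⁅w, z⁆ := by
          calc ⁅w * a, z⁆ = w * ⁅a, z⁆ * w⁻¹ * ⁅w, z⁆ := by
                simp only [commutatorElement_def]; group
            _ = _ := by rw [cE w (hA'N hwA) _ haz, mul_inv_cancel_right]
        rw [commutatorElement_def ⁅a, z⁆ x,
          show ⁅a, z⁆ * x * ⁅a, z⁆⁻¹ * x⁻¹ = ⁅a, z⁆ * (x * ⁅a, z⁆ * x⁻¹)⁻¹ by group, e1, e2, mul_inv_rev]
        have hwz := inv_mem (Subgroup.commutator_mem_commutator hwA hz)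
        rw [show ⁅a, z⁆ * (⁅w, z⁆⁻¹ * ⁅a, z⁆⁻¹) = ⁅a, z⁆ * ⁅w, z⁆⁻¹ * ⁅a, z⁆⁻¹ by group,
          cE _ (hE₃le.trans ?_ hwz) _ haz |>.symm, mul_inv_cancel_right]
        · exact hwz
        · refine sup_le ?_ ?_ <;> refine Subgroup.commutator_le.mpr fun u hu v hv => ?_ <;>
            rw [commutatorElement_def]
          · exact mul_mem (mul_mem (mul_mem (hAN hu) (hC'N hv)) (inv_mem (hAN hu))) (inv_mem (hC'N hv))
          · exact mul_mem (mul_mem (mul_mem (hA'N hu) (hCN hv)) (inv_mem (hA'N hu))) (inv_mem (hCN hv))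
    · rw [Subgroup.commutator_comm A' C]
      refine commutator_closure_le ?_ ?_
      · rintro _ ⟨c, hc, z, hz, rfl⟩
        exact hD₂N (Subgroup.commutator_comm A' C ▸ Subgroup.commutator_mem_commutator hc hz)
      · rintro _ ⟨c, hc, z, hz, rfl⟩ x hx
        have hz' := cB z ((le_sup_left : A' ≤ A' ⊔ C') hz) x hx
        set w := x * c * x⁻¹ * c⁻¹ with hw
        have hwC : w ∈ C' := by
          have := Subgroup.commutator_mem_commutator hx hc
          rwa [commutatorElement_def] at this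
        have hcz : ⁅c, z⁆ ∈ E₂ := (le_sup_right : _ ≤ E₂)
          (Subgroup.commutator_comm C A' ▸ Subgroup.commutator_mem_commutator hc hz)
        have e1 : x * ⁅c, z⁆ * x⁻¹ = ⁅w * c, z⁆ := by
          rw [hw, inv_mul_cancel_right, commutatorElement_def, commutatorElement_def]
          have hz1 : x * z * x⁻¹ = z := by rw [← hz', mul_inv_cancel_right]
          calc x * (c * z * c⁻¹ * z⁻¹) * x⁻¹
              = (x * c * x⁻¹) * (x * z * x⁻¹) * (x * c * x⁻¹)⁻¹ * (x * z * x⁻¹)⁻¹ := by group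
            _ = _ := by rw [hz1]
        have e2 : ⁅w * c, z⁆ = ⁅c, z⁆ * ⁅w, z⁆ := by
          calc ⁅w * c, z⁆ = w * ⁅c, z⁆ * w⁻¹ * ⁅w, z⁆ := by
                simp only [commutatorElement_def]; group
            _ = _ := by rw [cE w (hC'N hwC) _ hcz, mul_inv_cancel_right]
        have hwz : ⁅w, z⁆⁻¹ ∈ E₃ :=
          inv_mem (by rw [hE₃def, Subgroup.commutator_comm]; exact Subgroup.commutator_mem_commutator hwC hz)
        have hwN : ⁅w, z⁆⁻¹ ∈ N := by
          rw [commutatorElement_def]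
          exact inv_mem (mul_mem (mul_mem (mul_mem (hC'N hwC) (hA'N hz)) (inv_mem (hC'N hwC)))
            (inv_mem (hA'N hz)))
        rw [commutatorElement_def ⁅c, z⁆ x,
          show ⁅c, z⁆ * x * ⁅c, z⁆⁻¹ * x⁻¹ = ⁅c, z⁆ * (x * ⁅c, z⁆ * x⁻¹)⁻¹ by group, e1, e2, mul_inv_rev,
          ← mul_assoc, ← cE _ hwN _ hcz, mul_inv_cancel_right]
        exact hwz
  -- `B` normalizes `N`
  have hE₂N : E₂ ≤ N := by
    refine sup_le ?_ ?_ <;> refine Subgroup.commutator_le.mpr fun u hu v hv => ?_ <;>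
      rw [commutatorElement_def]
    · exact mul_mem (mul_mem (mul_mem (hAN hu) (hC'N hv)) (inv_mem (hAN hu))) (inv_mem (hC'N hv))
    · exact mul_mem (mul_mem (mul_mem (hA'N hu) (hCN hv)) (inv_mem (hA'N hu))) (inv_mem (hCN hv))
  have hnNN : ∀ U : Subgroup G, U ≤ N → U ≤ Subgroup.normalizer (N : Set G) := fun U hU =>
    hU.trans Subgroup.le_normalizer
  have hBN : B ≤ Subgroup.normalizer (N : Set G) := by
    refine le_normalizer_of_commutator ?_
    rw [Subgroup.commutator_comm]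
    refine commutator_sup_le (hnNN _ le_sup_left) (hnNN _ le_sup_right) ?_ ?_
    · exact commutator_sup_le (hnNN _ hAN) (hnNN _ hA'N) hA'N
        (by rw [Subgroup.commutator_comm, hBA']; exact bot_le)
    · exact commutator_sup_le (hnNN _ hCN) (hnNN _ hC'N) (by rw [Subgroup.commutator_comm]; exact hC'N)
        (by rw [Subgroup.commutator_comm, hBC']; exact bot_le)
  set R := A ⊔ B ⊔ C with hRdef
  have hRN : R ≤ Subgroup.normalizer (N : Set G) :=
    sup_le (sup_le (hnNN _ hAN) hBN) (hnNN _ hCN)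
  refine ⟨fun r hr => mem_normalizer_iff.mp (hRN hr), ?_, ?_⟩
  · have hA'R : A' ≤ R := Subgroup.commutator_le.mpr fun x hx y hy => by
      have hx' : x ∈ R := (le_sup_left.trans le_sup_left : A ≤ R) hx
      have hy' : y ∈ R := (le_sup_right.trans le_sup_left : B ≤ R) hy
      rw [commutatorElement_def]
      exact mul_mem (mul_mem (mul_mem hx' hy') (inv_mem hx')) (inv_mem hy')
    have hC'R : C' ≤ R := Subgroup.commutator_le.mpr fun x hx y hy => by
      have hx' : x ∈ R := (le_sup_right.trans le_sup_left : B ≤ R) hx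
      have hy' : y ∈ R := (le_sup_right : C ≤ R) hy
      rw [commutatorElement_def]
      exact mul_mem (mul_mem (mul_mem hx' hy') (inv_mem hx')) (inv_mem hy')
    refine le_antisymm (sup_le (sup_le (sup_le (le_sup_left.trans le_sup_left) hA'R)
      (sup_le le_sup_right hC'R)) (le_sup_right.trans le_sup_left)) ?_
    exact sup_le (sup_le (hAN.trans le_sup_left) le_sup_right) (hCN.trans le_sup_left)
  -- nilpotency
  have cA : ⁅A, A'⁆ = ⊥ := by rw [Subgroup.commutator_comm]; exact h.central_left.1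
  have cC : ⁅C, C'⁆ = ⊥ := by rw [Subgroup.commutator_comm]; exact h.central_right.2
  have hE₁N : E₁ ≤ N := sup_le (sup_le hA'N hC'N) hE₂N
  have hE₂n : R ≤ Subgroup.normalizer (E₂ : Set G) :=
    sup_le (sup_le (hnN _ hAN) (le_normalizer_of_commutator
      (by rw [Subgroup.commutator_comm]; exact hE₂B.trans hE₃le))) (hnN _ hCN)
  have hE₁E₂ : ⁅E₁, R⁆ ≤ E₂ := by
    rw [Subgroup.commutator_comm]
    refine commutator_sup_le ((le_sup_left : A ⊔ B ≤ R).trans hE₂n) (hnN _ hCN) ?_ ?_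
    · refine commutator_sup_le (hnN _ hAN) ((le_sup_right.trans le_sup_left : B ≤ R).trans hE₂n) ?_ ?_
      · rw [Subgroup.commutator_comm]
        refine commutator_sup_le (hnN _ (sup_le hA'N hC'N)) (hnN _ hE₂N) ?_ ?_
        · refine commutator_sup_le (hnN _ hA'N) (hnN _ hC'N) ?_ ?_
          · rw [Subgroup.commutator_comm, cA]; exact bot_le
          · rw [Subgroup.commutator_comm]; exact le_sup_left
        · rw [Subgroup.commutator_comm, hcE A (by simp)]; exact bot_le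
      · rw [Subgroup.commutator_comm]
        refine commutator_sup_le (hnN _ (sup_le hA'N hC'N)) (hnN _ hE₂N) ?_ (hE₂B.trans hE₃le)
        refine commutator_sup_le (hnN _ hA'N) (hnN _ hC'N) ?_ ?_
        · rw [Subgroup.commutator_comm, hBA']; exact bot_le
        · rw [Subgroup.commutator_comm, hBC']; exact bot_le
    · rw [Subgroup.commutator_comm]
      refine commutator_sup_le (hnN _ (sup_le hA'N hC'N)) (hnN _ hE₂N) ?_ ?_
      · refine commutator_sup_le (hnN _ hA'N) (hnN _ hC'N) ?_ ?_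
        · exact le_sup_right
        · rw [Subgroup.commutator_comm, cC]; exact bot_le
      · rw [Subgroup.commutator_comm, hcE C (by simp)]; exact bot_le
  have hE₁n : R ≤ Subgroup.normalizer (E₁ : Set G) :=
    le_normalizer_of_commutator (by rw [Subgroup.commutator_comm]; exact hE₁E₂.trans le_sup_right)
  have hnA : A ≤ Subgroup.normalizer (E₁ : Set G) := (le_sup_left.trans le_sup_left : A ≤ R).trans hE₁n
  have hnB : B ≤ Subgroup.normalizer (E₁ : Set G) := (le_sup_right.trans le_sup_left : B ≤ R).trans hE₁n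
  have hnC : C ≤ Subgroup.normalizer (E₁ : Set G) := (le_sup_right : C ≤ R).trans hE₁n
  have hRR : ⁅R, R⁆ ≤ E₁ := by
    refine commutator_sup_le ((le_sup_left : A ⊔ B ≤ R).trans hE₁n) hnC ?_ ?_
    · refine commutator_sup_le hnA hnB ?_ ?_ <;> rw [Subgroup.commutator_comm] <;>
        refine commutator_sup_le ((le_sup_left : A ⊔ B ≤ R).trans hE₁n) hnC ?_ ?_
      · refine commutator_sup_le hnA hnB ?_ ?_
        · rw [commutator_self_eq_bot h.hS h.hA]; exact bot_le
        · rw [Subgroup.commutator_comm]; exact le_sup_left.trans le_sup_left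
      · rw [Subgroup.commutator_comm, h.hAC]; exact bot_le
      · refine commutator_sup_le hnA hnB ?_ ?_
        · exact le_sup_left.trans le_sup_left
        · rw [commutator_self_eq_bot h.hS h.hB]; exact bot_le
      · rw [Subgroup.commutator_comm]; exact le_sup_right.trans le_sup_left
    · rw [Subgroup.commutator_comm]
      refine commutator_sup_le ((le_sup_left : A ⊔ B ≤ R).trans hE₁n) hnC ?_ ?_
      · refine commutator_sup_le hnA hnB ?_ ?_
        · rw [h.hAC]; exact bot_le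
        · exact le_sup_right.trans le_sup_left
      · rw [commutator_self_eq_bot h.hS h.hC]; exact bot_le
  have hE₃n : R ≤ Subgroup.normalizer (E₃ : Set G) :=
    sup_le (sup_le (hnE₃ _ hAN) (le_normalizer_of_commute hBE₃)) (hnE₃ _ hCN)
  have hE₂E₃ : ⁅E₂, R⁆ ≤ E₃ := by
    rw [Subgroup.commutator_comm]
    refine commutator_sup_le ((le_sup_left : A ⊔ B ≤ R).trans hE₃n) (hnE₃ _ hCN) ?_ ?_
    · refine commutator_sup_le (hnE₃ _ hAN) (le_normalizer_of_commute hBE₃) ?_ ?_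
      · rw [hcE A (by simp)]; exact bot_le
      · rw [Subgroup.commutator_comm]; exact hE₂B
    · rw [hcE C (by simp)]; exact bot_le
  have hE₃R : ⁅E₃, R⁆ = ⊥ := by
    rw [Subgroup.commutator_comm]
    exact commutator_sup_eq_bot (commutator_sup_eq_bot
      (le_bot_iff.mp ((Subgroup.commutator_mono hAN le_rfl).trans hNE₃.le)) hBE₃)
      (le_bot_iff.mp ((Subgroup.commutator_mono hCN le_rfl).trans hNE₃.le))
  refine (Subgroup.isNilpotent_iff_lowerCentralSeries R).mpr ⟨4, le_bot_iff.mp ?_⟩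
  simp only [Subgroup.lowerCentralSeries_succ, Subgroup.lowerCentralSeries_zero]
  calc ⁅⁅⁅⁅R, R⁆, R⁆, R⁆, R⁆ ≤ ⁅⁅⁅E₁, R⁆, R⁆, R⁆ :=
        Subgroup.commutator_mono (Subgroup.commutator_mono (Subgroup.commutator_mono hRR le_rfl) le_rfl) le_rfl
    _ ≤ ⁅⁅E₂, R⁆, R⁆ :=
        Subgroup.commutator_mono (Subgroup.commutator_mono hE₁E₂ le_rfl) le_rfl
    _ ≤ ⁅E₃, R⁆ := Subgroup.commutator_mono hE₂E₃ le_rfl
    _ = ⊥ := hE₃R

end Cfsg.Agent.Lib.RankOne
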