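import Cfsg.Agent.Lib.RankOne.RootSets

/-!
# The commutator case for two root subgroups
-/

set_option autoImplicit false

namespace Cfsg.Agent.Lib.RankOne

open Cfsg

variable {G : Type*} [Group G] {S : Set (Subgroup G)} {A B : Subgroup G}

/-- If the commutator subgroup of two members is a member, then they are in the commutator case. -/
theorem comm_case_of_mem (hS : IsRootSubgroupSet S) (hA : A ∈ S) (hB : B ∈ S) (hC : ⁅A, B⁆ ∈ S) :
    RootCommutatorCase S A B := by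
  rcases hS.pair A hA B hB with h | h | h
  · exact absurd h (hS.ne_bot _ hC)
  swap
  · exact h
  exfalso
  set C := ⁅A, B⁆
  have hnA : ∀ a ∈ A, conjBy C a = C := by
    intro a ha
    refine mem_normalizer_iff.mp (?_ : a ∈ Subgroup.normalizer (C : Set G))
    exact Subgroup.normalizer_commutator_ge_left A B ha
  have hnB : ∀ b ∈ B, conjBy C b = C := by
    intro b hb
    refine mem_normalizer_iff.mp (?_ : b ∈ Subgroup.normalizer (C : Set G))
    exact Subgroup.normalizer_commutator_ge_right A B hb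
  have hn : ∀ x ∈ A ⊔ B, conjBy C x = C := fun x hx =>
    mem_normalizer_iff.mp ((sup_le (fun a ha => mem_normalizer_iff.mpr (hnA a ha))
      (fun b hb => mem_normalizer_iff.mpr (hnB b hb)) :
        A ⊔ B ≤ Subgroup.normalizer (C : Set G)) hx)
  have hle : C ≤ A ⊔ B := Subgroup.commutator_le.mpr fun a ha b hb => by
    rw [commutatorElement_def]
    exact mul_mem (mul_mem (mul_mem ((le_sup_left : A ≤ A ⊔ B) ha) ((le_sup_right : B ≤ A ⊔ B) hb))
      (inv_mem ((le_sup_left : A ≤ A ⊔ B) ha))) (inv_mem ((le_sup_right : B ≤ A ⊔ B) hb))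
  have hfix : ∀ c ∈ C, ∀ E ∈ unipotentSubgroups A B, conjBy E c = E := by
    intro c hc E hE
    refine (fix_or_pair hS hC (unip_mem_set hS hA hE) h hE hc (conj_mem_unip (hle hc) hE)).resolve_right fun hp => ?_
    have hp' := RankOnePair_symm hp
    exact left_ne_bot hp' ((Subgroup.eq_bot_iff_forall E).mpr fun x hx =>
      eq_one_of_normalizes hp' hx (hn x (unip_le hE hx)))
  refine h.ne (eq_of_commute h (mem_unip_left A B) (mem_unip_right h) (commutator_eq_bot_iff.mpr fun a ha y hy => ?_))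
  obtain ⟨x, hx, hxB⟩ := mem_unip_right h
  rw [hxB] at hy
  set a₀ := x⁻¹ * y * x with ha₀def
  have ha₀ : a₀ ∈ A := mem_conjBy.mp hy
  have hz : x * a₀ * x⁻¹ * a₀⁻¹ ∈ C := by
    let K : Subgroup G :=
      { carrier := {x | x ∈ A ⊔ B ∧ x * a₀ * x⁻¹ * a₀⁻¹ ∈ C}
        one_mem' := ⟨one_mem _, by simp⟩
        mul_mem' := fun {x y} hx' hy' => ⟨mul_mem hx'.1 hy'.1, by
          have h1 := conj_mem_conjBy (g := x) hy'.2
          rw [hn x hx'.1] at h1
          have h2 := mul_mem h1 hx'.2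
          convert h2 using 1
          group⟩
        inv_mem' := fun {x} hx' => ⟨inv_mem hx'.1, by
          have h1 := conj_mem_conjBy (g := x⁻¹) (inv_mem hx'.2)
          rw [hn _ (inv_mem hx'.1)] at h1
          convert h1 using 1
          group⟩ }
    have hK : A ⊔ B ≤ K := by
      refine sup_le (fun a ha => ⟨(le_sup_left : A ≤ A ⊔ B) ha, ?_⟩) (fun b hb => ⟨(le_sup_right : B ≤ A ⊔ B) hb, ?_⟩)
      · rw [commute_of_mem hS hA ha ha₀, mul_inv_cancel_right, mul_inv_cancel]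
        exact one_mem _
      · have h1 := inv_mem (Subgroup.commutator_mem_commutator ha₀ hb)
        rw [commutatorElement_def] at h1
        convert h1 using 1
        group
    exact (hK hx).2
  have hy' : y = (x * a₀ * x⁻¹ * a₀⁻¹) * a₀ := by rw [ha₀def]; group
  have h1 := commute_of_fix h (hfix _ hz) ha
  rw [hy', ← mul_assoc, ← h1, mul_assoc, commute_of_mem hS hA ha ha₀, ← mul_assoc]

theorem comm_map_mul (hcc : RootCommutatorCase S A B) {a b b' : G} (ha : a ∈ A) (hb : b ∈ B) (hb' : b' ∈ B) :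
    a * (b * b') * a⁻¹ * (b * b')⁻¹ = (a * b * a⁻¹ * b⁻¹) * (a * b' * a⁻¹ * b'⁻¹) := by
  have h1 := hcc.2.1 _ (Subgroup.commutator_mem_commutator ha hb') b ((le_sup_right : B ≤ A ⊔ B) hb)
  rw [commutatorElement_def] at h1
  calc a * (b * b') * a⁻¹ * (b * b')⁻¹ = a * b * a⁻¹ * ((a * b' * a⁻¹ * b'⁻¹) * b⁻¹) := by group
    _ = a * b * a⁻¹ * (b⁻¹ * (b * (a * b' * a⁻¹ * b'⁻¹)) * b⁻¹) := by group
    _ = a * b * a⁻¹ * (b⁻¹ * ((a * b' * a⁻¹ * b'⁻¹) * b) * b⁻¹) := by rw [h1]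
    _ = _ := by group

/-- The map `b ↦ a b a⁻¹ b⁻¹` into the commutator subgroup. -/
def commHom (hcc : RootCommutatorCase S A B) (a : A) : B →* (⁅A, B⁆ : Subgroup G) where
  toFun b := ⟨(a : G) * b * (a : G)⁻¹ * (b : G)⁻¹, Subgroup.commutator_mem_commutator a.2 b.2⟩
  map_one' := Subtype.ext (by simp)
  map_mul' b b' := Subtype.ext (comm_map_mul hcc a.2 b.2 b'.2)

theorem comm_surjective (hcc : RootCommutatorCase S A B) {a : G} (ha : a ∈ A) (ha1 : a ≠ 1) {c : G}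
    (hc : c ∈ ⁅A, B⁆) : ∃ b ∈ B, a * b * a⁻¹ * b⁻¹ = c := by
  have hle : Subgroup.closure ((fun b : G => a * b * a⁻¹ * b⁻¹) '' (B : Set G)) ≤
      (commHom hcc ⟨a, ha⟩).range.map (⁅A, B⁆ : Subgroup G).subtype := by
    rw [Subgroup.closure_le]
    rintro _ ⟨b, hb, rfl⟩
    exact ⟨_, ⟨⟨b, hb⟩, rfl⟩, rfl⟩
  rw [hcc.2.2.1 a ha ha1] at hle
  obtain ⟨_, ⟨b, rfl⟩, e⟩ := hle hc
  exact ⟨b, b.2, e⟩

theorem left_ne_commutator (hcc : RootCommutatorCase S A B) (hne : ⁅A, B⁆ ≠ ⊥) : A ≠ ⁅A, B⁆ := by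
  intro e
  refine hne (commutator_eq_bot_iff.mpr fun a ha b hb => ?_)
  exact hcc.2.1 a (e ▸ ha) b ((le_sup_right : B ≤ A ⊔ B) hb)

theorem comm_eq_one (hS : IsRootSubgroupSet S) (hcc : RootCommutatorCase S A B) {D : Subgroup G} (hA : A ∈ S)
    (hD : D ∈ S) (hp : IsRankOnePair A D) {a b : G} (ha : a ∈ A) (ha1 : a ≠ 1) (hb : b ∈ B)
    (h : a * b * a⁻¹ * b⁻¹ = 1) : b = 1 := by
  by_contra hb1
  have hC0 := hS.ne_bot _ hcc.1
  have hab : b * a * b⁻¹ = a := by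
    rw [mul_inv_eq_one] at h
    nth_rewrite 1 [← h]
    group
  have hM : conjBy A b = A := ((inf_eq_bot_or_eq hS hA (hS.conj_mem A hA b) hD hp).resolve_left
    fun e => ha1 (e ▸ (⟨ha, hab ▸ conj_mem_conjBy ha⟩ : a ∈ A ⊓ conjBy A b) : a ∈ (⊥ : Subgroup G))).symm
  have hcap : A ⊓ ⁅A, B⁆ = ⊥ :=
    (inf_eq_bot_or_eq hS hA hcc.1 hD hp).resolve_right (left_ne_commutator hcc hC0)
  refine hC0 ?_
  rw [← hcc.2.2.2 b hb hb1, Subgroup.closure_eq_bot_iff]
  rintro _ ⟨x, hx, rfl⟩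
  have h1 : x * b * x⁻¹ * b⁻¹ ∈ A ⊓ ⁅A, B⁆ := by
    refine ⟨?_, Subgroup.commutator_mem_commutator hx hb⟩
    have h2 := conj_mem_conjBy (A := A) (g := b) (inv_mem hx)
    rw [hM] at h2
    rw [show x * b * x⁻¹ * b⁻¹ = x * (b * x⁻¹ * b⁻¹) by group]
    exact mul_mem hx h2
  rw [hcap] at h1
  exact h1

theorem exists_mem_sup (hcc : RootCommutatorCase S A B) {x : G} (hx : x ∈ A ⊔ ⁅A, B⁆) :
    ∃ a ∈ A, ∃ c ∈ ⁅A, B⁆, x = a * c := by
  have hcom : ∀ c ∈ ⁅A, B⁆, ∀ a ∈ A, c * a = a * c := fun c hc a ha =>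
    hcc.2.1 c hc a ((le_sup_left : A ≤ A ⊔ B) ha)
  let T : Subgroup G :=
    { carrier := {x | ∃ a ∈ A, ∃ c ∈ ⁅A, B⁆, x = a * c}
      one_mem' := ⟨1, one_mem _, 1, one_mem _, (mul_one 1).symm⟩
      mul_mem' := by
        rintro _ _ ⟨a, ha, c, hc, rfl⟩ ⟨a', ha', c', hc', rfl⟩
        refine ⟨a * a', mul_mem ha ha', c * c', mul_mem hc hc', ?_⟩
        calc a * c * (a' * c') = a * (c * a') * c' := by group
          _ = a * a' * (c * c') := by rw [hcom c hc a' ha']; group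
      inv_mem' := by
        rintro _ ⟨a, ha, c, hc, rfl⟩
        exact ⟨a⁻¹, inv_mem ha, c⁻¹, inv_mem hc, by rw [mul_inv_rev, hcom _ (inv_mem hc) _ (inv_mem ha)]⟩ }
  have hle : A ⊔ ⁅A, B⁆ ≤ T :=
    sup_le (fun a ha => ⟨a, ha, 1, one_mem _, (mul_one a).symm⟩) fun c hc => ⟨1, one_mem _, c, hc, (one_mul c).symm⟩
  exact hle hx

theorem cover (hcc : RootCommutatorCase S A B) {x : G} (hx : x ∈ A ⊔ ⁅A, B⁆) :
    x ∈ ⁅A, B⁆ ∨ ∃ b ∈ B, x ∈ conjBy A b := by
  obtain ⟨a, ha, c, hc, rfl⟩ := exists_mem_sup hcc hx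
  by_cases ha1 : a = 1
  · left; rwa [ha1, one_mul]
  right
  obtain ⟨b, hb, e⟩ := comm_surjective hcc ha ha1 (inv_mem hc)
  refine ⟨b, hb, mem_conjBy.mpr ?_⟩
  have h1 : a * c = b * a * b⁻¹ := by
    rw [← hcc.2.1 c hc a ((le_sup_left : A ≤ A ⊔ B) ha), ← inv_inv c, ← e]
    group
  rw [h1]
  simpa [mul_assoc] using ha

theorem conj_le_sup (hcc : RootCommutatorCase S A B) {b : G} (hb : b ∈ B) : conjBy A b ≤ A ⊔ ⁅A, B⁆ := by
  intro x hx
  have h1 := Subgroup.commutator_mem_commutator (mem_conjBy.mp hx) hb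
  rw [commutatorElement_def] at h1
  have h2 : x = (b⁻¹ * x * b * b * (b⁻¹ * x * b)⁻¹ * b⁻¹)⁻¹ * (b⁻¹ * x * b) := by group
  rw [h2]
  exact mul_mem ((le_sup_right : _ ≤ A ⊔ ⁅A, B⁆) (inv_mem h1)) ((le_sup_left : A ≤ A ⊔ ⁅A, B⁆) (mem_conjBy.mp hx))

/-- A member inside the commutator subgroup is the whole commutator subgroup. -/
theorem eq_commutator_of_le (hS : IsRootSubgroupSet S) (hcc : RootCommutatorCase S A B) {D E : Subgroup G}
    (hA : A ∈ S) (hD : D ∈ S) (hp : IsRankOnePair A D) (hE : E ∈ S) (hEC : E ≤ ⁅A, B⁆) : E = ⁅A, B⁆ := by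
  obtain ⟨e, he, he1⟩ := (Subgroup.bot_or_exists_ne_one E).resolve_left (hS.ne_bot E hE)
  obtain ⟨a, ha, ha1⟩ := (Subgroup.bot_or_exists_ne_one A).resolve_left (left_ne_bot hp)
  have hea : ∀ c ∈ ⁅A, B⁆, ∀ x ∈ A, c * x = x * c := fun c hc x hx =>
    hcc.2.1 c hc x ((le_sup_left : A ≤ A ⊔ B) hx)
  have hnc : ∀ c ∈ ⁅A, B⁆, c ≠ 1 → ¬ ∀ d ∈ D, c * d = d * c := by
    intro c hc hc1 hcd
    have hz : ∀ x ∈ A ⊔ D, c * x = x * c := by
      intro x hx
      have hle : A ⊔ D ≤ Subgroup.centralizer ({c} : Set G) :=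
        sup_le (fun y hy => Subgroup.mem_centralizer_singleton_iff.mpr (hea c hc y hy).symm)
          fun y hy => Subgroup.mem_centralizer_singleton_iff.mpr (hcd y hy).symm
      exact (Subgroup.mem_centralizer_singleton_iff.mp (hle hx)).symm
    have hmem : c * a ∈ A ⊔ ⁅A, B⁆ :=
      mul_mem ((le_sup_right : _ ≤ A ⊔ ⁅A, B⁆) hc) ((le_sup_left : A ≤ A ⊔ ⁅A, B⁆) ha)
    rcases cover hcc hmem with hm | ⟨b, -, hm⟩
    · exact translate hS hA hD hp hz hc1 ha ha1 hcc.1 hm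
    · exact translate hS hA hD hp hz hc1 ha ha1 (hS.conj_mem A hA b) hm
  rcases hS.pair D hD ⁅A, B⁆ hcc.1 with h | h | h
  · exact absurd (fun d hd => (commutator_eq_bot_iff.mp h d hd e (hEC he)).symm) (hnc e (hEC he) he1)
  · exact ((inf_eq_bot_or_eq hS hcc.1 hE hD (RankOnePair_symm h)).resolve_left fun e' =>
      he1 (e' ▸ (⟨hEC he, he⟩ : e ∈ ⁅A, B⁆ ⊓ E) : e ∈ (⊥ : Subgroup G))).symm
  obtain ⟨d, hd, hd1⟩ := (Subgroup.bot_or_exists_ne_one D).resolve_left (hS.ne_bot D hD)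
  have hDE : RootCommutatorCase S D E := by
    rcases hS.pair D hD E hE with h' | h' | h'
    · exact absurd (fun d hd => (commutator_eq_bot_iff.mp h' d hd e he).symm) (hnc e (hEC he) he1)
    · exact absurd h' fun h' => by
        obtain ⟨-, hcen, -, -⟩ := h
        refine left_ne_bot h' ((Subgroup.eq_bot_iff_forall D).mpr fun x hx => ?_)
        refine eq_one_of_normalizes h' hx (eq_of_commute h' (conj_mem_unip
          ((le_sup_left : D ≤ D ⊔ E) hx) (mem_unip_right h')) (mem_unip_right h') (commutator_eq_bot_iff.mpr ?_))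
        rintro y hy w hw
        have hy' := mem_conjBy.mp hy
        have h1 := hcen _ (Subgroup.commutator_mem_commutator hx (hEC hy')) w ((le_sup_right : _ ≤ D ⊔ ⁅A, B⁆) (hEC hw))
        rw [commutatorElement_def] at h1
        have h2 := commute_of_mem hS hE hy' hw
        calc y * w = (x * (x⁻¹ * y * x) * x⁻¹ * (x⁻¹ * y * x)⁻¹) * ((x⁻¹ * y * x) * w) := by group
          _ = ((x * (x⁻¹ * y * x) * x⁻¹ * (x⁻¹ * y * x)⁻¹) * w) * (x⁻¹ * y * x) := by rw [h2]; group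
          _ = w * y := by rw [h1]; group
    · exact h'
  refine le_antisymm hEC fun c hc => ?_
  have hF : ⁅D, ⁅A, B⁆⁆ ≤ ⁅D, E⁆ := by
    rw [← h.2.2.2 e (hEC he) he1, Subgroup.closure_le]
    rintro _ ⟨x, hx, rfl⟩
    exact Subgroup.commutator_mem_commutator hx he
  obtain ⟨e', he', heq⟩ := comm_surjective hDE hd hd1 (hF (Subgroup.commutator_mem_commutator hd hc))
  rw [commutatorElement_def] at heq
  have h1 : d * (e'⁻¹ * c) * d⁻¹ * (e'⁻¹ * c)⁻¹ = 1 := by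
    have h2 := congrArg Subtype.val (map_mul (commHom h ⟨d, hd⟩) ⟨e'⁻¹, inv_mem (hEC he')⟩ ⟨c, hc⟩)
    have h3 := congrArg Subtype.val (map_inv (commHom h ⟨d, hd⟩) ⟨e', hEC he'⟩)
    simp only [commHom, MonoidHom.coe_mk, OneHom.coe_mk, Subgroup.coe_mul, Subgroup.coe_inv,
      MulMemClass.mk_mul_mk] at h2 h3
    rw [h2, h3, heq, inv_mul_cancel]
  have h4 := comm_eq_one hS h hD hA (RankOnePair_symm hp) hd hd1 (mul_mem (inv_mem (hEC he')) hc) h1
  rw [inv_mul_eq_one] at h4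
  rwa [← h4]

end Cfsg.Agent.Lib.RankOne
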