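import Cfsg.Agent.Lib.RankOne.Basic

/-!
# Rank one groups acting quadratically
-/

set_option autoImplicit false

namespace Cfsg.Agent.Lib.RankOne

open Cfsg

variable {X : Type*} [Group X] {A B : Subgroup X} {V : Type*} [AddCommGroup V] [DistribMulAction X V]

theorem quad_mul_smul {a a' : X} {v : V} (hq : a' • (a • v - v) = a • v - v) :
    (a' * a) • v = a' • v + (a • v - v) := by
  calc (a' * a) • v = a' • (v + (a • v - v)) := by rw [mul_smul, add_sub_cancel]
    _ = a' • v + (a • v - v) := by rw [smul_add, hq]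

theorem quad_comm (hf : ∀ x : X, (∀ v : V, x • v = v) → x = 1)
    (hq : ∀ a ∈ A, ∀ a' ∈ A, ∀ v : V, a' • (a • v - v) = a • v - v) {a a' : X} (ha : a ∈ A) (ha' : a' ∈ A) :
    a * a' = a' * a := by
  have hkey : ∀ v : V, (a * a') • v = (a' * a) • v := fun v => by
    rw [quad_mul_smul (hq a' ha' a ha v), quad_mul_smul (hq a ha a' ha' v)]
    abel
  have := hf ((a * a')⁻¹ * (a' * a)) fun v => by rw [mul_smul, ← hkey, inv_smul_smul]
  exact inv_mul_eq_one.mp this

theorem quad_pow_smul (hq : ∀ a ∈ A, ∀ a' ∈ A, ∀ v : V, a' • (a • v - v) = a • v - v) {a : X} (ha : a ∈ A)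
    (n : ℕ) (v : V) : a ^ n • v = v + n • (a • v - v) := by
  induction n with
  | zero => simp
  | succ n ih =>
    rw [pow_succ, quad_mul_smul (hq a ha _ (pow_mem ha n) v), ih, succ_nsmul, add_assoc]

/-- A normal subgroup meeting `A` nontrivially has abelian quotient. -/
theorem commutator_mem_of_normal (h : IsRankOneGroup X A B) (hA : ∀ a ∈ A, ∀ a' ∈ A, a * a' = a' * a)
    (K : Subgroup X) [K.Normal] {a : X} (ha : a ∈ A) (haK : a ∈ K) (ha1 : a ≠ 1) (x y : X) :
    x * y * x⁻¹ * y⁻¹ ∈ K := by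
  obtain ⟨b, hb, -, e⟩ := h.2.cond_left a ha ha1
  set π : X →* X ⧸ K := QuotientGroup.mk' K
  have hπa : π a = 1 := (QuotientGroup.eq_one_iff a).mpr haK
  have hB : ∀ y ∈ B, π y ∈ A.map π := by
    intro y hy
    have h1 : a⁻¹ * (b⁻¹ * y * b) * a⁻¹⁻¹ ∈ conjBy A b⁻¹ :=
      e ▸ conj_mem_conjBy (mul_mem (mul_mem (inv_mem hb) hy) hb)
    refine ⟨_, mem_conjBy.mp h1, ?_⟩
    simp only [map_mul, map_inv, hπa, inv_one, one_mul, mul_one, inv_inv]
    group
  have hall : ∀ x, π x ∈ A.map π := fun x => by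
    have hle : A ⊔ B ≤ (A.map π).comap π := sup_le (Subgroup.le_comap_map _ _) hB
    rw [h.1] at hle
    exact hle (Subgroup.mem_top x)
  obtain ⟨x', hx', ex⟩ := hall x
  obtain ⟨y', hy', ey⟩ := hall y
  rw [← QuotientGroup.eq_one_iff]
  show π (x * y * x⁻¹ * y⁻¹) = 1
  simp only [map_mul, map_inv, ← ex, ← ey]
  simp only [← map_inv, ← map_mul]
  rw [hA x' hx' y' hy']
  simp

theorem top_unip (h : IsRankOneGroup X A B) (x : X) : conjBy A x ∈ unipotentSubgroups A B :=
  ⟨x, by rw [h.1]; trivial, rfl⟩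

/-- In a faithful quadratic module, a normal subgroup acting by a commuting family of transvection type
elements fixes every unipotent subgroup. -/
theorem fix_of_square_zero (h : IsRankOneGroup X A B) (hf : ∀ x : X, (∀ v : V, x • v = v) → x = 1)
    (hq : ∀ a ∈ A, ∀ a' ∈ A, ∀ v : V, a' • (a • v - v) = a • v - v)
    (N : Subgroup X) [N.Normal] (hN : ∀ m ∈ N, ∀ n ∈ N, ∀ v : V, m • (n • v - v) = n • v - v)
    {n : X} (hn : n ∈ N) : conjBy A n = A := by
  by_contra hne
  obtain ⟨a, ha, ha1⟩ := (Subgroup.bot_or_exists_ne_one A).resolve_left (left_ne_bot h.2)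
  have hcomm : ∀ m ∈ N, ∀ n ∈ N, m * n = n * m := fun m hm n hn => quad_comm hf (fun a ha b hb v => hN b hb a ha v) hm hn
  have hc : ∀ n ∈ N, a * n * a⁻¹ * n⁻¹ ∈ N := fun n hn =>
    mul_mem (‹N.Normal›.conj_mem n hn a) (inv_mem hn)
  have hstep : ∀ n ∈ N, conjBy A n ≠ A → conjBy A (a * n * a⁻¹ * n⁻¹) ≠ A := by
    intro n hn hne e
    have h1 : conjBy (conjBy A n) a = conjBy A n := by
      calc conjBy (conjBy A n) a = conjBy (conjBy A a⁻¹) (a * n) := by
            rw [conjBy_eq_self_of_mem (inv_mem ha), conjBy_conjBy]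
        _ = conjBy A (a * n * a⁻¹) := conjBy_conjBy _ _ _
        _ = conjBy (conjBy A (a * n * a⁻¹ * n⁻¹)) n := by
            rw [conjBy_conjBy, ← hcomm _ (hc n hn) n hn, inv_mul_cancel_right]
        _ = conjBy A n := by rw [e]
    have h0 := regular h.2 (top_unip h n) (top_unip h n) hne hne
    exact ha1 (h0.unique ⟨ha, h1⟩ ⟨one_mem _, conjBy_one _⟩)
  let ρ : X →* AddMonoid.End V := DistribMulAction.toAddMonoidEnd X V
  have hinj : ∀ x, ρ x = 1 → x = 1 := fun x hx => hf x fun v => DFunLike.congr_fun hx v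
  let e : X → AddMonoid.End V := fun x => ρ x - 1
  have he : ∀ x, ρ x = 1 + e x := fun x => (add_sub_cancel _ _).symm
  have hee : ∀ m ∈ N, ∀ n ∈ N, e m * e n = 0 := by
    intro m hm n hn
    ext v
    show m • (n • v - v) - (n • v - v) = 0
    rw [hN m hm n hn v, sub_self]
  set D := e a
  have hDD : D * D = 0 := by
    ext v
    show a • (a • v - v) - (a • v - v) = 0
    rw [hq a ha a ha v, sub_self]
  have hinv : ∀ x, e x * e x = 0 → ρ x⁻¹ = 1 - e x := by
    intro x hx
    have h1 : ρ x⁻¹ * (1 + e x) = 1 := by rw [← he, ← map_mul, inv_mul_cancel, map_one]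
    calc ρ x⁻¹ = ρ x⁻¹ * ((1 + e x) * (1 - e x)) := by
          rw [show (1 + e x) * (1 - e x) = 1 - e x * e x by noncomm_ring, hx, sub_zero, mul_one]
      _ = 1 - e x := by rw [← mul_assoc, h1, one_mul]
  have hf1 : ∀ n ∈ N, e (a * n * a⁻¹ * n⁻¹) = D * e n - e n * D - D * e n * D := by
    intro n hn
    have h1 : e (a * n * a⁻¹) = e n + (D * e n - e n * D - D * e n * D) := by
      show ρ (a * n * a⁻¹) - 1 = _
      rw [map_mul, map_mul, hinv a hDD, he a, he n]
      calc (1 + D) * (1 + e n) * (1 - D) - 1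
          = e n + (D * e n - e n * D - D * e n * D) - D * D := by noncomm_ring
        _ = _ := by rw [hDD, sub_zero]
    have h2 : e (a * n * a⁻¹) * e n = 0 := hee _ (‹N.Normal›.conj_mem n hn a) n hn
    show ρ (a * n * a⁻¹ * n⁻¹) - 1 = _
    rw [map_mul, hinv n (hee n hn n hn), he (a * n * a⁻¹)]
    calc (1 + e (a * n * a⁻¹)) * (1 - e n) - 1
        = e (a * n * a⁻¹) - e n - e (a * n * a⁻¹) * e n := by noncomm_ring
      _ = _ := by rw [h2, h1, sub_zero, add_sub_cancel_left]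
  have h1 := hstep n hn hne
  have m1 := hc n hn
  have h2 := hstep _ m1 h1
  have m2 := hc _ m1
  have h3 := hstep _ m2 h2
  refine h3 ?_
  have key : ∀ x, ρ x = 1 → conjBy A x = A := fun x hx => by rw [hinj x hx, conjBy_one]
  refine key _ ?_
  rw [he, hf1 _ m2, hf1 _ m1, hf1 _ hn]
  have hDz : ∀ z, D * (D * z) = 0 := fun z => by rw [← mul_assoc, hDD, zero_mul]
  simp only [mul_sub, sub_mul, mul_assoc, hDD, hDz, mul_zero, sub_zero, zero_sub, mul_neg, neg_mul, neg_zero, zero_mul]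
  abel_nf

end Cfsg.Agent.Lib.RankOne

namespace Cfsg.Agent.Lib.RankOne

open Cfsg

variable {X : Type*} [Group X] {A B : Subgroup X} {V : Type*} [AddCommGroup V] [DistribMulAction X V]

/-- The derived group of a faithful quadratic rank one group does not act by commuting transvections. -/
theorem not_commutator_square_zero (h : IsRankOneGroup X A B) (hf : ∀ x : X, (∀ v : V, x • v = v) → x = 1)
    (hq : ∀ a ∈ A, ∀ a' ∈ A, ∀ v : V, a' • (a • v - v) = a • v - v)
    (N : Subgroup X) [N.Normal] (hN : ∀ m ∈ N, ∀ n ∈ N, ∀ v : V, m • (n • v - v) = n • v - v)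
    (hder : ∀ x y : X, x * y * x⁻¹ * y⁻¹ ∈ N) : False := by
  have hfix : ∀ n ∈ N, ∀ C ∈ unipotentSubgroups A B, conjBy C n = C := by
    rintro n hn C ⟨x, -, rfl⟩
    have h1 : conjBy A (x⁻¹ * n * x) = A :=
      fix_of_square_zero h hf hq N hN (by simpa using ‹N.Normal›.conj_mem n hn x⁻¹)
    have := congrArg (fun C => conjBy C x) h1
    simpa [conjBy_conjBy, mul_assoc] using this
  obtain ⟨x, -, hx⟩ := mem_unip_right h.2
  refine h.2.ne (eq_of_commute h.2 (mem_unip_left A B) (mem_unip_right h.2)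
    (commutator_eq_bot_iff.mpr fun a ha y hy => ?_))
  rw [hx] at hy
  set a₀ := x⁻¹ * y * x with ha₀def
  have ha₀ : a₀ ∈ A := mem_conjBy.mp hy
  have hy' : y = (x * a₀ * x⁻¹ * a₀⁻¹) * a₀ := by rw [ha₀def]; group
  have hz := commute_of_fix h.2 (hfix _ (hder x a₀)) ha
  rw [hy', ← mul_assoc, ← hz, mul_assoc, quad_comm hf hq ha ha₀, ← mul_assoc]

end Cfsg.Agent.Lib.RankOne
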