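import Cfsg.Agent.Lib.RankOne.Special
import Cfsg.Agent.Lib.RankOne.Quadratic

/-!
# The derived group of a special rank one group with abelian unipotent subgroups
-/

set_option autoImplicit false

namespace Cfsg.Agent.Lib.RankOne

open Cfsg

variable {X : Type*} [Group X] {A B : Subgroup X} {a v : X}

theorem Braid.image_eq (hp : IsRankOnePair A B) (h : Braid A B a v) {t u y : X} (hu : Braid A B t u)
    (hy : y ∈ A) (ey : conjBy (conjBy B t) (a * v * a) = conjBy B y) :
    y = a * v * a * (t * u * t) * t⁻¹ * (a * v * a * (t * u * t))⁻¹ := by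
  set g := a * v * a * (t * u * t) with hg
  have hgA : conjBy A g = A := by rw [hg, ← conjBy_conjBy, hu.map_left, h.map_right hp]
  have hgB : conjBy B g = B := by rw [hg, ← conjBy_conjBy, hu.map_right hp, h.map_left]
  have hmem : g * t⁻¹ * g⁻¹ ∈ A := by
    have := conj_mem_conjBy (g := g) (inv_mem hu.ha)
    rwa [hgA] at this
  refine point_inj hp hy hmem ?_
  have h3 := hu.image_symm_pow hp 1 (z := t⁻¹) (by rw [pow_one]; exact hu.image_self hp)
  rw [pow_one] at h3
  rw [← ey]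
  conv_lhs => rw [← h3]
  conv_rhs => rw [← hgB, conjBy_conjBy, inv_mul_cancel_right]
  rw [conjBy_conjBy, conjBy_conjBy]

theorem diag_mem (hp : IsRankOnePair A B) (h : Braid A B a v) {t u : X} (hu : Braid A B t u) :
    a * v * a * (t * u * t) ∈ rankOneDiagonal A B := by
  refine ⟨⟨mul_mem h.le_sup hu.le_sup, mem_normalizer_iff.mpr ?_⟩, mem_normalizer_iff.mpr ?_⟩
  · rw [← conjBy_conjBy, hu.map_left, h.map_right hp]
  · rw [← conjBy_conjBy, hu.map_right hp, h.map_left]

/-- If the swaps invert `T` modulo `C` and `T` has at least four elements, then `T ≤ C`. -/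
theorem le_of_image_mem (hs : IsSpecialRankOnePair A B) (hA : ∀ x ∈ A, ∀ y ∈ A, x * y = y * x)
    {T C : Subgroup X} (hTA : T ≤ A) (hCT : C ≤ T) (hcard : 3 < (T : Set X).encard)
    (hW : ∀ a v, Braid A B a v → a ∈ T → ∀ t u, Braid A B t u → t ∈ T → ∀ y ∈ A,
      conjBy (conjBy B t) (a * v * a) = conjBy B y → y * t ∈ C) : T ≤ C := by
  have hp := hs.1
  have hsq : ∀ a ∈ T, a ≠ 1 → ∀ t ∈ T, t ≠ 1 → t ≠ a → t * t * a⁻¹ ∈ C := by
    intro a ha ha1 t ht ht1 hta
    obtain ⟨v, h⟩ := exists_braid hs (hTA ha) ha1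
    obtain ⟨u, hu⟩ := exists_braid hs (hTA ht) ht1
    set w := a * v * a with hw
    have hi : a⁻¹ * v⁻¹ * a⁻¹ = w⁻¹ := by rw [hw]; group
    obtain ⟨z, hz, -, ez⟩ := (h.inv hp).exists_image hp (hTA ht) ht1
    have hzt := hW _ _ (h.inv hp) (inv_mem ha) _ _ hu ht z hz ez
    rw [hi] at ez
    have hzs : conjBy (conjBy B z) w = conjBy B t := by
      rw [← ez, conjBy_conjBy, mul_inv_cancel, conjBy_one]
    have hta1 : t * a⁻¹ ≠ 1 := fun e => hta (mul_inv_eq_one.mp e)
    have htaT : t * a⁻¹ ∈ T := mul_mem ht (inv_mem ha)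
    obtain ⟨u', hu'⟩ := exists_braid hs (hTA htaT) hta1
    obtain ⟨p, hp', -, ep⟩ := h.exists_image hp (hTA htaT) hta1
    have hpt := hW _ _ h ha _ _ hu' htaT p hp' ep
    have hzT : z ∈ T := by simpa using mul_mem (hCT hzt) (inv_mem ht)
    have hwa : w * a = v * w := eq_mul_of_mul_inv_eq h.conj_a
    have key : conjBy (conjBy B (z * a)) w = conjBy B (p * a⁻¹) := by
      rw [hA z hz a h.ha, conjBy_conjBy, ← mul_assoc, hwa, mul_assoc, ← conjBy_conjBy, ← conjBy_conjBy B z w, hzs,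
        conjBy_conjBy, show v * t = a⁻¹ * (w * (t * a⁻¹)) from ?_, ← conjBy_conjBy,
        ← conjBy_conjBy B (t * a⁻¹) w, ep, conjBy_conjBy, hA _ (inv_mem h.ha) p hp']
      rw [hA t (hTA ht) _ (inv_mem h.ha), hw]
      group
    have hza : z * a ≠ 1 := by
      intro e
      rw [e, conjBy_one, h.map_right hp] at key
      exact point_ne hp (mul_mem hp' (inv_mem h.ha)) key.symm
    obtain ⟨u'', hu''⟩ := exists_braid hs (mul_mem hz h.ha) hza
    have h3 := hW _ _ h ha _ _ hu'' (mul_mem hzT ha) _ (mul_mem hp' (inv_mem h.ha)) key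
    letI : CommGroup A :=
      { (inferInstance : Group A) with mul_comm := fun x y => Subtype.ext (hA _ x.2 _ y.2) }
    have h4 := mul_mem (mul_mem (inv_mem h3) hzt) hpt
    have e : ∀ p z t a : A, (p * a⁻¹ * (z * a))⁻¹ * (z * t) * (p * (t * a⁻¹)) = t * t * a⁻¹ := fun p z t a => by
      apply Additive.ofMul.injective
      simp only [ofMul_mul, ofMul_inv]
      abel
    have e' := congrArg Subtype.val (e ⟨p, hp'⟩ ⟨z, hz⟩ ⟨t, hTA ht⟩ ⟨a, h.ha⟩)
    simp only [Subgroup.coe_mul, Subgroup.coe_inv] at e'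
    rwa [e'] at h4
  have hex : ∀ a t : X, ∃ s ∈ T, s ≠ 1 ∧ s ≠ a ∧ s ≠ t := by
    intro a t
    by_contra! hc
    refine absurd hcard (not_lt.mpr ?_)
    calc (T : Set X).encard ≤ ({1, a, t} : Set X).encard := Set.encard_le_encard fun s hs' => by
          by_cases h1 : s = 1
          · exact Or.inl h1
          by_cases h2 : s = a
          · exact Or.inr (Or.inl h2)
          exact Or.inr (Or.inr (hc s hs' h1 h2))
      _ ≤ ({a, t} : Set X).encard + 1 := Set.encard_insert_le _ _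
      _ ≤ ({t} : Set X).encard + 1 + 1 := by gcongr; exact Set.encard_insert_le _ _
      _ = 3 := by rw [Set.encard_singleton]; norm_num
  intro t ht
  by_cases ht1 : t = 1
  · rw [ht1]; exact one_mem _
  obtain ⟨a, ha, ha1, hat, -⟩ := hex t t
  obtain ⟨s, hs', hs1, hsa, hst⟩ := hex a t
  have h1 := hsq a ha ha1 t ht ht1 (Ne.symm hat)
  have h2 := mul_mem (inv_mem (hsq t ht ht1 s hs' hs1 hst)) (hsq a ha ha1 s hs' hs1 hsa)
  rw [show (s * s * t⁻¹)⁻¹ * (s * s * a⁻¹) = t * a⁻¹ by group] at h2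
  have h3 := mul_mem h1 (inv_mem h2)
  rwa [show t * t * a⁻¹ * (t * a⁻¹)⁻¹ = t by group] at h3

theorem le_center_of_fix (h : IsRankOneGroup X A B) {n : X}
    (hfix : ∀ C ∈ unipotentSubgroups A B, conjBy C n = C) : n ∈ Subgroup.center X := by
  have hle : A ⊔ B ≤ Subgroup.centralizer ({n} : Set X) := by
    refine sup_le (fun a ha => Subgroup.mem_centralizer_singleton_iff.mpr ?_)
      (fun b hb => Subgroup.mem_centralizer_singleton_iff.mpr ?_)
    · exact (commute_of_fix h.2 hfix ha).symm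
    · exact (commute_of_fix (RankOnePair_symm h.2) (fun C hC => hfix C (by rwa [unip_symm h.2])) hb).symm
  rw [h.1] at hle
  exact Subgroup.mem_center_iff.mpr fun g => Subgroup.mem_centralizer_singleton_iff.mp (hle (Subgroup.mem_top g))

theorem exists_move (h : IsRankOneGroup X A B) (N : Subgroup X) [N.Normal] (hN : ¬ N ≤ Subgroup.center X) :
    ∃ n ∈ N, conjBy A n ≠ A := by
  by_contra! hfix
  refine hN fun n hn => le_center_of_fix h ?_
  rintro C ⟨x, -, rfl⟩
  have h1 := congrArg (fun C => conjBy C x) (hfix _ (‹N.Normal›.conj_mem n hn x⁻¹))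
  simpa [conjBy_conjBy, mul_assoc] using h1

theorem normal_sup_top (h : IsRankOneGroup X A B) (N : Subgroup X) [N.Normal] (hN : ¬ N ≤ Subgroup.center X) :
    N ⊔ A = ⊤ := by
  obtain ⟨n, hn, hne⟩ := exists_move h N hN
  obtain ⟨a, ⟨ha, e⟩, -⟩ := regular h.2 (top_unip h n) (mem_unip_right h.2) hne h.2.ne.symm
  rw [eq_top_iff, ← h.1]
  refine sup_le le_sup_right fun b hb => ?_
  rw [← e, conjBy_conjBy] at hb
  have h1 := mem_conjBy.mp hb
  have h2 : a * n ∈ N ⊔ A :=
    mul_mem ((le_sup_right : A ≤ N ⊔ A) ha) ((le_sup_left : N ≤ N ⊔ A) hn)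
  have h3 := mul_mem (mul_mem h2 ((le_sup_right : A ≤ N ⊔ A) h1)) (inv_mem h2)
  simpa [mul_assoc] using h3

theorem commutator_le_normal (h : IsRankOneGroup X A B) (hA : ∀ x ∈ A, ∀ y ∈ A, x * y = y * x)
    (N : Subgroup X) [N.Normal] (hN : ¬ N ≤ Subgroup.center X) : commutator X ≤ N := by
  set π : X →* X ⧸ N := QuotientGroup.mk' N
  have hall : ∀ x, π x ∈ A.map π := fun x => by
    have hle : N ⊔ A ≤ (A.map π).comap π := sup_le (fun n hn => by
      show π n ∈ A.map π
      rw [show π n = 1 from (QuotientGroup.eq_one_iff n).mpr hn]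
      exact one_mem _) (Subgroup.le_comap_map _ _)
    rw [normal_sup_top h N hN] at hle
    exact hle (Subgroup.mem_top x)
  rw [_root_.commutator_def, Subgroup.commutator_le]
  intro x _ y _
  obtain ⟨x', hx', ex⟩ := hall x
  obtain ⟨y', hy', ey⟩ := hall y
  rw [← QuotientGroup.eq_one_iff, commutatorElement_def]
  show π (x * y * x⁻¹ * y⁻¹) = 1
  simp only [map_mul, map_inv, ← ex, ← ey]
  simp only [← map_inv, ← map_mul]
  rw [hA x' hx' y' hy']
  simp

theorem commutator_not_central (h : IsRankOneGroup X A B) (hA : ∀ x ∈ A, ∀ y ∈ A, x * y = y * x) :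
    ¬ commutator X ≤ Subgroup.center X := by
  intro hle
  obtain ⟨x, -, hx⟩ := mem_unip_right h.2
  refine h.2.ne (eq_of_commute h.2 (mem_unip_left A B) (mem_unip_right h.2)
    (commutator_eq_bot_iff.mpr fun a ha y hy => ?_))
  rw [hx] at hy
  set a₀ := x⁻¹ * y * x with ha₀def
  have ha₀ : a₀ ∈ A := mem_conjBy.mp hy
  have hy' : y = (x * a₀ * x⁻¹ * a₀⁻¹) * a₀ := by rw [ha₀def]; group
  have hz := Subgroup.mem_center_iff.mp
    (hle (Subgroup.commutator_mem_commutator (Subgroup.mem_top x) (Subgroup.mem_top a₀))) a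
  rw [commutatorElement_def] at hz
  rw [hy', ← mul_assoc, hz, mul_assoc, hA a ha a₀ ha₀, ← mul_assoc]

theorem commutator_diag_le (A B : Subgroup X) : ⁅A, rankOneDiagonal A B⁆ ≤ A ⊓ commutator X := by
  refine le_inf (Subgroup.commutator_le.mpr fun x hx g hg => ?_)
    (Subgroup.commutator_mono le_top le_top)
  rw [commutatorElement_def, show x * g * x⁻¹ * g⁻¹ = x * (g * x⁻¹ * g⁻¹) by group]
  have h1 := conj_mem_conjBy (g := g) (inv_mem hx)
  rw [mem_normalizer_iff.mp hg.1.2] at h1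
  exact mul_mem hx h1

theorem commutator_diag_big (h : IsRankOneGroup X A B) (hs : IsSpecialRankOnePair A B)
    (hA : ∀ x ∈ A, ∀ y ∈ A, x * y = y * x) (hcard : 3 < (A : Set X).encard) :
    3 < ((⁅A, rankOneDiagonal A B⁆ : Subgroup X) : Set X).encard := by
  refine hcard.trans_le (Set.encard_le_encard (le_of_image_mem hs hA le_rfl
    ((commutator_diag_le A B).trans inf_le_left) hcard fun a v ha _ t u hu _ y hy ey => ?_))
  rw [ha.image_eq h.2 hu hy ey]
  have h1 := Subgroup.commutator_mem_commutator (inv_mem hu.ha) (diag_mem h.2 ha hu)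
  rw [commutatorElement_def, inv_inv] at h1
  set g := a * v * a * (t * u * t)
  have h2 := inv_mem h1
  rwa [show (t⁻¹ * g * t * g⁻¹)⁻¹ = g * t⁻¹ * g⁻¹ * t by group] at h2

theorem Braid.mem_normal (N : Subgroup X) [N.Normal] (h : Braid A B a v) (ha : a ∈ N) : v ∈ N :=
  h.conj_a ▸ ‹N.Normal›.conj_mem a ha (a * v * a)

/-- A normal subgroup of the derived group that moves `A` to `B` meets `A`. -/
theorem exists_mem_of_move (h : IsRankOneGroup X A B) (hs : IsSpecialRankOnePair A B)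
    (hA : ∀ x ∈ A, ∀ y ∈ A, x * y = y * x) (hcard : 3 < (A : Set X).encard) (M : Subgroup X)
    (hMX : M ≤ commutator X) (hMn : ∀ x ∈ commutator X, ∀ m ∈ M, x * m * x⁻¹ ∈ M) {m : X} (hm : m ∈ M)
    (hmA : conjBy A m = B) : ∃ c ∈ A, c ≠ 1 ∧ c ∈ M := by
  by_contra hno
  push Not at hno
  set T := A ⊓ commutator X
  have hTbig : 3 < (T : Set X).encard :=
    (commutator_diag_big h hs hA hcard).trans_le (Set.encard_le_encard (commutator_diag_le A B))
  let K : Subgroup X :=
    { carrier := {x | x ∈ commutator X ∧ ∀ r ∈ T, x * r * x⁻¹ * r⁻¹ ∈ M}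
      one_mem' := ⟨one_mem _, fun r _ => by simp⟩
      mul_mem' := fun {x y} hx hy => ⟨mul_mem hx.1 hy.1, fun r hr => by
        have := mul_mem (hMn x hx.1 _ (hy.2 r hr)) (hx.2 r hr)
        convert this using 1
        group⟩
      inv_mem' := fun {x} hx => ⟨inv_mem hx.1, fun r hr => by
        have := hMn _ (inv_mem hx.1) _ (inv_mem (hx.2 r hr))
        convert this using 1
        group⟩ }
  have hTK : ∀ r ∈ T, r ∈ K := fun r hr => ⟨hr.2, fun s hs' => by
    rw [hA r hr.1 s hs'.1, mul_inv_cancel_right, mul_inv_cancel]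
    exact one_mem _⟩
  have hMK : ∀ x ∈ M, x ∈ K := fun x hx => ⟨hMX hx, fun r hr => by
    rw [show x * r * x⁻¹ * r⁻¹ = x * (r * x⁻¹ * r⁻¹) by group]
    exact mul_mem hx (hMn r hr.2 _ (inv_mem hx))⟩
  have hsup : ∀ b ∈ B, b ∈ commutator X → b ∈ K := fun b hb hbX => by
    have hq : m⁻¹ * b * m ∈ T := by
      refine ⟨mem_conjBy.mp (hmA ▸ hb), ?_⟩
      simpa using (inferInstance : (commutator X).Normal).conj_mem b hbX m⁻¹
    rw [show b = m * (m⁻¹ * b * m) * m⁻¹ by group]
    exact mul_mem (mul_mem (hMK m hm) (hTK _ hq)) (inv_mem (hMK m hm))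
  obtain ⟨x, hx, hx1⟩ : ∃ x ∈ T, x ≠ 1 := by
    by_contra! hc
    refine absurd hTbig (not_lt.mpr ((Set.encard_le_encard (t := ({1} : Set X)) hc).trans ?_))
    rw [Set.encard_singleton]
    norm_num
  refine hx1 ?_
  have hle : T ≤ ⊥ := le_of_image_mem hs hA inf_le_left bot_le hTbig fun a v ha haT t u hu htT y hy ey => by
    have hK : a * v * a * (t * u * t) ∈ K :=
      mul_mem (mul_mem (mul_mem (hTK a haT) (hsup v ha.hv (ha.mem_normal _ haT.2))) (hTK a haT))
        (mul_mem (mul_mem (hTK t htT) (hsup u hu.hv (hu.mem_normal _ htT.2))) (hTK t htT))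
    have h1 := hK.2 t⁻¹ (inv_mem htT)
    rw [inv_inv, ← ha.image_eq h.2 hu hy ey] at h1
    rw [Subgroup.mem_bot]
    by_contra hne
    exact hno _ (mul_mem hy hu.ha) hne h1
  exact (Subgroup.mem_bot).mp (hle hx)

theorem derived_perfect (h : IsRankOneGroup X A B) (hs : IsSpecialRankOnePair A B)
    (hA : ∀ x ∈ A, ∀ y ∈ A, x * y = y * x) (hcard : 3 < (A : Set X).encard) :
    ⁅commutator X, commutator X⁆ = commutator X := by
  refine le_antisymm (Subgroup.commutator_mono le_top le_top) ?_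
  by_cases hc : ⁅commutator X, commutator X⁆ ≤ Subgroup.center X
  swap
  · exact commutator_le_normal h hA _ hc
  exfalso
  obtain ⟨n, hn, hne⟩ := exists_move h _ (commutator_not_central h hA)
  obtain ⟨c, hcT, hc1⟩ : ∃ c ∈ ⁅A, rankOneDiagonal A B⁆, c ≠ 1 := by
    by_contra! hc'
    refine absurd (commutator_diag_big h hs hA hcard)
      (not_lt.mpr ((Set.encard_le_encard (t := ({1} : Set X)) hc').trans ?_))
    rw [Set.encard_singleton]
    norm_num
  obtain ⟨hcA, hcX⟩ := commutator_diag_le A B hcT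
  set z := n * c * n⁻¹ * c⁻¹
  have hz : z ∈ Subgroup.center X := hc (Subgroup.commutator_mem_commutator hn hcX)
  have hmem : n * c * n⁻¹ ∈ conjBy A n := conj_mem_conjBy hcA
  have hfix : conjBy A (n * c * n⁻¹) = A := by
    rw [show n * c * n⁻¹ = z * c by simp [z], ← conjBy_conjBy, conjBy_eq_self_of_mem hcA]
    exact conjBy_eq_self_of_commute fun a _ => (Subgroup.mem_center_iff.mp hz a).symm
  have h1 := eq_one_of_normalizes (pair_of_mem h.2 (top_unip h n) (mem_unip_left A B) hne) hmem hfix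
  exact hc1 (conj_eq_one_iff.mp h1)

theorem normal_derived (h : IsRankOneGroup X A B) (hs : IsSpecialRankOnePair A B)
    (hA : ∀ x ∈ A, ∀ y ∈ A, x * y = y * x) (hcard : 3 < (A : Set X).encard) (M : Subgroup X)
    (hMX : M ≤ commutator X) (hMn : ∀ x ∈ commutator X, ∀ m ∈ M, x * m * x⁻¹ ∈ M) :
    M ≤ Subgroup.center X ∨ commutator X ≤ M := by
  have htop : commutator X ⊔ A = ⊤ := normal_sup_top h _ (commutator_not_central h hA)
  have hmulAX : ∀ x : X, ∃ k ∈ commutator X, ∃ a ∈ A, x = k * a := fun x => by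
    have hx : x ∈ ((commutator X ⊔ A : Subgroup X) : Set X) := by rw [htop]; trivial
    rw [Subgroup.normal_mul] at hx
    obtain ⟨k, hk, a, ha, rfl⟩ := hx
    exact ⟨k, hk, a, ha, rfl⟩
  by_cases hfix : ∀ m ∈ M, conjBy A m = A
  · left
    intro m hm
    refine le_center_of_fix h ?_
    rintro C ⟨x, -, rfl⟩
    obtain ⟨k, hk, a, ha, rfl⟩ := hmulAX x
    have h1 := congrArg (fun C => conjBy C k) (hfix _ (hMn k⁻¹ (inv_mem hk) m hm))
    rw [← conjBy_conjBy A a k, conjBy_eq_self_of_mem ha]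
    simpa [conjBy_conjBy, mul_assoc] using h1
  · right
    push Not at hfix
    obtain ⟨m, hm, hne⟩ := hfix
    obtain ⟨a, ⟨ha, e⟩, -⟩ := regular h.2 (top_unip h m) (mem_unip_right h.2) hne h.2.ne.symm
    have hn := (inferInstance : (commutator X).Normal)
    let M' : Subgroup X := M.map (MulAut.conj a).toMonoidHom
    have hM'X : M' ≤ commutator X := by
      rintro _ ⟨y, hy, rfl⟩
      exact hn.conj_mem y (hMX hy) a
    have hM'n : ∀ x ∈ commutator X, ∀ y ∈ M', x * y * x⁻¹ ∈ M' := by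
      rintro x hx _ ⟨y, hy, rfl⟩
      refine ⟨_, hMn _ (hn.conj_mem x hx a⁻¹) y hy, ?_⟩
      simp [mul_assoc]
    obtain ⟨c, hcA, hc1, ⟨y, hy, hyc⟩⟩ := exists_mem_of_move h hs hA hcard M' hM'X hM'n
      (m := a * m * a⁻¹) ⟨m, hm, rfl⟩ (by
        rw [← conjBy_conjBy A a⁻¹, conjBy_eq_self_of_mem (inv_mem ha), ← conjBy_conjBy, e])
    have hyc' : a * y * a⁻¹ = c := hyc
    have hy' : y = c := by
      calc y = a⁻¹ * (a * y * a⁻¹) * a := by group
        _ = c := by rw [hyc', mul_assoc, hA c hcA a ha, inv_mul_cancel_left]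
    have hcM : c ∈ M := hy' ▸ hy
    have hcore : c ∈ M.normalCore := fun g => by
      obtain ⟨k, hk, a', ha', rfl⟩ := hmulAX g
      rw [show k * a' * c * (k * a')⁻¹ = k * (a' * c * a'⁻¹) * k⁻¹ by group, hA a' ha' c hcA, mul_inv_cancel_right]
      exact hMn k hk c hcM
    refine (commutator_le_normal h hA M.normalCore fun hle => ?_).trans M.normalCore_le
    exact hc1 (eq_one_of_normalizes h.2 hcA
      (conjBy_eq_self_of_commute fun b _ => (Subgroup.mem_center_iff.mp (hle hcore) b).symm))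

end Cfsg.Agent.Lib.RankOne
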