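import Cfsg.Agent.Lib.RankOne.RootSets
import Cfsg.Agent.Lib.RankOne.Structure

/-!
# Quasisimplicity of the derived group of a group generated by abstract root subgroups
-/

set_option autoImplicit false

namespace Cfsg.Agent.Lib.RankOne.Quasi

open Cfsg
open scoped commutatorElement

variable {G : Type*} [Group G] {S : Set (Subgroup G)} {A B C : Subgroup G}

theorem conjBy_subgroupOf {X : Subgroup G} (A : Subgroup G) (x : X) :
    conjBy (A.subgroupOf X) x = (conjBy A (x : G)).subgroupOf X := by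
  ext y
  rw [mem_conjBy, Subgroup.mem_subgroupOf, Subgroup.mem_subgroupOf, mem_conjBy]
  rfl

theorem pair_subgroupOf (hs : IsSpecialRankOnePair A B) :
    IsRankOneGroup ↥(A ⊔ B) (A.subgroupOf (A ⊔ B)) (B.subgroupOf (A ⊔ B)) ∧
      IsSpecialRankOnePair (A.subgroupOf (A ⊔ B)) (B.subgroupOf (A ⊔ B)) := by
  obtain ⟨hp, hsp⟩ := hs
  haveI := hp.nilpotent_left
  haveI := hp.nilpotent_right
  have hcond : ∀ {C D : Subgroup G}, C ≤ A ⊔ B → D ≤ A ⊔ B → RankOneCondition C D →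
      RankOneCondition (C.subgroupOf (A ⊔ B)) (D.subgroupOf (A ⊔ B)) := by
    intro C D hC hD hc x hx hx1
    obtain ⟨d, hd, hd1, e⟩ := hc x (Subgroup.mem_subgroupOf.mp hx) (fun h => hx1 (Subtype.ext h))
    refine ⟨⟨d, hD hd⟩, Subgroup.mem_subgroupOf.mpr hd, fun h => hd1 (congrArg Subtype.val h), ?_⟩
    rw [conjBy_subgroupOf, conjBy_subgroupOf]
    exact congrArg (fun K => Subgroup.subgroupOf K (A ⊔ B)) e
  have hpair : IsRankOnePair (A.subgroupOf (A ⊔ B)) (B.subgroupOf (A ⊔ B)) := by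
    refine ⟨fun h => hp.ne ?_, ?_, ?_, hcond le_sup_left le_sup_right hp.cond_left,
      hcond le_sup_right le_sup_left hp.cond_right⟩
    · have := congrArg (Subgroup.map (A ⊔ B).subtype) h
      rwa [Subgroup.map_subgroupOf_eq_of_le le_sup_left, Subgroup.map_subgroupOf_eq_of_le le_sup_right] at this
    · exact Group.nilpotent_of_surjective (Subgroup.subgroupOfEquivOfLe (le_sup_left : A ≤ A ⊔ B)).symm.toMonoidHom
        (MulEquiv.surjective _)
    · exact Group.nilpotent_of_surjective (Subgroup.subgroupOfEquivOfLe (le_sup_right : B ≤ A ⊔ B)).symm.toMonoidHom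
        (MulEquiv.surjective _)
  refine ⟨⟨?_, hpair⟩, hpair, fun a ha ha1 b hb hb1 e => Subtype.ext ?_⟩
  · rw [← Subgroup.subgroupOf_sup le_sup_left le_sup_right, Subgroup.subgroupOf_self]
  · refine hsp a (Subgroup.mem_subgroupOf.mp ha) (fun h => ha1 (Subtype.ext h)) b (Subgroup.mem_subgroupOf.mp hb)
      (fun h => hb1 (Subtype.ext h)) ?_
    have := congrArg (Subgroup.map (A ⊔ B).subtype) e
    rw [conjBy_subgroupOf, conjBy_subgroupOf] at this
    have hX : ∀ {K : Subgroup G} {x : G}, K ≤ A ⊔ B → x ∈ A ⊔ B → conjBy K x ≤ A ⊔ B := by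
      rintro K x hK hx _ ⟨k, hk, rfl⟩
      exact mul_mem (mul_mem hx (hK hk)) (inv_mem hx)
    rwa [Subgroup.map_subgroupOf_eq_of_le (hX le_sup_left (Subtype.prop _)),
      Subgroup.map_subgroupOf_eq_of_le (hX le_sup_right (Subtype.prop _))] at this

/-- Facts on a special rank one subgroup with large abelian unipotent subgroups. -/
structure BigPair (A B : Subgroup G) : Prop where
  perfect : ⁅⁅A ⊔ B, A ⊔ B⁆, ⁅A ⊔ B, A ⊔ B⁆⁆ = ⁅A ⊔ B, A ⊔ B⁆
  meet : ∃ a ∈ A, a ≠ 1 ∧ a ∈ ⁅A ⊔ B, A ⊔ B⁆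
  top : A ⊔ B ≤ ⁅A ⊔ B, A ⊔ B⁆ ⊔ A
  dich : ∀ M : Subgroup G, M ≤ ⁅A ⊔ B, A ⊔ B⁆ → (∀ x ∈ ⁅A ⊔ B, A ⊔ B⁆, ∀ m ∈ M, x * m * x⁻¹ ∈ M) →
    (∀ m ∈ M, ∀ x ∈ A ⊔ B, m * x = x * m) ∨ ⁅A ⊔ B, A ⊔ B⁆ ≤ M
  cent : ∀ z ∈ A ⊔ B, (∀ y ∈ ⁅A ⊔ B, A ⊔ B⁆, z * y = y * z) → ∀ x ∈ A ⊔ B, z * x = x * z
  not_fix : ¬ ∀ y ∈ ⁅A ⊔ B, A ⊔ B⁆, conjBy A y = A

theorem bigPair (hS : IsRootSubgroupSet S) (hA : A ∈ S) (hs : IsSpecialRankOnePair A B)
    (hcard : 3 < ENat.card A) : BigPair A B := by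
  obtain ⟨h, hs'⟩ := pair_subgroupOf hs
  set X := A ⊔ B with hX
  set A' := A.subgroupOf X
  have hle : A ≤ X := le_sup_left
  have hab : ∀ x ∈ A', ∀ y ∈ A', x * y = y * x := fun x hx y hy =>
    Subtype.ext (commute_of_mem hS hA hx hy)
  have hbig : 3 < (A' : Set X).encard := by
    rw [← ENat.card_coe_set_eq, SetLike.coe_sort_coe,
      ENat.card_congr (Subgroup.subgroupOfEquivOfLe hle).toEquiv]
    exact hcard
  have hY : (commutator ↥X).map X.subtype = ⁅X, X⁆ := Subgroup.map_subtype_commutator X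
  have htop := normal_sup_top h _ (commutator_not_central h hab)
  have hmem : ∀ {y : G}, y ∈ ⁅X, X⁆ → ∃ hy : y ∈ X, (⟨y, hy⟩ : X) ∈ commutator ↥X := by
    intro y hy
    rw [← hY] at hy
    obtain ⟨w, hw, rfl⟩ := hy
    exact ⟨w.2, hw⟩
  have htopG : X ≤ ⁅X, X⁆ ⊔ A := by
    have h1 := congrArg (Subgroup.map X.subtype) htop
    rw [Subgroup.map_sup, hY, Subgroup.map_subgroupOf_eq_of_le hle, ← MonoidHom.range_eq_map,
      Subgroup.range_subtype] at h1
    exact h1.ge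
  refine ⟨?_, ?_, htopG, ?_, ?_, ?_⟩
  · conv_rhs => rw [← hY, ← derived_perfect h hs' hab hbig, Subgroup.map_commutator, hY]
  · have h1 := commutator_diag_le A' (B.subgroupOf X)
    obtain ⟨c, hc, hc1⟩ := (Subgroup.bot_or_exists_ne_one
      (⁅A', rankOneDiagonal A' (B.subgroupOf X)⁆ : Subgroup X)).resolve_left fun e => by
        have h2 := commutator_diag_big h hs' hab hbig
        rw [e, Subgroup.coe_bot, Set.encard_singleton] at h2
        norm_num at h2
    exact ⟨c, (h1 hc).1, fun e => hc1 (Subtype.ext e), hY ▸ Subgroup.mem_map_of_mem _ (h1 hc).2⟩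
  · intro M hM hn
    rcases normal_derived h hs' hab hbig (M.subgroupOf X) (fun m hm => by
        obtain ⟨_, h1⟩ := hmem (hM hm)
        exact h1) (fun x hx m hm => hn _ (hY ▸ Subgroup.mem_map_of_mem _ hx) _ hm) with hc | hc
    · left
      intro m hm x hx
      obtain ⟨hmX, -⟩ := hmem (hM hm)
      exact (congrArg Subtype.val (Subgroup.mem_center_iff.mp (hc (show (⟨m, hmX⟩ : X) ∈ M.subgroupOf X from hm))
        ⟨x, hx⟩)).symm
    · right
      intro y hy
      obtain ⟨_, h1⟩ := hmem hy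
      exact hc h1
  · intro z hz hzy x hx
    set Z := Subgroup.centralizer ((commutator ↥X : Subgroup ↥X) : Set ↥X)
    have hzZ : (⟨z, hz⟩ : X) ∈ Z := Subgroup.mem_centralizer_iff.mpr fun y hy =>
      Subtype.ext (hzy y (hY ▸ Subgroup.mem_map_of_mem _ hy)).symm
    by_cases hZ : Z ≤ Subgroup.center ↥X
    · exact (congrArg Subtype.val (Subgroup.mem_center_iff.mp (hZ hzZ) ⟨x, hx⟩)).symm
    exfalso
    have h1 := commutator_le_normal h hab Z hZ
    refine commutator_not_central h hab ?_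
    have h2 : ⁅commutator ↥X, commutator ↥X⁆ = ⊥ := commutator_eq_bot_iff.mpr fun u hu v hv =>
      ((Subgroup.mem_centralizer_iff.mp (h1 hu)) v hv).symm
    rw [derived_perfect h hs' hab hbig] at h2
    rw [h2]; exact bot_le
  · intro hfix
    have h1 : X ≤ Subgroup.normalizer (A : Set G) :=
      htopG.trans (sup_le (fun y hy => mem_normalizer_iff.mpr (hfix y hy)) Subgroup.le_normalizer)
    obtain ⟨x, hx, e⟩ := mem_unip_right hs.1
    rw [mem_normalizer_iff.mp (h1 hx)] at e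
    exact hs.1.ne e.symm

theorem centralizes_of_central (Y : Subgroup G) (hY : ⁅Y, Y⁆ = Y) {z : G}
    (h : ∀ x ∈ Y, ∀ y ∈ Y, (z * x * z⁻¹ * x⁻¹) * y = y * (z * x * z⁻¹ * x⁻¹))
    (hmem : ∀ x ∈ Y, z * x * z⁻¹ * x⁻¹ ∈ Y) : ∀ y ∈ Y, z * y = y * z := by
  have hle : ⁅Y, Y⁆ ≤ Subgroup.centralizer ({z} : Set G) := Subgroup.commutator_le.mpr fun x hx y hy => by
    rw [Subgroup.mem_centralizer_singleton_iff]
    set w := z * x * z⁻¹ * x⁻¹ with hw
    set v := z * y * z⁻¹ * y⁻¹ with hv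
    have h1 : z * ⁅x, y⁆ * z⁻¹ = ⁅w * x, v * y⁆ := by
      rw [hw, hv, commutatorElement_def, commutatorElement_def]; group
    have c1 : Commute w x := h x hx x hx
    have c2 : Commute w y := h x hx y hy
    have c3 : Commute v x := h y hy x hx
    have c4 : Commute v y := h y hy y hy
    have c5 : Commute w v := h x hx v (hmem y hy)
    have h2 : ⁅w * x, v * y⁆ = ⁅x, y⁆ := by
      rw [commutatorElement_def, commutatorElement_def]
      calc w * x * (v * y) * (w * x)⁻¹ * (v * y)⁻¹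
          = w * (x * v) * y * x⁻¹ * w⁻¹ * y⁻¹ * v⁻¹ := by group
        _ = w * v * (x * y * x⁻¹) * w⁻¹ * y⁻¹ * v⁻¹ := by rw [← c3.eq]; group
        _ = w * v * ((x * y * x⁻¹) * w⁻¹) * y⁻¹ * v⁻¹ := by group
        _ = w * v * (w⁻¹ * (x * y * x⁻¹)) * y⁻¹ * v⁻¹ := by
            rw [(((c1.mul_right c2).mul_right c1.inv_right).inv_left).eq]
        _ = w * v * w⁻¹ * ((x * y * x⁻¹ * y⁻¹) * v⁻¹) := by group
        _ = v * (v⁻¹ * (x * y * x⁻¹ * y⁻¹)) := by
            rw [c5.eq, mul_inv_cancel_right,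
              ((((c3.mul_right c4).mul_right c3.inv_right).mul_right c4.inv_right).inv_left).eq]
        _ = x * y * x⁻¹ * y⁻¹ := by group
    rw [h2, mul_inv_eq_iff_eq_mul] at h1
    exact h1.symm
  intro y hy
  exact (Subgroup.mem_centralizer_singleton_iff.mp (hle (hY.symm ▸ hy))).symm

theorem map_eq_of_commute {H : Type*} [Group H] (f : G →* H) (hp : IsRankOnePair A B)
    (hc : ∀ a ∈ A, ∀ b ∈ B, f a * f b = f b * f a) : A.map f = B.map f := by
  have key : ∀ {A B : Subgroup G}, IsRankOnePair A B → (∀ a ∈ A, ∀ b ∈ B, f a * f b = f b * f a) →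
      A.map f ≤ B.map f := by
    intro A B hp hc
    obtain ⟨a, ha, ha1⟩ := (Subgroup.bot_or_exists_ne_one A).resolve_left (left_ne_bot hp)
    obtain ⟨b, hb, -, e⟩ := hp.cond_left a ha ha1
    rintro _ ⟨x, hx, rfl⟩
    have h1 : b⁻¹ * x * b⁻¹⁻¹ ∈ conjBy B a⁻¹ := e ▸ conj_mem_conjBy hx
    obtain ⟨y, hy, hyx⟩ := h1
    change a⁻¹ * y * a⁻¹⁻¹ = b⁻¹ * x * b⁻¹⁻¹ at hyx
    have h2 := congrArg f hyx
    simp only [map_mul, map_inv, inv_inv] at h2
    rw [mul_assoc, ← hc a ha y hy, inv_mul_cancel_left, mul_assoc, hc x hx b hb, inv_mul_cancel_left] at h2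
    exact ⟨y, hy, h2⟩
  exact le_antisymm (key hp hc) (key (RankOnePair_symm hp) fun b hb a ha => (hc a ha b hb).symm)

theorem exists_edge (hc : IsConnectedFamily (FAdj S) S) (h2 : ∃ A ∈ S, ∃ B ∈ S, A ≠ B) (hA : A ∈ S) :
    ∃ B ∈ S, IsRankOnePair A B := by
  obtain ⟨P, hP, Q, hQ, hPQ⟩ := h2
  obtain ⟨D, hD, hne⟩ : ∃ D ∈ S, A ≠ D := by
    by_cases e : A = P
    · exact ⟨Q, hQ, e ▸ hPQ⟩
    · exact ⟨P, hP, e⟩
  rcases (hc A hA D hD).cases_head with e | ⟨E, ⟨-, hE, hp⟩, -⟩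
  · exact absurd e hne
  · exact ⟨E, hE, hp⟩

theorem exists_conj (hc : IsConnectedFamily (FAdj S) S) (hA : A ∈ S) (hB : B ∈ S) :
    ∃ g : G, B = conjBy A g := by
  induction hc A hA B hB with
  | refl => exact ⟨1, (conjBy_one A).symm⟩
  | tail _ hadj ih =>
    obtain ⟨hC, -, hp⟩ := hadj
    obtain ⟨g, rfl⟩ := ih hC
    obtain ⟨x, -, e⟩ := mem_unip_right hp
    exact ⟨x * g, by rw [e, conjBy_conjBy]⟩

theorem top_of_collapse {H : Type*} [Group H] (hS : IsRootSubgroupSet S) (hc : IsConnectedFamily (FAdj S) S)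
    (f : G →* H) (hf : ∀ C ∈ S, ∀ D ∈ S, IsRankOnePair C D → C.map f = D.map f) (hA : A ∈ S) :
    f.range = A.map f := by
  have hall : ∀ B ∈ S, B.map f = A.map f := by
    intro B hB
    induction hc A hA B hB with
    | refl => rfl
    | tail _ hadj ih => rw [← ih hadj.1]; exact (hf _ hadj.1 _ hadj.2.1 hadj.2.2).symm
  refine le_antisymm ?_ (by rw [MonoidHom.range_eq_map]; exact Subgroup.map_mono le_top)
  rw [MonoidHom.range_eq_map, ← hS.generates]
  simp only [Subgroup.map_iSup]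
  exact iSup₂_le fun B hB => (hall B hB).le

theorem sup_eq_top_of_range {H : Type*} [Group H] {N : Subgroup G} (f : G →* H) (hk : f.ker ≤ N)
    (h : f.range = A.map f) : N ⊔ A = ⊤ := by
  rw [eq_top_iff]
  intro g _
  obtain ⟨a, ha, e⟩ : f g ∈ A.map f := h ▸ ⟨g, rfl⟩
  have h1 : g * a⁻¹ ∈ N := hk (by rw [MonoidHom.mem_ker, map_mul, map_inv, e, mul_inv_cancel])
  rw [show g = g * a⁻¹ * a by group]
  exact Subgroup.mul_mem_sup h1 ha

theorem commutator_sup (hS : IsRootSubgroupSet S) (hc : IsConnectedFamily (FAdj S) S) (hA : A ∈ S) :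
    commutator G ⊔ A = ⊤ := by
  refine sup_eq_top_of_range (Abelianization.of (G := G)) (Abelianization.ker_of G).le
    (top_of_collapse hS hc _ (fun C _ D _ hp => map_eq_of_commute _ hp fun a _ b _ => mul_comm _ _) hA)

theorem commutator_le_of_pairs (hS : IsRootSubgroupSet S) (hc : IsConnectedFamily (FAdj S) S) (hA : A ∈ S)
    (K : Subgroup G) [K.Normal] (hK : ∀ C ∈ S, ∀ D ∈ S, IsRankOnePair C D → ⁅C ⊔ D, C ⊔ D⁆ ≤ K) :
    commutator G ≤ K := by
  set π := QuotientGroup.mk' K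
  have hr := top_of_collapse hS hc π (fun C hC D hD hp => map_eq_of_commute _ hp fun a ha b hb => by
    have h1 : a * b * a⁻¹ * b⁻¹ ∈ K := hK C hC D hD hp (Subgroup.commutator_mem_commutator
      ((le_sup_left : C ≤ C ⊔ D) ha) ((le_sup_right : D ≤ C ⊔ D) hb))
    have h2 : π (a * b * a⁻¹ * b⁻¹) = 1 := (QuotientGroup.eq_one_iff _).mpr h1
    simp only [map_mul, map_inv] at h2
    rwa [mul_inv_eq_one, mul_inv_eq_iff_eq_mul] at h2) hA
  rw [_root_.commutator_def, Subgroup.commutator_le]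
  intro x _ y _
  rw [← QuotientGroup.eq_one_iff, commutatorElement_def]
  obtain ⟨a, ha, ea⟩ : π x ∈ A.map π := hr ▸ ⟨x, rfl⟩
  obtain ⟨b, hb, eb⟩ : π y ∈ A.map π := hr ▸ ⟨y, rfl⟩
  show π (x * y * x⁻¹ * y⁻¹) = 1
  simp only [map_mul, map_inv, ← ea, ← eb]
  rw [← map_inv, ← map_inv, ← map_mul, ← map_mul, ← map_mul, commute_of_mem hS hA ha hb]
  simp

theorem conj_pair_commutator (A B : Subgroup G) (g : G) :
    conjBy ⁅A ⊔ B, A ⊔ B⁆ g = ⁅conjBy A g ⊔ conjBy B g, conjBy A g ⊔ conjBy B g⁆ := by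
  show Subgroup.map _ _ = _
  rw [Subgroup.map_commutator, Subgroup.map_sup]

/-- The degenerate case: the dichotomy for subgroups normalized by the derived group. -/
theorem dichotomy_of_big (hS : IsRootSubgroupSet S) (hc : IsConnectedFamily (FAdj S) S)
    (h2 : ∃ A ∈ S, ∃ B ∈ S, A ≠ B) (hdeg : IsDegenerateRootSet S)
    (h2' : ∀ A ∈ S, ∀ C ∈ S, A ≠ C → centralizingMembers S A ≠ centralizingMembers S C)
    (hbig : ∀ C ∈ S, ∀ D ∈ S, IsRankOnePair C D → BigPair C D)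
    (N : Subgroup G) (hN : N ≤ commutator G) (hn : ∀ x ∈ commutator G, ∀ m ∈ N, x * m * x⁻¹ ∈ N) :
    N ≤ Subgroup.centralizer (commutator G : Set G) ∨ commutator G ≤ N := by
  have hYG : ∀ C D : Subgroup G, ⁅C ⊔ D, C ⊔ D⁆ ≤ commutator G := fun C D => by
    rw [_root_.commutator_def]; exact Subgroup.commutator_mono le_top le_top
  have hmeet : ∀ C ∈ S, ∃ c ∈ C, c ≠ 1 ∧ c ∈ commutator G := by
    intro C hC
    obtain ⟨D, hD, hp⟩ := exists_edge hc h2 hC
    obtain ⟨c, h1, h2, h3⟩ := (hbig C hC D hD hp).meet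
    exact ⟨c, h1, h2, hYG C D h3⟩
  -- inside a pair
  have hinner : ∀ C ∈ S, ∀ D ∈ S, IsRankOnePair C D → ¬ ⁅C ⊔ D, C ⊔ D⁆ ≤ N →
      ∀ m ∈ N, m ∈ ⁅C ⊔ D, C ⊔ D⁆ → ∀ x ∈ C ⊔ D, m * x = x * m := by
    intro C hC D hD hp hnot m hmN hmY
    rcases (hbig C hC D hD hp).dich (N ⊓ ⁅C ⊔ D, C ⊔ D⁆) inf_le_right (fun x hx w hw =>
        Subgroup.mem_inf.mpr ⟨hn x (hYG C D hx) w hw.1,
          mul_mem (mul_mem hx (Subgroup.mem_inf.mp hw).2) (inv_mem hx)⟩) with h | h
    · exact h m ⟨hmN, hmY⟩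
    · exact absurd (h.trans inf_le_left) hnot
  have hcent : ∀ C ∈ S, ∀ D ∈ S, IsRankOnePair C D → ¬ ⁅C ⊔ D, C ⊔ D⁆ ≤ N →
      ∀ z ∈ N, (∀ y ∈ ⁅C ⊔ D, C ⊔ D⁆, z * y * z⁻¹ ∈ ⁅C ⊔ D, C ⊔ D⁆) →
      ∀ y ∈ ⁅C ⊔ D, C ⊔ D⁆, z * y = y * z := by
    intro C hC D hD hp hnot z hz hzY
    have hm : ∀ x ∈ ⁅C ⊔ D, C ⊔ D⁆, z * x * z⁻¹ * x⁻¹ ∈ ⁅C ⊔ D, C ⊔ D⁆ := fun x hx =>
      mul_mem (hzY x hx) (inv_mem hx)
    refine centralizes_of_central _ (hbig C hC D hD hp).perfect (fun x hx y hy => ?_) hm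
    refine hinner C hC D hD hp hnot _ ?_ (hm x hx) y (?_)
    · have := mul_mem hz (hn x (hYG C D hx) _ (inv_mem hz))
      simpa [mul_assoc] using this
    · exact (Subgroup.commutator_le.mpr fun u hu v hv => by
        rw [commutatorElement_def]
        exact mul_mem (mul_mem (mul_mem hu hv) (inv_mem hu)) (inv_mem hv)) hy
  by_cases hfix : ∀ n ∈ N, ∀ C ∈ S, conjBy C n = C
  · left
    have hW : ∀ C ∈ S, ∀ D ∈ S, IsRankOnePair C D → ∀ n ∈ N, ∀ y ∈ ⁅C ⊔ D, C ⊔ D⁆, n * y = y * n := by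
      intro C hC D hD hp n hnN
      refine hcent C hC D hD hp (fun h => (hbig C hC D hD hp).not_fix fun y hy => hfix y (h hy) C hC) n hnN
        fun y hy => ?_
      have h1 : conjBy ⁅C ⊔ D, C ⊔ D⁆ n = ⁅C ⊔ D, C ⊔ D⁆ := by
        rw [conj_pair_commutator, hfix n hnN C hC, hfix n hnN D hD]
      exact h1 ▸ conj_mem_conjBy hy
    set W : Set G := {x | ∃ C ∈ S, ∃ D ∈ S, IsRankOnePair C D ∧ x ∈ ⁅C ⊔ D, C ⊔ D⁆}
    obtain ⟨A, hA, -⟩ := h2
    refine fun n hnN => Subgroup.mem_centralizer_iff.mpr fun g hg => ?_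
    have hle : Subgroup.normalClosure W ≤ Subgroup.centralizer ({n} : Set G) := by
      refine (Subgroup.closure_le _).mpr fun x hx => ?_
      obtain ⟨w, ⟨C, hC, D, hD, hp, hw⟩, hwx⟩ := Group.mem_conjugatesOfSet_iff.mp hx
      obtain ⟨g, rfl⟩ := isConj_iff.mp hwx
      have h1 : g * w * g⁻¹ ∈ ⁅conjBy C g ⊔ conjBy D g, conjBy C g ⊔ conjBy D g⁆ :=
        conj_pair_commutator C D g ▸ conj_mem_conjBy hw
      exact Subgroup.mem_centralizer_singleton_iff.mpr
        (hW _ (hS.conj_mem C hC g) _ (hS.conj_mem D hD g) (pair_conjBy hp g) n hnN _ h1).symm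
    have hGW : commutator G ≤ Subgroup.normalClosure W := commutator_le_of_pairs hS hc hA _
      fun C hC D hD hp x hx => Subgroup.subset_normalClosure ⟨C, hC, D, hD, hp, hx⟩
    exact Subgroup.mem_centralizer_singleton_iff.mp (hle (hGW hg))
  · right
    push Not at hfix
    obtain ⟨n, hnN, A, hA, hne⟩ := hfix
    have hA' : conjBy A n ∈ S := hS.conj_mem A hA n
    have hmove : ∀ a ∈ commutator G, ∀ n ∈ N, n * a * n⁻¹ * a⁻¹ ∈ N := fun a ha n hn' => by
      have := mul_mem hn' (hn a ha _ (inv_mem hn'))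
      simpa [mul_assoc] using this
    -- a member commuting with exactly one of the two
    have hB : ∀ A ∈ S, ∀ n ∈ N, ∀ C ∈ S, ⁅A, C⁆ = ⊥ → IsRankOnePair (conjBy A n) C →
        ∃ E ∈ S, ∃ D ∈ S, IsRankOnePair E D ∧ ⁅E ⊔ D, E ⊔ D⁆ ≤ N := by
      intro A hA n hnN C hC hAC hp
      have hA' : conjBy A n ∈ S := hS.conj_mem A hA n
      refine ⟨_, hA', C, hC, hp, ?_⟩
      by_contra hnot
      obtain ⟨a, ha, ha1, haG⟩ := hmeet A hA
      obtain ⟨c, hcC, hc1, hcG⟩ := hmeet C hC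
      set a' := n * a * n⁻¹ with ha'
      have ha'A : a' ∈ conjBy A n := conj_mem_conjBy ha
      set z := a' * a⁻¹ with hz
      have hzN : z ∈ N := hmove a haG n hnN
      have hac : a * c = c * a := commutator_eq_bot_iff.mp hAC a ha c hcC
      set w := a' * c * a'⁻¹ * c⁻¹ with hw
      have hwN : w ∈ N := by
        have h1 := mul_mem hzN (hn c hcG _ (inv_mem hzN))
        have h2 : w = z * (c * z⁻¹ * c⁻¹) := by
          rw [hw, hz]
          calc a' * c * a'⁻¹ * c⁻¹ = a' * (a⁻¹ * (a * c)) * a'⁻¹ * c⁻¹ := by group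
            _ = a' * (a⁻¹ * (c * a)) * a'⁻¹ * c⁻¹ := by rw [hac]
            _ = _ := by group
        rw [h2]; exact h1
      have hwY : w ∈ ⁅conjBy A n ⊔ C, conjBy A n ⊔ C⁆ := by
        have := Subgroup.commutator_mem_commutator ((le_sup_left : conjBy A n ≤ conjBy A n ⊔ C) ha'A)
          ((le_sup_right : C ≤ conjBy A n ⊔ C) hcC)
        rwa [commutatorElement_def] at this
      have hwc := hinner _ hA' C hC hp hnot w hwN hwY
      by_cases hw1 : w = 1
      · have hcomm : c * a' * c⁻¹ = a' := by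
          rw [hw, mul_inv_eq_one, mul_inv_eq_iff_eq_mul] at hw1
          rw [mul_inv_eq_iff_eq_mul, hw1]
        have ha'1 : a' ≠ 1 := fun e => ha1 (conj_eq_one_iff.mp e)
        have hmem : a' ∈ conjBy (conjBy A n) c := hcomm ▸ conj_mem_conjBy ha'A
        rcases inf_eq_bot_or_eq hS hA' (hS.conj_mem _ hA' c) hC hp with e | e
        · exact ha'1 ((Subgroup.eq_bot_iff_forall _).mp e a' ⟨ha'A, hmem⟩)
        · exact hc1 (eq_one_of_normalizes (RankOnePair_symm hp) hcC e.symm)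
      · refine translate hS hC hA' (RankOnePair_symm hp) (fun x hx => hwc x (by rwa [sup_comm])) hw1 hcC hc1
          (hS.conj_mem C hC a') ?_
        rw [show w * c = a' * c * a'⁻¹ by rw [hw]; group]
        exact conj_mem_conjBy hcC
    obtain ⟨E, hE, D, hD, hED, hEDN⟩ : ∃ E ∈ S, ∃ D ∈ S, IsRankOnePair E D ∧ ⁅E ⊔ D, E ⊔ D⁆ ≤ N := by
      rcases hS.pair A hA _ hA' with hcm | hp | hcc
      · have hne' := h2' A hA _ hA' (Ne.symm hne)
        rw [Ne, Set.ext_iff] at hne'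
        push Not at hne'
        obtain ⟨C, hC⟩ := hne'
        have hcm' : ∀ X : Subgroup G, C ∈ centralizingMembers S X ↔ C ∈ S ∧ ⁅X, C⁆ = ⊥ := fun X => by
          show C ∈ S ∧ _ ↔ _
          refine and_congr_right fun _ => ?_
          rw [commutator_eq_bot_iff]
          exact ⟨fun h x hx c hcm => (Subgroup.mem_centralizer_iff.mp (h hcm) x hx),
            fun h c hcm => Subgroup.mem_centralizer_iff.mpr fun x hx => h x hx c hcm⟩
        rw [hcm', hcm'] at hC
        rcases hC with ⟨⟨hCS, h1⟩, h3⟩ | ⟨h3, hCS, h1⟩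
        · have h4 : ⁅conjBy A n, C⁆ ≠ ⊥ := fun e => h3 ⟨hCS, e⟩
          rcases hS.pair _ hA' C hCS with e | e | e
          · exact absurd e h4
          · exact hB A hA n hnN C hCS h1 e
          · exact absurd e (hdeg _ hA' C hCS)
        · have h4 : ⁅A, C⁆ ≠ ⊥ := fun e => h3 ⟨hCS, e⟩
          have e0 : conjBy (conjBy A n) n⁻¹ = A := by rw [conjBy_conjBy, inv_mul_cancel, conjBy_one]
          rcases hS.pair A hA C hCS with e | e | e
          · exact absurd e h4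
          · exact hB _ hA' n⁻¹ (inv_mem hnN) C hCS h1 (e0.symm ▸ e)
          · exact absurd e (hdeg A hA C hCS)
      · refine ⟨A, hA, _, hA', hp, ?_⟩
        by_contra hnot
        obtain ⟨a, ha, ha1, haG⟩ := hmeet A hA
        set a' := n * a * n⁻¹ with ha'
        have hzN : a' * a⁻¹ ∈ N := hmove a haG n hnN
        have haX : a ∈ A ⊔ conjBy A n := (le_sup_left : A ≤ A ⊔ conjBy A n) ha
        have ha'X : a' ∈ A ⊔ conjBy A n := (le_sup_right : conjBy A n ≤ A ⊔ conjBy A n) (conj_mem_conjBy ha)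
        have hzX : a' * a⁻¹ ∈ A ⊔ conjBy A n := mul_mem ha'X (inv_mem haX)
        have h1 := hcent A hA _ hA' hp hnot _ hzN fun y hy => by
          have h : conjBy ⁅A ⊔ conjBy A n, A ⊔ conjBy A n⁆ (a' * a⁻¹) = ⁅A ⊔ conjBy A n, A ⊔ conjBy A n⁆ := by
            show Subgroup.map _ _ = _
            rw [Subgroup.map_commutator]
            have h' : (A ⊔ conjBy A n).map (MulAut.conj (a' * a⁻¹)).toMonoidHom = A ⊔ conjBy A n :=
              mem_normalizer_iff.mp (Subgroup.le_normalizer hzX)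
            rw [h']
          exact h ▸ conj_mem_conjBy hy
        have hzc := (hbig A hA _ hA' hp).cent _ hzX h1
        by_cases hz1 : a' * a⁻¹ = 1
        · rw [mul_inv_eq_one] at hz1
          have hmem : a ∈ conjBy A n := hz1 ▸ conj_mem_conjBy ha
          rcases inf_eq_bot_or_eq hS hA hA' hA' hp with e | e
          · exact ha1 ((Subgroup.eq_bot_iff_forall _).mp e a ⟨ha, hmem⟩)
          · exact hp.ne e
        · refine translate hS hA hA' hp hzc hz1 ha ha1 hA' ?_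
          rw [inv_mul_cancel_right]
          exact conj_mem_conjBy ha
      · exact absurd hcc (hdeg A hA _ hA')
    have hGN : ∀ g : G, ⁅conjBy E g ⊔ conjBy D g, conjBy E g ⊔ conjBy D g⁆ ≤ N := by
      intro g
      obtain ⟨k, hk, e, he, rfl⟩ : ∃ k ∈ commutator G, ∃ e ∈ E, g = k * e := by
        have hg : g ∈ ((commutator G ⊔ E : Subgroup G) : Set G) := by
          rw [commutator_sup hS hc hE]; trivial
        rw [Subgroup.normal_mul] at hg
        obtain ⟨k, hk, e, he, rfl⟩ := hg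
        exact ⟨k, hk, e, he, rfl⟩
      rw [← conj_pair_commutator, ← conjBy_conjBy]
      rintro _ ⟨y, ⟨x, hx, rfl⟩, rfl⟩
      refine hn k hk _ (hEDN ?_)
      have h' : conjBy ⁅E ⊔ D, E ⊔ D⁆ e = ⁅E ⊔ D, E ⊔ D⁆ := by
        show Subgroup.map _ _ = _
        rw [Subgroup.map_commutator]
        have h'' : (E ⊔ D).map (MulAut.conj e).toMonoidHom = E ⊔ D :=
          mem_normalizer_iff.mp (Subgroup.le_normalizer ((le_sup_left : E ≤ E ⊔ D) he))
        rw [h'']
      exact h' ▸ conj_mem_conjBy hx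
    set K := Subgroup.normalClosure ((⁅E ⊔ D, E ⊔ D⁆ : Subgroup G) : Set G)
    have hKN : K ≤ N := by
      refine (Subgroup.closure_le _).mpr fun x hx => ?_
      obtain ⟨w, hw, hwx⟩ := Group.mem_conjugatesOfSet_iff.mp hx
      obtain ⟨g, rfl⟩ := isConj_iff.mp hwx
      exact hGN g (conj_pair_commutator E D g ▸ conj_mem_conjBy hw)
    refine (commutator_le_of_pairs hS hc hE K fun C hC C' hC' hp => ?_).trans hKN
    obtain ⟨e, heE, he1, heY⟩ := (hbig E hE D hD hED).meet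
    obtain ⟨g, rfl⟩ := exists_conj hc hE hC
    set c := g * e * g⁻¹
    have hcC : c ∈ conjBy E g := conj_mem_conjBy heE
    have hcK : c ∈ K := Subgroup.normalClosure_normal.conj_mem e (Subgroup.subset_normalClosure heY) g
    set X := conjBy E g ⊔ C'
    rcases (hbig _ hC C' hC' hp).dich (K ⊓ ⁅X, X⁆) inf_le_right (fun x hx w hw =>
        Subgroup.mem_inf.mpr ⟨Subgroup.normalClosure_normal.conj_mem w hw.1 x,
          mul_mem (mul_mem hx (Subgroup.mem_inf.mp hw).2) (inv_mem hx)⟩) with h | h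
    · exfalso
      have hcX : c ∈ X := (le_sup_left : conjBy E g ≤ X) hcC
      have hYX : ⁅X, X⁆ ≤ X := Subgroup.commutator_le.mpr fun u hu v hv => by
        rw [commutatorElement_def]
        exact mul_mem (mul_mem (mul_mem hu hv) (inv_mem hu)) (inv_mem hv)
      have hm : ∀ x ∈ ⁅X, X⁆, c * x * c⁻¹ * x⁻¹ ∈ ⁅X, X⁆ := fun x hx => by
        have := Subgroup.commutator_mem_commutator hcX (hYX hx)
        rwa [commutatorElement_def] at this
      have h1 := centralizes_of_central _ (hbig _ hC C' hC' hp).perfect (fun x hx y hy => h _ ⟨by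
          have := mul_mem hcK (Subgroup.normalClosure_normal.conj_mem _ (inv_mem hcK) x)
          simpa [mul_assoc] using this, hm x hx⟩ y (hYX hy)) hm
      have h2 := (hbig _ hC C' hC' hp).cent c hcX h1
      have hc1 : c ≠ 1 := fun e => he1 (conj_eq_one_iff.mp e)
      exact hc1 (eq_one_of_normalizes hp hcC
        (conjBy_eq_self_of_commute fun x hx => h2 x ((le_sup_right : C' ≤ X) hx)))
    · exact h.trans inf_le_left

/-- The non-degenerate case: every normal subgroup is central or everything. -/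
theorem dichotomy_of_commCase (hS : IsRootSubgroupSet S) (hc : IsConnectedFamily (FAdj S) S)
    (h2 : ∃ A ∈ S, ∃ B ∈ S, A ≠ B)
    (h2' : ∀ A ∈ S, ∀ C ∈ S, A ≠ C → centralizingMembers S A ≠ centralizingMembers S C)
    {P Q : Subgroup G} (hP : P ∈ S) (hQ : Q ∈ S) (hPQ : RootCommutatorCase S P Q)
    (N : Subgroup G) [N.Normal] : N ≤ Subgroup.center G ∨ N = ⊤ := by
  have htop : ∀ R ∈ S, R ≤ N → N = ⊤ := by
    intro R hR hRN
    rw [eq_top_iff, ← hS.generates]
    refine iSup₂_le fun C hC => ?_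
    obtain ⟨g, rfl⟩ := exists_conj hc hR hC
    rintro _ ⟨x, hx, rfl⟩
    exact Subgroup.Normal.conj_mem ‹_› x (hRN hx) g
  set π := QuotientGroup.mk' N
  have hker : ∀ {R : Subgroup G}, R.map π = ⊥ → R ≤ N := fun {R} h => by
    rw [Subgroup.map_eq_bot_iff, QuotientGroup.ker_mk'] at h; exact h
  have hkill : ∀ C D : Subgroup G, RootCommutatorCase S C D → ⁅C.map π, D.map π⁆ = ⊥ → N = ⊤ :=
    fun C D h h' => htop _ h.1 (hker (by rw [Subgroup.map_commutator]; exact h'))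
  have hcomm : ∀ C ∈ S, ∀ D : Subgroup G, C.map π = D.map π → ∀ E : Subgroup G, ⁅D, E⁆ = ⊥ →
      ⁅C.map π, E.map π⁆ = ⊥ := fun C _ D e E h => by
    rw [e, ← Subgroup.map_commutator, h, Subgroup.map_bot]
  by_cases hfix : ∀ n ∈ N, ∀ C ∈ S, conjBy C n = C
  · left
    intro n hn
    have hle : (⨆ C ∈ S, C) ≤ Subgroup.centralizer ({n} : Set G) := by
      refine iSup₂_le fun C hC c hcC => Subgroup.mem_centralizer_singleton_iff.mpr ?_
      by_contra hne
      set z := n * c * n⁻¹ * c⁻¹ with hz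
      have hzC : z ∈ C := mul_mem (hfix n hn C hC ▸ conj_mem_conjBy hcC) (inv_mem hcC)
      have hzN : z ∈ N := by
        rw [hz, show n * c * n⁻¹ * c⁻¹ = n * (c * n⁻¹ * c⁻¹) by group]
        exact mul_mem hn (Subgroup.Normal.conj_mem ‹_› _ (inv_mem hn) c)
      have hz1 : z ≠ 1 := fun e => hne (by
        rw [hz, mul_inv_eq_one, mul_inv_eq_iff_eq_mul] at e; exact e.symm)
      obtain ⟨D, hD, hp⟩ := exists_edge hc h2 hC
      exact hz1 (eq_one_of_normalizes hp hzC (hfix z hzN D hD))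
    rw [hS.generates] at hle
    exact Subgroup.mem_center_iff.mpr fun g => Subgroup.mem_centralizer_singleton_iff.mp (hle (Subgroup.mem_top g))
  · right
    by_contra hNT
    push Not at hfix
    obtain ⟨n, hnN, A, hA, hne⟩ := hfix
    have hA' : conjBy A n ∈ S := hS.conj_mem A hA n
    have hn1 : π n = 1 := (QuotientGroup.eq_one_iff n).mpr hnN
    have hAA : (conjBy A n).map π = A.map π := by
      ext x
      constructor
      · rintro ⟨_, ⟨a, ha, rfl⟩, rfl⟩
        exact ⟨a, ha, by simp [hn1]⟩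
      · rintro ⟨a, ha, rfl⟩
        exact ⟨_, conj_mem_conjBy ha, by simp [hn1]⟩
    -- a rank one pair with the same image
    obtain ⟨E, hE, D, hD, hED, heq⟩ : ∃ E ∈ S, ∃ D ∈ S, IsRankOnePair E D ∧ E.map π = D.map π := by
      have hstep : ∀ A ∈ S, ∀ A' ∈ S, A'.map π = A.map π → ∀ C ∈ S, ⁅A, C⁆ = ⊥ → ⁅A', C⁆ ≠ ⊥ →
          ∃ E ∈ S, ∃ D ∈ S, IsRankOnePair E D ∧ E.map π = D.map π := by
        intro A hA A' hA' e C hC h1 h3
        have h5 := hcomm A' hA' A e C h1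
        rcases hS.pair A' hA' C hC with h | h | h
        · exact absurd h h3
        · exact ⟨A', hA', C, hC, h, map_eq_of_commute π h fun a ha b hb =>
            commutator_eq_bot_iff.mp h5 _ (Subgroup.mem_map_of_mem π ha) _ (Subgroup.mem_map_of_mem π hb)⟩
        · exact absurd (hkill A' C h h5) hNT
      rcases hS.pair A hA _ hA' with hcm | hp | hcc
      · have hne' := h2' A hA _ hA' (Ne.symm hne)
        rw [Ne, Set.ext_iff] at hne'
        push Not at hne'
        obtain ⟨C, hC⟩ := hne'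
        have hcm' : ∀ X : Subgroup G, C ∈ centralizingMembers S X ↔ C ∈ S ∧ ⁅X, C⁆ = ⊥ := fun X => by
          show C ∈ S ∧ _ ↔ _
          refine and_congr_right fun _ => ?_
          rw [commutator_eq_bot_iff]
          exact ⟨fun h x hx c hcm => (Subgroup.mem_centralizer_iff.mp (h hcm) x hx),
            fun h c hcm => Subgroup.mem_centralizer_iff.mpr fun x hx => h x hx c hcm⟩
        rw [hcm', hcm'] at hC
        rcases hC with ⟨⟨hCS, h1⟩, h3⟩ | ⟨h3, hCS, h1⟩
        · exact hstep A hA _ hA' hAA C hCS h1 fun e => h3 ⟨hCS, e⟩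
        · exact hstep _ hA' A hA hAA.symm C hCS h1 fun e => h3 ⟨hCS, e⟩
      · exact ⟨A, hA, _, hA', hp, hAA.symm⟩
      · refine absurd (hkill A _ hcc ?_) hNT
        rw [hAA, ← Subgroup.map_commutator, commutator_eq_bot_iff.mpr
          (fun a ha b hb => commute_of_mem hS hA ha hb), Subgroup.map_bot]
    -- write `E` as a commutator
    obtain ⟨g, hg⟩ := exists_conj hc hPQ.1 hE
    set P' := conjBy P g
    set Q' := conjBy Q g
    have hP' : P' ∈ S := hS.conj_mem P hP g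
    have hQ' : Q' ∈ S := hS.conj_mem Q hQ g
    have hEc : E = ⁅P', Q'⁆ := hg.trans (Subgroup.map_commutator _ _ _)
    have hEle : E ≤ P' ⊔ Q' := hEc ▸ Subgroup.commutator_le.mpr fun u hu v hv => by
      have hu' : u ∈ P' ⊔ Q' := (le_sup_left : P' ≤ P' ⊔ Q') hu
      have hv' : v ∈ P' ⊔ Q' := (le_sup_right : Q' ≤ P' ⊔ Q') hv
      rw [commutatorElement_def]
      exact mul_mem (mul_mem (mul_mem hu' hv') (inv_mem hu')) (inv_mem hv')
    have hcen : ∀ R : Subgroup G, R ≤ P ⊔ Q → ⁅E, conjBy R g⁆ = ⊥ := by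
      intro R hR
      rw [hg]
      refine commutator_eq_bot_iff.mpr ?_
      rintro _ ⟨x, hx, rfl⟩ _ ⟨y, hy, rfl⟩
      rw [← map_mul, ← map_mul, hPQ.2.1 x hx y (hR hy)]
    have hcomm' : ∀ R ∈ S, ⁅E, R⁆ = ⊥ → ⁅R, D⁆ = ⊥ ∨ R.map π = E.map π := by
      intro R hR hER
      have h5 : ⁅D.map π, R.map π⁆ = ⊥ := hcomm D hD E heq.symm R hER
      rcases hS.pair R hR D hD with h | h | h
      · exact Or.inl h
      · refine Or.inr ((map_eq_of_commute π h fun a ha b hb => ?_).trans heq.symm)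
        exact (commutator_eq_bot_iff.mp h5 _ (Subgroup.mem_map_of_mem π hb) _ (Subgroup.mem_map_of_mem π ha)).symm
      · exact absurd (hkill R D h (by rw [Subgroup.commutator_comm]; exact h5)) hNT
    have hkillE : ⁅P'.map π, Q'.map π⁆ = ⊥ → False := fun h =>
      hNT (htop E hE (hker (by rw [hEc, Subgroup.map_commutator]; exact h)))
    have hPD : ⁅P', D⁆ = ⊥ := (hcomm' P' hP' (hcen P le_sup_left)).resolve_right fun e =>
      hkillE (by rw [e, ← Subgroup.map_commutator, hcen Q le_sup_right, Subgroup.map_bot])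
    have hQD : ⁅Q', D⁆ = ⊥ := (hcomm' Q' hQ' (hcen Q le_sup_right)).resolve_right fun e =>
      hkillE (by rw [e, Subgroup.commutator_comm, ← Subgroup.map_commutator, hcen P le_sup_left, Subgroup.map_bot])
    refine hED.ne (eq_of_commute hED (mem_unip_left E D) (mem_unip_right hED) ?_)
    rw [Subgroup.commutator_eq_bot_iff_le_centralizer] at hPD hQD ⊢
    exact hEle.trans (sup_le hPD hQD)

theorem isQuasisimple_of (Y : Subgroup G) (hp : ⁅Y, Y⁆ = Y) (hY : Y ≠ ⊥)
    (hd : ∀ M : Subgroup G, M ≤ Y → (∀ x ∈ Y, ∀ m ∈ M, x * m * x⁻¹ ∈ M) →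
      M ≤ Subgroup.centralizer (Y : Set G) ∨ Y ≤ M) : IsQuasisimple ↥Y := by
  refine ⟨?_, ?_⟩
  · rw [Group.isPerfect_def]
    apply Subgroup.map_injective Y.subtype_injective
    rw [Subgroup.map_subtype_commutator, ← MonoidHom.range_eq_map, Subgroup.range_subtype]
    exact hp
  have hZ : Subgroup.center ↥Y ≠ ⊤ := fun e => hY (hp ▸ commutator_eq_bot_iff.mpr fun x hx y hy =>
    congrArg Subtype.val (Subgroup.mem_center_iff.mp (e ▸ Subgroup.mem_top (⟨y, hy⟩ : Y)) ⟨x, hx⟩))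
  haveI : Nontrivial (↥Y ⧸ Subgroup.center ↥Y) := QuotientGroup.nontrivial_iff.mpr hZ
  refine ⟨fun N hN => ?_⟩
  set π := QuotientGroup.mk' (Subgroup.center ↥Y)
  set M := (N.comap π).map Y.subtype with hM
  rcases hd M (Subgroup.map_subtype_le _) (by
      rintro x hx _ ⟨m, hm, rfl⟩
      exact ⟨⟨x, hx⟩ * m * ⟨x, hx⟩⁻¹, (hN.comap π).conj_mem m hm ⟨x, hx⟩, rfl⟩) with hc | hc
  · left
    rw [← Subgroup.map_comap_eq_self_of_surjective (f := π) (QuotientGroup.mk'_surjective _) N,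
      Subgroup.map_eq_bot_iff, QuotientGroup.ker_mk']
    intro m hm
    exact Subgroup.mem_center_iff.mpr fun g => Subtype.ext
      (Subgroup.mem_centralizer_iff.mp (hc ⟨m, hm, rfl⟩) g g.2)
  · right
    rw [← Subgroup.map_comap_eq_self_of_surjective (f := π) (QuotientGroup.mk'_surjective _) N,
      show N.comap π = ⊤ from ?_, Subgroup.map_top_of_surjective _ (QuotientGroup.mk'_surjective _)]
    rw [eq_top_iff]
    intro m _
    obtain ⟨m', hm', e⟩ := hc m.2
    rwa [← show m' = m from Subtype.ext e]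

theorem criterion (hS : IsRootSubgroupSet S) (h2 : ∃ A ∈ S, ∃ B ∈ S, A ≠ B)
    (hc : IsConnectedFamily (FAdj S) S)
    (h2' : ∀ A ∈ S, ∀ C ∈ S, A ≠ C → centralizingMembers S A ≠ centralizingMembers S C)
    (h3 : IsDegenerateRootSet S → ∀ A ∈ S, 3 < ENat.card A)
    (h4 : ∀ A ∈ S, ∀ B ∈ rankOnePartners S A, IsSpecialRankOnePair A B) :
    (∀ A ∈ S, commutator G ⊔ A = ⊤ ∧ A ⊓ commutator G ≠ ⊥) ∧ IsQuasisimple ↥(commutator G) ∧
    (IsNondegenerateRootSet S → commutator G = ⊤) ∧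
    ((∃ A ∈ S, ∃ B ∈ rankOnePartners S A, Group.IsPerfect ↥(A ⊔ B)) → commutator G = ⊤) := by
  obtain ⟨A₀, hA₀, B₀, hB₀, hne₀⟩ := h2
  have h2 : ∃ A ∈ S, ∃ B ∈ S, A ≠ B := ⟨A₀, hA₀, B₀, hB₀, hne₀⟩
  have hperf : (∃ A ∈ S, ∃ B ∈ rankOnePartners S A, Group.IsPerfect ↥(A ⊔ B)) → commutator G = ⊤ := by
    rintro ⟨A, hA, B, -, hX⟩
    have h1 : A ≤ commutator G := by
      rw [Group.isPerfect_def] at hX
      have := congrArg (Subgroup.map (A ⊔ B).subtype) hX
      rw [Subgroup.map_subtype_commutator, ← MonoidHom.range_eq_map, Subgroup.range_subtype] at this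
      rw [_root_.commutator_def]
      exact le_sup_left.trans (this.ge.trans (Subgroup.commutator_mono le_top le_top))
    rw [← commutator_sup hS hc hA, sup_eq_left.mpr h1]
  by_cases hdeg : IsDegenerateRootSet S
  · have hbig : ∀ C ∈ S, ∀ D ∈ S, IsRankOnePair C D → BigPair C D := fun C hC D hD hp =>
      bigPair hS hC (h4 C hC D ⟨hD, hp⟩) (h3 hdeg C hC)
    have hYG : ∀ C D : Subgroup G, ⁅C ⊔ D, C ⊔ D⁆ ≤ commutator G := fun C D => by
      rw [_root_.commutator_def]; exact Subgroup.commutator_mono le_top le_top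
    refine ⟨fun A hA => ⟨commutator_sup hS hc hA, fun e => ?_⟩, ?_, fun hnd => ?_, hperf⟩
    · obtain ⟨D, hD, hp⟩ := exists_edge hc h2 hA
      obtain ⟨a, ha, ha1, haY⟩ := (hbig A hA D hD hp).meet
      exact ha1 ((Subgroup.eq_bot_iff_forall _).mp e a ⟨ha, hYG A D haY⟩)
    · refine isQuasisimple_of _ ?_ ?_ fun M hM hn => dichotomy_of_big hS hc h2 hdeg h2' hbig M hM hn
      · refine le_antisymm ?_ (commutator_le_of_pairs hS hc hA₀ _ fun C hC D hD hp => ?_)
        · exact (Subgroup.commutator_mono le_top le_top).trans (_root_.commutator_def G).ge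
        · conv_lhs => rw [← (hbig C hC D hD hp).perfect]
          exact Subgroup.commutator_mono (hYG C D) (hYG C D)
      · intro e
        obtain ⟨D, hD, hp⟩ := exists_edge hc h2 hA₀
        obtain ⟨a, ha, ha1, haY⟩ := (hbig A₀ hA₀ D hD hp).meet
        exact ha1 ((Subgroup.eq_bot_iff_forall _).mp e a (hYG A₀ D haY))
    · obtain ⟨P, hP, Q, hQ, hPQ⟩ := hnd.2.2
      exact absurd hPQ (hdeg P hP Q hQ)
  · unfold IsDegenerateRootSet at hdeg
    push Not at hdeg
    obtain ⟨P, hP, Q, hQ, hPQ⟩ := hdeg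
    have hR : ⁅P, Q⁆ ≤ commutator G := by
      rw [_root_.commutator_def]; exact Subgroup.commutator_mono le_top le_top
    have htop : commutator G = ⊤ := by rw [← commutator_sup hS hc hPQ.1, sup_eq_left.mpr hR]
    refine ⟨fun A hA => ⟨by rw [htop, top_sup_eq], by rw [htop, inf_top_eq]; exact hS.ne_bot A hA⟩, ?_,
      fun _ => htop, fun _ => htop⟩
    refine isQuasisimple_of _ ?_ ?_ fun M hM hn => ?_
    · rw [htop, ← _root_.commutator_def, htop]
    · rw [htop]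
      exact fun e => hS.ne_bot _ hA₀ (eq_bot_iff.mpr (e ▸ le_top))
    · haveI : M.Normal := ⟨fun m hm x => hn x (htop ▸ Subgroup.mem_top x) m hm⟩
      rcases dichotomy_of_commCase hS hc h2 h2' hP hQ hPQ M with h | h
      · exact Or.inl (h.trans (Subgroup.center_le_centralizer _))
      · exact Or.inr (h ▸ le_top)

end Cfsg.Agent.Lib.RankOne.Quasi
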