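import Cfsg.Agent.Lib.RankOne.CommCase
import Cfsg.Agent.Lib.RankOne.Quasisimple

/-!
# Lines, components and the configuration `⁅A, B⁆ = C`, `⁅D, C⁆ = A`
-/

set_option autoImplicit false

namespace Cfsg.Agent.Lib.RankOne.Lines

open Cfsg
open scoped commutatorElement

variable {G : Type*} [Group G] {S : Set (Subgroup G)} {A B C D : Subgroup G}

theorem commute_conjBy {A B : Subgroup G} (g : G) (h : ⁅A, B⁆ = ⊥) : ⁅conjBy A g, conjBy B g⁆ = ⊥ := by
  show ⁅Subgroup.map _ _, Subgroup.map _ _⁆ = ⊥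
  rw [← Subgroup.map_commutator, h, Subgroup.map_bot]

theorem sup_of_unip (hp : IsRankOnePair A B) {U V : Subgroup G} (hU : U ∈ unipotentSubgroups A B)
    (hV : V ∈ unipotentSubgroups A B) (hne : U ≠ V) : U ⊔ V = A ⊔ B := by
  obtain ⟨x, hx, e1, e2⟩ := exists_map_pair hp hU hV hne
  rw [← e1, ← e2, ← conjBy_sup]
  exact conjBy_eq_self_of_mem hx

/-- A product of commuting root elements lies in a member which is a partner of the partners. -/
theorem third_partner (hS : IsRootSubgroupSet S) (hB : B ∈ S) (hC : C ∈ S) (hD : D ∈ S)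
    (hp : IsRankOnePair A D) (hBD : ¬ IsRankOnePair B D) (hAB : ⁅A, B⁆ = ⊥) {a b : G} (ha : a ∈ A)
    (ha1 : a ≠ 1) (hb : b ∈ B) (hab : a * b ∈ C) : IsRankOnePair C D := by
  by_contra hn
  have h1 := commute_conjBy a⁻¹ (conj_commute hS hC hD hn hab)
  rw [conjBy_conjBy, inv_mul_cancel_left] at h1
  have h2 := conj_commute hS hB hD hBD hb
  have hU : conjBy D a⁻¹ ∈ unipotentSubgroups A D :=
    conj_mem_unip (inv_mem ((le_sup_left : A ≤ A ⊔ D) ha)) (mem_unip_right hp)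
  have hne : D ≠ conjBy D a⁻¹ := fun e =>
    ha1 (inv_eq_one.mp (eq_one_of_normalizes hp (inv_mem ha) e.symm))
  have hle : A ≤ Subgroup.centralizer ((conjBy D b : Subgroup G) : Set G) := by
    refine (le_sup_left : A ≤ A ⊔ D).trans ?_
    rw [← sup_of_unip hp (mem_unip_right hp) hU hne]
    exact sup_le (Subgroup.commutator_eq_bot_iff_le_centralizer.mp (by rwa [Subgroup.commutator_comm]))
      (Subgroup.commutator_eq_bot_iff_le_centralizer.mp (by rwa [Subgroup.commutator_comm]))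
  have hp' := pair_conjBy hp b
  rw [show conjBy A b = A from conjBy_eq_self_of_commute fun x hx => (commutator_eq_bot_iff.mp hAB x hx b hb).symm] at hp'
  exact hp'.ne (eq_of_commute hp' (mem_unip_left _ _) (mem_unip_right hp')
    (Subgroup.commutator_eq_bot_iff_le_centralizer.mpr hle))

theorem fadj_symm {X Y : Subgroup G} (h : FAdj S X Y) : FAdj S Y X :=
  ⟨h.2.1, h.1, RankOnePair_symm h.2.2⟩

theorem reach_symm {X Y : Subgroup G} (h : Relation.ReflTransGen (FAdj S) X Y) :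
    Relation.ReflTransGen (FAdj S) Y X := by
  induction h with
  | refl => exact Relation.ReflTransGen.refl
  | tail _ hadj ih => exact (Relation.ReflTransGen.single (fadj_symm hadj)).trans ih

theorem reach_conj (hS : IsRootSubgroupSet S) (g : G) {X Y : Subgroup G}
    (h : Relation.ReflTransGen (FAdj S) X Y) : Relation.ReflTransGen (FAdj S) (conjBy X g) (conjBy Y g) := by
  induction h with
  | refl => exact Relation.ReflTransGen.refl
  | tail _ hadj ih => exact ih.tail ⟨hS.conj_mem _ hadj.1 g, hS.conj_mem _ hadj.2.1 g, pair_conjBy hadj.2.2 g⟩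

theorem component_eq {X Y : Subgroup G} (h : Relation.ReflTransGen (FAdj S) X Y) :
    componentOf (FAdj S) S X = componentOf (FAdj S) S Y := by
  ext Z
  exact ⟨fun hz => ⟨hz.1, (reach_symm h).trans hz.2⟩, fun hz => ⟨hz.1, h.trans hz.2⟩⟩

theorem partner_of_component {X : Subgroup G} (h : ∃ X' ∈ componentOf (FAdj S) S X, X' ≠ X) :
    ∃ D ∈ S, IsRankOnePair X D := by
  obtain ⟨X', hX', hne⟩ := h
  rcases hX'.2.cases_head with e | ⟨E, ⟨-, hE, hp⟩, -⟩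
  · exact absurd e.symm hne
  · exact ⟨E, hE, hp⟩

theorem not_line (hS : IsRootSubgroupSet S) (hA : A ∈ S) (hB : B ∈ S)
    (hne : componentOf (FAdj S) S A ≠ componentOf (FAdj S) S B)
    (hA2 : ∃ A' ∈ componentOf (FAdj S) S A, A' ≠ A) (hB2 : ∃ B' ∈ componentOf (FAdj S) S B, B' ≠ B) :
    B ∉ linePartners S A := by
  rintro ⟨⟨-, hBA, hAB⟩, hpart⟩
  obtain ⟨D, hD, hpA⟩ := partner_of_component hA2
  obtain ⟨E, hE, hpB⟩ := partner_of_component hB2
  obtain ⟨a, ha, ha1⟩ := (Subgroup.bot_or_exists_ne_one A).resolve_left (hS.ne_bot A hA)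
  obtain ⟨b, hb, hb1⟩ := (Subgroup.bot_or_exists_ne_one B).resolve_left (hS.ne_bot B hB)
  have hdis := hpart.2.2 A ⟨hA, le_sup_left⟩ B ⟨hB, le_sup_right⟩ (Ne.symm hBA)
  have hab1 : a * b ≠ 1 := fun e => ha1 ((Subgroup.eq_bot_iff_forall _).mp hdis a
    (Subgroup.mem_inf.mpr ⟨ha, by rw [eq_inv_of_mul_eq_one_left e]; exact inv_mem hb⟩))
  obtain ⟨C, hC, hab⟩ := hpart.2.1 (a * b) (Subgroup.mul_mem_sup ha hb) hab1
  have hcomm := commutator_eq_bot_iff.mp hAB a ha b hb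
  have hC1 : Relation.ReflTransGen (FAdj S) A C := by
    refine (Relation.ReflTransGen.single (b := D) ⟨hA, hD, hpA⟩).tail ⟨hD, hC.1, RankOnePair_symm ?_⟩
    refine third_partner hS hB hC.1 hD hpA (fun h => hne ?_) hAB ha ha1 hb hab
    exact component_eq ((Relation.ReflTransGen.single (b := D) ⟨hA, hD, hpA⟩).tail ⟨hD, hB, RankOnePair_symm h⟩)
  have hC2 : Relation.ReflTransGen (FAdj S) B C := by
    refine (Relation.ReflTransGen.single (b := E) ⟨hB, hE, hpB⟩).tail ⟨hE, hC.1, RankOnePair_symm ?_⟩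
    refine third_partner hS hA hC.1 hE hpB (fun h => hne ?_) (by rwa [Subgroup.commutator_comm]) hb hb1 ha
      (hcomm ▸ hab)
    exact component_eq ((Relation.ReflTransGen.single (b := E) ⟨hA, hE, h⟩).tail ⟨hE, hB, RankOnePair_symm hpB⟩)
  exact hne (component_eq (hC1.trans (reach_symm hC2)))

theorem reach_conj_self (hS : IsRootSubgroupSet S) (hpart : ∀ X ∈ S, ∃ D ∈ S, IsRankOnePair X D)
    {P Q : Subgroup G} (hP : P ∈ S) (hQ : Q ∈ S) {q : G} (hq : q ∈ Q) :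
    Relation.ReflTransGen (FAdj S) P (conjBy P q) := by
  by_cases hfix : conjBy P q = P
  · rw [hfix]
  rcases hS.pair P hP Q hQ with h | h | h
  · exact absurd (conjBy_eq_self_of_commute fun x hx => (commutator_eq_bot_iff.mp h x hx q hq).symm) hfix
  · exact Relation.ReflTransGen.single ⟨hP, hS.conj_mem P hP q,
      pair_of_mem h (mem_unip_left P Q) (conj_mem_unip ((le_sup_right : Q ≤ P ⊔ Q) hq) (mem_unip_left P Q))
        (Ne.symm hfix)⟩
  · obtain ⟨D, hD, hp⟩ := hpart P hP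
    set R := ⁅P, Q⁆
    by_cases hR : IsRankOnePair R D
    · have h1 : Relation.ReflTransGen (FAdj S) P R :=
        (Relation.ReflTransGen.single (b := D) ⟨hP, hD, hp⟩).tail ⟨hD, h.1, RankOnePair_symm hR⟩
      have h2 := reach_conj hS q h1
      rw [show conjBy R q = R from conjBy_eq_self_of_commute fun x hx =>
        (h.2.1 x hx q ((le_sup_right : Q ≤ P ⊔ Q) hq)).symm] at h2
      exact h1.trans (reach_symm h2)
    · obtain ⟨a, ha, ha1⟩ := (Subgroup.bot_or_exists_ne_one P).resolve_left (hS.ne_bot P hP)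
      have hr : a⁻¹ * (q * a * q⁻¹) ∈ R := by
        have := Subgroup.commutator_mem_commutator (inv_mem ha) hq
        rw [commutatorElement_def, inv_inv] at this
        simpa [mul_assoc] using this
      have hC : a * (a⁻¹ * (q * a * q⁻¹)) ∈ conjBy P q := by
        rw [mul_inv_cancel_left]; exact conj_mem_conjBy ha
      have h3 := third_partner hS h.1 (hS.conj_mem P hP q) hD hp hR
        (commutator_eq_bot_iff.mpr fun x hx y hy => (h.2.1 y hy x ((le_sup_left : P ≤ P ⊔ Q) hx)).symm) ha ha1 hr hC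
      exact (Relation.ReflTransGen.single (b := D) ⟨hP, hD, hp⟩).tail
        ⟨hD, hS.conj_mem P hP q, RankOnePair_symm h3⟩

theorem connected_iff (hS : IsRootSubgroupSet S) (h2 : ∃ A ∈ S, ∃ B ∈ S, A ≠ B) :
    IsConnectedFamily (FAdj S) S ↔
      (IsConjClassOfSubgroups S ∧ ∃ A ∈ S, ¬ IsIsolatedIn (FAdj S) S A) := by
  constructor
  · intro hc
    obtain ⟨A, hA, B, hB, hne⟩ := id h2
    refine ⟨⟨⟨A, hA⟩, fun X hX Y hY => Quasi.exists_conj hc hX hY⟩, A, hA, fun hi => ?_⟩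
    obtain ⟨D, hD, hp⟩ := Quasi.exists_edge hc h2 hA
    exact (hi.2 D).1 ⟨hA, hD, hp⟩
  · rintro ⟨⟨-, hcl⟩, A, hA, hiso⟩
    obtain ⟨D, hD, hp⟩ := exists_partner hS hiso hA
    have hpart : ∀ X ∈ S, ∃ D ∈ S, IsRankOnePair X D := fun X hX => by
      obtain ⟨g, rfl⟩ := hcl A hA X hX
      exact ⟨_, hS.conj_mem D hD g, pair_conjBy hp g⟩
    let T : Subgroup G :=
      { carrier := {g | ∀ X ∈ S, Relation.ReflTransGen (FAdj S) X (conjBy X g)}
        one_mem' := fun X _ => by rw [conjBy_one]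
        mul_mem' := fun {g k} hg hk X hX => by
          rw [← conjBy_conjBy]
          exact (hk X hX).trans (hg _ (hS.conj_mem X hX k))
        inv_mem' := fun {g} hg X hX => by
          have h1 := hg _ (hS.conj_mem X hX g⁻¹)
          rw [conjBy_conjBy, mul_inv_cancel, conjBy_one] at h1
          exact reach_symm h1 }
    have htop : ∀ g : G, g ∈ T := fun g => by
      have hle : (⨆ Q ∈ S, Q) ≤ T :=
        iSup₂_le fun Q hQ q hq X hX => reach_conj_self hS hpart hX hQ hq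
      rw [hS.generates] at hle
      exact hle (Subgroup.mem_top g)
    intro X hX Y hY
    obtain ⟨g, rfl⟩ := hcl X hX Y hY
    exact htop g X hX

/-! ### The configuration -/

/-- The fixed elements of `U` in `N`. -/
def fixedIn (N U : Subgroup G) : Subgroup G := N ⊓ Subgroup.centralizer (U : Set G)

theorem fixedIn_conj (N U : Subgroup G) {x : G} (hN : conjBy N x = N) :
    conjBy (fixedIn N U) x = fixedIn N (conjBy U x) := by
  ext y
  rw [mem_conjBy]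
  show (x⁻¹ * y * x ∈ N ∧ x⁻¹ * y * x ∈ Subgroup.centralizer (U : Set G)) ↔ (y ∈ N ∧ y ∈ Subgroup.centralizer ((conjBy U x : Subgroup G) : Set G))
  refine and_congr ?_ ?_
  · conv_rhs => rw [← hN, mem_conjBy]
  · rw [Subgroup.mem_centralizer_iff, Subgroup.mem_centralizer_iff]
    constructor
    · rintro h _ ⟨u, hu, rfl⟩
      show x * u * x⁻¹ * y = y * (x * u * x⁻¹)
      calc x * u * x⁻¹ * y = x * (u * (x⁻¹ * y * x)) * x⁻¹ := by group
        _ = _ := by rw [h u hu]; group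
    · intro h u hu
      have h1 := h _ (conj_mem_conjBy (g := x) hu)
      calc u * (x⁻¹ * y * x) = x⁻¹ * (x * u * x⁻¹ * y) * x := by group
        _ = _ := by rw [h1]; group

theorem conj_sup_eq (hcc : RootCommutatorCase S A B) {b : G} (hb : b ∈ B) :
    conjBy (A ⊔ ⁅A, B⁆) b = A ⊔ ⁅A, B⁆ := by
  have h1 : ∀ b ∈ B, conjBy (A ⊔ ⁅A, B⁆) b ≤ A ⊔ ⁅A, B⁆ := fun b hb => by
    rw [conjBy_sup, conjBy_eq_self_of_commute (A := ⁅A, B⁆) fun x hx =>
      (hcc.2.1 x hx b ((le_sup_right : B ≤ A ⊔ B) hb)).symm]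
    exact sup_le (conj_le_sup hcc hb) le_sup_right
  refine le_antisymm (h1 b hb) fun x hx => ?_
  refine mem_conjBy.mpr ?_
  have := h1 b⁻¹ (inv_mem hb) (conj_mem_conjBy hx)
  simpa using this

theorem fixedIn_right (hcc : RootCommutatorCase S A B) (hC0 : ⁅A, B⁆ ≠ ⊥) :
    fixedIn (A ⊔ ⁅A, B⁆) B = ⁅A, B⁆ := by
  refine le_antisymm ?_ (le_inf le_sup_right fun c hc => Subgroup.mem_centralizer_iff.mpr fun b hb =>
    (hcc.2.1 c hc b ((le_sup_right : B ≤ A ⊔ B) hb)).symm)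
  rintro x ⟨hx, hxc⟩
  obtain ⟨a, ha, c, hc, rfl⟩ := exists_mem_sup hcc hx
  by_cases ha1 : a = 1
  · rwa [ha1, one_mul]
  exfalso
  refine hC0 ?_
  rw [← hcc.2.2.1 a ha ha1, Subgroup.closure_eq_bot_iff]
  rintro _ ⟨b, hb, rfl⟩
  show a * b * a⁻¹ * b⁻¹ = 1
  have h1 := Subgroup.mem_centralizer_iff.mp hxc b hb
  have h2 := hcc.2.1 c hc b ((le_sup_right : B ≤ A ⊔ B) hb)
  rw [mul_assoc, h2, ← mul_assoc, ← mul_assoc] at h1
  rw [← mul_right_cancel h1]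
  group

structure Config (S : Set (Subgroup G)) (A B C D : Subgroup G) : Prop where
  ab : RootCommutatorCase S A B
  hc : ⁅A, B⁆ = C
  cd : RootCommutatorCase S C D
  hA : ⁅C, D⁆ = A
  a0 : A ≠ ⊥
  c0 : C ≠ ⊥

theorem Config.swap (h : Config S A B C D) : Config S C D A B := ⟨h.cd, h.hA, h.ab, h.hc, h.c0, h.a0⟩

theorem Config.disjoint (h : Config S A B C D) {x : G} (hA : x ∈ A) (hC : x ∈ C) : x = 1 := by
  by_contra hx
  refine h.a0 ?_
  have h1 := h.cd.2.2.1 x hC hx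
  rw [h.hA] at h1
  rw [← h1, Subgroup.closure_eq_bot_iff]
  rintro _ ⟨d, hd, rfl⟩
  show x * d * x⁻¹ * d⁻¹ = 1
  have h2 := h.cd.2.1 x (h.hA.symm ▸ hA) d ((le_sup_right : D ≤ C ⊔ D) hd)
  rw [h2]; group

theorem Config.commute (h : Config S A B C D) {a c : G} (ha : a ∈ A) (hc : c ∈ C) : a * c = c * a :=
  (h.ab.2.1 c (h.hc.symm ▸ hc) a ((le_sup_left : A ≤ A ⊔ B) ha)).symm

theorem Config.fix_right (h : Config S A B C D) : fixedIn (A ⊔ C) B = C := by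
  have := fixedIn_right h.ab (h.hc.symm ▸ h.c0)
  rwa [h.hc] at this

theorem Config.fix_left (h : Config S A B C D) : fixedIn (A ⊔ C) D = A := by
  rw [sup_comm]; exact h.swap.fix_right

theorem Config.conj_sup (h : Config S A B C D) {x : G} (hx : x ∈ B ⊔ D) : conjBy (A ⊔ C) x = A ⊔ C := by
  refine mem_normalizer_iff.mp ((sup_le (fun b hb => mem_normalizer_iff.mpr ?_)
    (fun d hd => mem_normalizer_iff.mpr ?_) : B ⊔ D ≤ Subgroup.normalizer ((A ⊔ C : Subgroup G) : Set G)) hx)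
  · have := conj_sup_eq h.ab hb
    rwa [h.hc] at this
  · have := conj_sup_eq h.cd hd
    rwa [h.hA, sup_comm] at this

theorem Config.unique (h : Config S A B C D) {a a' c c' : G} (ha : a ∈ A) (ha' : a' ∈ A) (hc : c ∈ C)
    (hc' : c' ∈ C) (e : a * c = a' * c') : a = a' ∧ c = c' := by
  have h1 : a'⁻¹ * a = c' * c⁻¹ := by
    rw [inv_mul_eq_iff_eq_mul, ← mul_assoc, ← e, mul_inv_cancel_right]
  have h2 := h.disjoint (mul_mem (inv_mem ha') ha) (h1 ▸ mul_mem hc' (inv_mem hc))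
  rw [inv_mul_eq_one] at h2
  subst h2
  exact ⟨rfl, mul_left_cancel e⟩

theorem Config.pair (hS : IsRootSubgroupSet S) (hB : B ∈ S) (hD : D ∈ S) (h : Config S A B C D) :
    IsRankOnePair B D := by
  by_contra hn
  refine h.c0 ?_
  rw [← h.hc, commutator_eq_bot_iff]
  intro a ha b hb
  by_cases ha1 : a = 1
  · rw [ha1, one_mul, mul_one]
  have hW : ∀ b ∈ B, ∀ d ∈ D, ∀ x ∈ B ⊔ D, b * d * b⁻¹ * d⁻¹ * x = x * (b * d * b⁻¹ * d⁻¹) := by
    intro b hb d hd x hx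
    rcases hS.pair B hB D hD with e | e | e
    · rw [commutator_eq_bot_iff.mp e b hb d hd]; group
    · exact absurd e hn
    · exact e.2.1 _ (Subgroup.commutator_mem_commutator hb hd) x hx
  obtain ⟨d₀, hd₀, hd1⟩ : ∃ d ∈ D, d ≠ 1 := by
    by_contra hc
    push Not at hc
    refine h.a0 ?_
    rw [← h.hA, commutator_eq_bot_iff]
    intro c _ d hd
    rw [hc d hd, mul_one, one_mul]
  -- write `a` as a commutator
  obtain ⟨c, hc, hca⟩ : ∃ c ∈ C, c * d₀ * c⁻¹ * d₀⁻¹ = a := by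
    have key : Subgroup.closure ((fun c : G => c * d₀ * c⁻¹ * d₀⁻¹) '' (C : Set G)) = A := by
      rw [h.cd.2.2.2 d₀ hd₀ hd1, h.hA]
    rw [← key] at ha
    refine Subgroup.closure_induction (p := fun x _ => ∃ c ∈ C, c * d₀ * c⁻¹ * d₀⁻¹ = x) ?_ ?_ ?_ ?_ ha
    · rintro _ ⟨c, hc, rfl⟩
      exact ⟨c, hc, rfl⟩
    · exact ⟨1, one_mem _, by group⟩
    · rintro _ _ _ _ ⟨c₁, h1, rfl⟩ ⟨c₂, h2, rfl⟩
      refine ⟨c₁ * c₂, mul_mem h1 h2, ?_⟩
      have hA2 : c₂ * d₀ * c₂⁻¹ * d₀⁻¹ ∈ ⁅C, D⁆ := Subgroup.commutator_mem_commutator h2 hd₀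
      have hA1 : c₁ * d₀ * c₁⁻¹ * d₀⁻¹ ∈ ⁅C, D⁆ := Subgroup.commutator_mem_commutator h1 hd₀
      have e1 := h.cd.2.1 _ hA2 c₁ ((le_sup_left : C ≤ C ⊔ D) h1)
      have e2 : (c₁ * d₀ * c₁⁻¹ * d₀⁻¹) * (c₂ * d₀ * c₂⁻¹ * d₀⁻¹) =
          (c₂ * d₀ * c₂⁻¹ * d₀⁻¹) * (c₁ * d₀ * c₁⁻¹ * d₀⁻¹) := h.cd.2.1 _ hA1 _
        (mul_mem (mul_mem (mul_mem ((le_sup_left : C ≤ C ⊔ D) h2) ((le_sup_right : D ≤ C ⊔ D) hd₀))
          (inv_mem ((le_sup_left : C ≤ C ⊔ D) h2))) (inv_mem ((le_sup_right : D ≤ C ⊔ D) hd₀)))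
      calc c₁ * c₂ * d₀ * (c₁ * c₂)⁻¹ * d₀⁻¹
          = c₁ * (c₂ * d₀ * c₂⁻¹ * d₀⁻¹) * (d₀ * c₁⁻¹ * d₀⁻¹) := by group
        _ = (c₂ * d₀ * c₂⁻¹ * d₀⁻¹) * c₁ * (d₀ * c₁⁻¹ * d₀⁻¹) := by rw [← e1]
        _ = (c₂ * d₀ * c₂⁻¹ * d₀⁻¹) * (c₁ * d₀ * c₁⁻¹ * d₀⁻¹) := by group
        _ = _ := by rw [e2]
    · rintro _ _ ⟨c₁, h1, rfl⟩
      refine ⟨c₁⁻¹, inv_mem h1, ?_⟩
      have e1 := h.cd.2.1 _ (Subgroup.commutator_mem_commutator h1 hd₀) c₁⁻¹
        ((le_sup_left : C ≤ C ⊔ D) (inv_mem h1))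
      rw [commutatorElement_def] at e1
      apply eq_inv_of_mul_eq_one_left
      calc c₁⁻¹ * d₀ * c₁⁻¹⁻¹ * d₀⁻¹ * (c₁ * d₀ * c₁⁻¹ * d₀⁻¹)
          = c₁⁻¹ * d₀ * c₁⁻¹⁻¹ * d₀⁻¹ * ((c₁ * d₀ * c₁⁻¹ * d₀⁻¹) * c₁⁻¹ * c₁) := by group
        _ = c₁⁻¹ * d₀ * c₁⁻¹⁻¹ * d₀⁻¹ * (c₁⁻¹ * (c₁ * d₀ * c₁⁻¹ * d₀⁻¹) * c₁) := by rw [e1]
        _ = 1 := by group
  -- the element `w`
  set w := b * d₀ * b⁻¹ * d₀⁻¹ with hw
  have hwX : w ∈ B ⊔ D :=
    mul_mem (mul_mem (mul_mem ((le_sup_left : B ≤ B ⊔ D) hb) ((le_sup_right : D ≤ B ⊔ D) hd₀))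
      (inv_mem ((le_sup_left : B ≤ B ⊔ D) hb))) (inv_mem ((le_sup_right : D ≤ B ⊔ D) hd₀))
  have hwU : ∀ {U : Subgroup G}, U ≤ B ⊔ D → conjBy (fixedIn (A ⊔ C) U) w = fixedIn (A ⊔ C) U := fun {U} hU => by
    rw [fixedIn_conj _ _ (h.conj_sup hwX),
      conjBy_eq_self_of_commute (A := U) fun x hx => hW b hb d₀ hd₀ x (hU hx)]
  have hwC : conjBy C w = C := by
    have := hwU (le_sup_left : B ≤ B ⊔ D)
    rwa [h.fix_right] at this
  have hwA : conjBy A w = A := by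
    have := hwU (le_sup_right : D ≤ B ⊔ D)
    rwa [h.fix_left] at this
  have hbc : ∀ c ∈ C, b * c = c * b := fun c hc =>
    (h.ab.2.1 c (h.hc.symm ▸ hc) b ((le_sup_right : B ≤ A ⊔ B) hb)).symm
  have hdw : d₀ * w = w * d₀ := (hW b hb d₀ hd₀ d₀ ((le_sup_right : D ≤ B ⊔ D) hd₀)).symm
  -- conjugate `c` by `b d₀ = w d₀ b`
  have hz : a * b * a⁻¹ * b⁻¹ ∈ C := h.hc ▸ Subgroup.commutator_mem_commutator ha hb
  have hda : d₀ * c * d₀⁻¹ = a⁻¹ * c := by
    rw [← hca]; group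
  have key : (a⁻¹ : G) * (c * (a * b * a⁻¹ * b⁻¹)) = (w * a⁻¹ * w⁻¹) * (w * c * w⁻¹) := by
    calc (a⁻¹ : G) * (c * (a * b * a⁻¹ * b⁻¹))
        = a⁻¹ * ((a * b * a⁻¹ * b⁻¹) * c) := by
          rw [commute_of_mem hS (h.hc ▸ h.ab.1) hc hz]
      _ = b * a⁻¹ * (b⁻¹ * c) := by group
      _ = b * (a⁻¹ * c) * b⁻¹ := by
          rw [show b⁻¹ * c = c * b⁻¹ by rw [inv_mul_eq_iff_eq_mul, ← mul_assoc, hbc c hc, mul_inv_cancel_right]]
          group
      _ = w * d₀ * (b * c * b⁻¹) * d₀⁻¹ * w⁻¹ := by rw [← hda, hw]; group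
      _ = w * (d₀ * c * d₀⁻¹) * w⁻¹ := by rw [hbc c hc]; group
      _ = _ := by rw [hda]; group
  obtain ⟨ea, ec⟩ := h.unique (inv_mem ha) (hwA ▸ conj_mem_conjBy (inv_mem ha)) (mul_mem hc hz)
    (hwC ▸ conj_mem_conjBy hc) key
  have hwa : w * a⁻¹ = a⁻¹ * w := (mul_inv_eq_iff_eq_mul.mp ea.symm)
  have hwc : ∀ a' ∈ A, w * a' = a' * w → ∀ b' ∈ B, w * (a' * b' * a'⁻¹ * b'⁻¹) * w⁻¹ = a' * b' * a'⁻¹ * b'⁻¹ := by
    intro a' _ e b' hb'
    have e' : w * b' = b' * w := hW b hb d₀ hd₀ b' ((le_sup_left : B ≤ B ⊔ D) hb')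
    have c1 : Commute w a' := e
    have c2 : Commute w b' := e'
    rw [mul_inv_eq_iff_eq_mul]
    exact ((c1.mul_right c2).mul_right c1.inv_right).mul_right c2.inv_right
  have hwc' : w * c * w⁻¹ = c := by
    have hcmem : c ∈ Subgroup.closure ((fun b' : G => a * b' * a⁻¹ * b'⁻¹) '' (B : Set G)) := by
      rw [h.ab.2.2.1 a ha ha1, h.hc]; exact hc
    have hle : Subgroup.closure ((fun b' : G => a * b' * a⁻¹ * b'⁻¹) '' (B : Set G)) ≤
        Subgroup.centralizer ({w} : Set G) := by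
      rw [Subgroup.closure_le]
      rintro _ ⟨b', hb', rfl⟩
      have c1 : Commute w a := by simpa using (show Commute w a⁻¹ from hwa).inv_right
      have := hwc a ha c1 b' hb'
      rw [mul_inv_eq_iff_eq_mul] at this
      exact Subgroup.mem_centralizer_singleton_iff.mpr this.symm
    rw [← Subgroup.mem_centralizer_singleton_iff.mp (hle hcmem), mul_inv_cancel_right]
  rw [hwc'] at ec
  have h1 : a * b * a⁻¹ * b⁻¹ = 1 := by simpa using ec
  rw [mul_inv_eq_one, mul_inv_eq_iff_eq_mul] at h1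
  exact h1

theorem config (hS : IsRootSubgroupSet S) (hA : A ∈ S) (hB : B ∈ S) (hC : ⁅A, B⁆ ∈ S) (hD : D ∈ S)
    (hDC : ⁅D, ⁅A, B⁆⁆ = A) :
    IsRankOnePair B D ∧
    {E | ∃ x ∈ B ⊔ D, E = conjBy A x} = {E | ∃ x ∈ B ⊔ D, E = conjBy ⁅A, B⁆ x} ∧
    {E | ∃ x ∈ B ⊔ D, E = conjBy A x} = (fun b : G => conjBy A b) '' (B : Set G) ∪ {⁅A, B⁆} ∧
    {E | ∃ x ∈ B ⊔ D, E = conjBy A x} = (fun d : G => conjBy ⁅A, B⁆ d) '' (D : Set G) ∪ {A} ∧
    IsSubgroupPartition (A ⊔ ⁅A, B⁆) {E | ∃ x ∈ B ⊔ D, E = conjBy A x} ∧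
    ∀ x ∈ (B ⊔ D) ⊓ Subgroup.centralizer ((A ⊔ ⁅A, B⁆ : Subgroup G) : Set G), ∀ y ∈ B ⊔ D, x * y = y * x := by
  have hCD : ⁅⁅A, B⁆, D⁆ = A := by rw [Subgroup.commutator_comm]; exact hDC
  have h : Config S A B ⁅A, B⁆ D :=
    ⟨comm_case_of_mem hS hA hB hC, rfl, comm_case_of_mem hS hC hD (hCD.symm ▸ hA), hCD, hS.ne_bot A hA,
      hS.ne_bot _ hC⟩
  set C := ⁅A, B⁆ with hCdef
  have hp := h.pair hS hB hD
  have hΦ : ∀ x ∈ B ⊔ D, ∀ U : Subgroup G, conjBy (fixedIn (A ⊔ C) U) x = fixedIn (A ⊔ C) (conjBy U x) :=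
    fun x hx U => fixedIn_conj _ _ (h.conj_sup hx)
  have hne : ∀ U ∈ unipotentSubgroups B D, fixedIn (A ⊔ C) U ≠ ⊥ := by
    rintro U ⟨x, hx, rfl⟩
    rw [← hΦ x hx, h.fix_right]
    intro e
    exact h.c0 ((Subgroup.map_eq_bot_iff_of_injective _ (MulEquiv.injective _)).mp e)
  have hdisj : ∀ U ∈ unipotentSubgroups B D, ∀ V ∈ unipotentSubgroups B D, U ≠ V →
      fixedIn (A ⊔ C) U ⊓ fixedIn (A ⊔ C) V = ⊥ := by
    intro U hU V hV hUV
    rw [Subgroup.eq_bot_iff_forall]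
    rintro y ⟨⟨hyN, hyU⟩, -, hyV⟩
    have hy : B ⊔ D ≤ Subgroup.centralizer ({y} : Set G) := by
      rw [← sup_of_unip hp hU hV hUV]
      exact sup_le (fun u hu => Subgroup.mem_centralizer_singleton_iff.mpr (Subgroup.mem_centralizer_iff.mp hyU u hu))
        (fun v hv => Subgroup.mem_centralizer_singleton_iff.mpr (Subgroup.mem_centralizer_iff.mp hyV v hv))
    have h1 : y ∈ fixedIn (A ⊔ C) B := ⟨hyN, Subgroup.mem_centralizer_iff.mpr fun x hx =>
      Subgroup.mem_centralizer_singleton_iff.mp (hy ((le_sup_left : B ≤ B ⊔ D) hx))⟩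
    have h2 : y ∈ fixedIn (A ⊔ C) D := ⟨hyN, Subgroup.mem_centralizer_iff.mpr fun x hx =>
      Subgroup.mem_centralizer_singleton_iff.mp (hy ((le_sup_right : D ≤ B ⊔ D) hx))⟩
    rw [h.fix_right] at h1
    rw [h.fix_left] at h2
    exact h.disjoint h2 h1
  have horb : ∀ E : Subgroup G, (∃ x ∈ B ⊔ D, E = conjBy A x) ↔
      ∃ U ∈ unipotentSubgroups B D, E = fixedIn (A ⊔ C) U := by
    intro E
    constructor
    · rintro ⟨x, hx, rfl⟩
      exact ⟨conjBy D x, conj_mem_unip hx (mem_unip_right hp), by rw [← hΦ x hx, h.fix_left]⟩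
    · rintro ⟨U, hU, rfl⟩
      rw [unip_symm hp] at hU
      obtain ⟨x, hx, rfl⟩ := hU
      rw [sup_comm] at hx
      exact ⟨x, hx, by rw [← hΦ x hx, h.fix_left]⟩
  obtain ⟨g, hg, hgC⟩ := (horb C).mpr ⟨B, mem_unip_left B D, h.fix_right.symm⟩
  have e2 : {E | ∃ x ∈ B ⊔ D, E = conjBy A x} = (fun b : G => conjBy A b) '' (B : Set G) ∪ {C} := by
    ext E
    rw [Set.mem_setOf_eq, horb]
    constructor
    · rintro ⟨U, hU, rfl⟩
      rcases (mem_unip_iff hp).mp hU with rfl | ⟨b, hb, rfl⟩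
      · exact Or.inr h.fix_right
      · exact Or.inl ⟨b, hb, by
          show conjBy A b = _
          rw [← hΦ b ((le_sup_left : B ≤ B ⊔ D) hb), h.fix_left]⟩
    · rintro (⟨b, hb, rfl⟩ | rfl)
      · refine ⟨conjBy D b, (mem_unip_iff hp).mpr (Or.inr ⟨b, hb, rfl⟩), ?_⟩
        rw [← hΦ b ((le_sup_left : B ≤ B ⊔ D) hb), h.fix_left]
      · exact ⟨B, mem_unip_left B D, h.fix_right.symm⟩
  refine ⟨hp, ?_, e2, ?_, ⟨?_, ?_, ?_⟩, ?_⟩
  · ext E
    constructor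
    · rintro ⟨x, hx, rfl⟩
      exact ⟨x * g⁻¹, mul_mem hx (inv_mem hg), by rw [hgC, conjBy_conjBy, inv_mul_cancel_right]⟩
    · rintro ⟨x, hx, rfl⟩
      exact ⟨x * g, mul_mem hx hg, by rw [hgC, conjBy_conjBy]⟩
  · ext E
    rw [Set.mem_setOf_eq, horb]
    constructor
    · rintro ⟨U, hU, rfl⟩
      rw [unip_symm hp] at hU
      rcases (mem_unip_iff (RankOnePair_symm hp)).mp hU with rfl | ⟨d, hd, rfl⟩
      · exact Or.inr h.fix_left
      · exact Or.inl ⟨d, hd, by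
          show conjBy C d = _
          rw [← hΦ d ((le_sup_right : D ≤ B ⊔ D) hd), h.fix_right]⟩
    · rintro (⟨d, hd, rfl⟩ | rfl)
      · refine ⟨conjBy B d, conj_mem_unip ((le_sup_right : D ≤ B ⊔ D) hd) (mem_unip_left B D), ?_⟩
        rw [← hΦ d ((le_sup_right : D ≤ B ⊔ D) hd), h.fix_right]
      · exact ⟨D, mem_unip_right hp, h.fix_left.symm⟩
  · intro E hE
    obtain ⟨U, -, rfl⟩ := (horb E).mp hE
    exact inf_le_left
  · intro y hy _
    rw [e2]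
    rcases cover h.ab hy with hy' | ⟨b, hb, hy'⟩
    · exact ⟨C, Or.inr rfl, hy'⟩
    · exact ⟨_, Or.inl ⟨b, hb, rfl⟩, hy'⟩
  · intro E hE F hF hEF
    obtain ⟨U, hU, rfl⟩ := (horb E).mp hE
    obtain ⟨V, hV, rfl⟩ := (horb F).mp hF
    exact hdisj U hU V hV fun e => hEF (by rw [e])
  · rintro x ⟨hxX, hxc⟩ y hy
    have hfix : ∀ U ∈ unipotentSubgroups B D, conjBy U x = U := by
      intro U hU
      by_contra hne'
      have h1 : conjBy (fixedIn (A ⊔ C) U) x = fixedIn (A ⊔ C) U :=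
        conjBy_eq_self_of_commute fun n hn => (Subgroup.mem_centralizer_iff.mp hxc n hn.1).symm
      rw [hΦ x hxX] at h1
      have h2 := hdisj _ (conj_mem_unip hxX hU) U hU hne'
      rw [h1, inf_idem] at h2
      exact hne U hU h2
    have hle : B ⊔ D ≤ Subgroup.centralizer ({x} : Set G) := by
      refine sup_le (fun b hb => Subgroup.mem_centralizer_singleton_iff.mpr ?_)
        (fun d hd => Subgroup.mem_centralizer_singleton_iff.mpr ?_)
      · exact (commute_of_fix hp hfix hb).symm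
      · exact (commute_of_fix (RankOnePair_symm hp) (fun U hU => hfix U (by rwa [unip_symm hp])) hd).symm
    exact (Subgroup.mem_centralizer_singleton_iff.mp (hle hy)).symm

end Cfsg.Agent.Lib.RankOne.Lines
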