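import Cfsg.Agent.Lib.RankOne.LineGroup
import Cfsg.Agent.S5036

/-!
# Commuting sets and partner sets are incomparable
-/

set_option autoImplicit false

namespace Cfsg.Agent.Lib.RankOne

open Cfsg

variable {G : Type*} [Group G] {S : Set (Subgroup G)} {A B C : Subgroup G}

theorem mem_centralizingMembers_iff {X : Subgroup G} :
    X ∈ centralizingMembers S A ↔ X ∈ S ∧ ⁅X, A⁆ = ⊥ :=
  and_congr_right' Subgroup.commutator_eq_bot_iff_le_centralizer.symm

theorem not_commute_of_pair (hp : IsRankOnePair A B) : ⁅A, B⁆ ≠ ⊥ := fun h =>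
  hp.ne (eq_of_commute hp (mem_unip_left A B) (mem_unip_right hp) h)

theorem centralizing_conj_le (hS : IsRootSubgroupSet S) (h : centralizingMembers S A ⊆ centralizingMembers S C) (g : G) :
    centralizingMembers S (conjBy A g) ⊆ centralizingMembers S (conjBy C g) := by
  intro X hX
  rw [mem_centralizingMembers_iff] at hX ⊢
  have h1 := Lines.commute_conjBy g⁻¹ hX.2
  rw [conjBy_conjBy, inv_mul_cancel, conjBy_one] at h1
  have h2 := Lines.commute_conjBy g (mem_centralizingMembers_iff.mp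
    (h (mem_centralizingMembers_iff.mpr ⟨hS.conj_mem X hX.1 _, h1⟩))).2
  rw [conjBy_conjBy, mul_inv_cancel, conjBy_one] at h2
  exact ⟨hX.1, h2⟩

/-- An inclusion of commuting sets of commuting members with a common partner is an equality. -/
theorem centralizing_eq_of_partner (hS : IsRootSubgroupSet S) {T : Subgroup G}
    (hT : T ∈ S) (hAC : ⁅A, C⁆ = ⊥) (hpA : IsRankOnePair A T) (hpC : IsRankOnePair C T)
    (h : centralizingMembers S A ⊆ centralizingMembers S C) :
    centralizingMembers S A = centralizingMembers S C := by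
  -- a pair `(α, γ)` sends an inclusion between two conjugates of `T`
  have huniq : ∀ α ∈ A, ∀ α' ∈ A, ∀ γ ∈ C, γ ≠ 1 → ⁅conjBy T α, conjBy T γ⁆ = ⊥ →
      ⁅conjBy T α', conjBy T γ⁆ = ⊥ → conjBy T α = conjBy T α' := by
    intro α hα α' hα' γ hγ hγ1 h1 h2
    by_contra hne
    have hU : ∀ x ∈ A, conjBy T x ∈ unipotentSubgroups A T := fun x hx =>
      conj_mem_unip ((le_sup_left : A ≤ A ⊔ T) hx) (mem_unip_right hpA)
    have h3 : T ≤ Subgroup.centralizer ((conjBy T γ : Subgroup G) : Set G) := by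
      refine (le_sup_right : T ≤ A ⊔ T).trans ?_
      rw [← Lines.sup_of_unip hpA (hU α hα) (hU α' hα') hne]
      exact sup_le (Subgroup.commutator_eq_bot_iff_le_centralizer.mp h1)
        (Subgroup.commutator_eq_bot_iff_le_centralizer.mp h2)
    exact hγ1 (eq_one_of_normalizes hpC hγ (eq_of_commute hpC
      (conj_mem_unip ((le_sup_left : C ≤ C ⊔ T) hγ) (mem_unip_right hpC)) (mem_unip_right hpC)
      (by rw [Subgroup.commutator_comm]; exact Subgroup.commutator_eq_bot_iff_le_centralizer.mpr h3)))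
  have hpair : ∀ γ ∈ C, γ ≠ 1 → ∃ α ∈ A, ⁅conjBy T α, conjBy T γ⁆ = ⊥ ∧
      centralizingMembers S (conjBy T α) ⊆ centralizingMembers S (conjBy T γ) := by
    intro γ hγ hγ1
    obtain ⟨t, ht, ht1, hγt⟩ := hpC.cond_left γ⁻¹ (inv_mem hγ) (inv_ne_one.mpr hγ1)
    obtain ⟨α, hα, -, hαt⟩ := hpA.cond_right t ht ht1
    refine ⟨α⁻¹, inv_mem hα, ?_, ?_⟩
    · rw [hαt, ← inv_inv γ, ← hγt]
      exact Lines.commute_conjBy _ hAC
    · rw [hαt, ← inv_inv γ, ← hγt]
      exact centralizing_conj_le hS h _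
  obtain ⟨c, hc, hc1⟩ := (Subgroup.bot_or_exists_ne_one C).resolve_left (left_ne_bot hpC)
  obtain ⟨α, hα, hαc, hsub⟩ := hpair c hc hc1
  obtain ⟨α', hα', hαc', hsub'⟩ := hpair c⁻¹ (inv_mem hc) (inv_ne_one.mpr hc1)
  have hcA : ∀ x ∈ A, x * c = c * x := fun x hx => commutator_eq_bot_iff.mp hAC x hx c hc
  have h1 : ⁅conjBy T α⁻¹, conjBy T c⁻¹⁆ = ⊥ := by
    have := Lines.commute_conjBy (α⁻¹ * c⁻¹) hαc
    rw [conjBy_conjBy, conjBy_conjBy, Subgroup.commutator_comm] at this
    rwa [inv_mul_cancel_right, show α⁻¹ * c⁻¹ * α = c⁻¹ by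
      rw [mul_assoc, ← show α * c⁻¹ = c⁻¹ * α from commutator_eq_bot_iff.mp hAC α hα _ (inv_mem hc), inv_mul_cancel_left]] at this
  rw [← huniq α⁻¹ (inv_mem hα) α' hα' c⁻¹ (inv_mem hc) (inv_ne_one.mpr hc1) h1 hαc'] at hsub'
  have hkey : centralizingMembers S (conjBy T α) = centralizingMembers S (conjBy T c) := by
    refine hsub.antisymm ?_
    have h3 := centralizing_conj_le hS hsub' (c * α)
    rw [conjBy_conjBy, conjBy_conjBy, mul_inv_cancel_right, ← hcA α hα, mul_inv_cancel_right] at h3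
    exact h3
  obtain ⟨t, ht, ht1, hct⟩ := hpC.cond_left c⁻¹ (inv_mem hc) (inv_ne_one.mpr hc1)
  obtain ⟨β, hβ, -, hβt⟩ := hpA.cond_right t ht ht1
  have h4 : conjBy T β⁻¹ = conjBy T α := by
    refine huniq β⁻¹ (inv_mem hβ) α hα c hc hc1 ?_ hαc
    rw [hβt, ← inv_inv c, ← hct]
    exact Lines.commute_conjBy _ hAC
  rw [hβt] at h4
  have h5 : conjBy T c = conjBy C t⁻¹ := by rw [hct, inv_inv]
  rw [← h4, h5] at hkey
  refine h.antisymm ?_
  have h6 := centralizing_conj_le hS hkey.ge t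
  rwa [conjBy_conjBy, conjBy_conjBy, mul_inv_cancel, conjBy_one, conjBy_one] at h6

/-- An inclusion of commuting sets reverses the partner sets. -/
theorem partners_subset_of_centralizing (hS : IsRootSubgroupSet S) (hF : ∀ X ∈ S, ¬ IsIsolatedIn (FAdj S) S X)
    (hA : A ∈ S) (hC : C ∈ S) (h : centralizingMembers S A ⊆ centralizingMembers S C) :
    rankOnePartners S C ⊆ rankOnePartners S A := by
  rintro T ⟨hT, hp⟩
  refine ⟨hT, ?_⟩
  rcases hS.pair A hA T hT with k | k | k
  · exact absurd (mem_centralizingMembers_iff.mp (h (mem_centralizingMembers_iff.mpr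
      ⟨hT, by rw [Subgroup.commutator_comm]; exact k⟩))).2 (fun e => not_commute_of_pair (RankOnePair_symm hp) e)
  · exact k
  · exfalso
    have hTA : ⁅T, A⁆ ∈ S := by rw [Subgroup.commutator_comm]; exact k.1
    have hline := linePartners_symm hTA (Cfsg.Agent.S5029.result hS (hF T hT) hT hA hTA).2.2.1
    refine not_commute_on_line hS hT hC hline (RankOnePair_symm hp) ⟨hTA, le_sup_right⟩ ?_
    rw [Subgroup.commutator_comm]
    refine (mem_centralizingMembers_iff.mp (h (mem_centralizingMembers_iff.mpr ⟨hTA, ?_⟩))).2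
    exact commutator_eq_bot_iff.mpr fun x hx a ha =>
      (comm_case_of_mem hS hT hA hTA).2.1 x hx a ((le_sup_right : A ≤ T ⊔ A) ha)

/-- A member in the commutator case with `A` has a line partner which is a partner of `A`. -/
theorem exists_line_partner_opposite (hS : IsRootSubgroupSet S) (hF : ∀ X ∈ S, ¬ IsIsolatedIn (FAdj S) S X)
    (hA : A ∈ S) {X : Subgroup G} (hX : X ∈ S) (hXA : ⁅X, A⁆ ∈ S) :
    ∃ E ∈ linePartners S X, IsRankOnePair A E := by
  obtain ⟨T, hT, hp⟩ := exists_partner hS (hF X hX) hX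
  have hline := linePartners_symm hXA (Cfsg.Agent.S5029.result hS (hF X hX) hX hA hXA).2.2.1
  obtain ⟨F, -, -, -, -, -, -, -, -, E, hE, hEX, hFE, -, hEt⟩ := point_mover hS hF hX hT hp hline
  refine ⟨E, hEX, ?_⟩
  obtain ⟨e, he, hFe⟩ := (hEt _ ⟨hXA, le_sup_right⟩).resolve_left hline.1.2.1
  have hEe : conjBy E e = E := conjBy_eq_self_of_commute fun x hx => commute_of_mem hS hE he hx
  have hXe : conjBy X e = X := conjBy_eq_self_of_commute fun x hx =>
    (commutator_eq_bot_iff.mp hEX.1.2.2 x hx e he).symm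
  have h1 : ⁅E, ⁅X, A⁆⁆ = X := by
    rw [hFe, Subgroup.commutator_comm, ← hEe, commutator_conjBy, hFE, hXe]
  exact (Cfsg.Agent.S5036.result hS hX hA hXA hE h1).1

/-- Commuting sets and partner sets of different members of a class are incomparable. -/
theorem incomparable (hS : IsRootSubgroupClass S) (hdn : IsDegenerateRootSet S ∨ IsNondegenerateRootSet S)
    (hA : A ∈ S) (hC : C ∈ S) (hne : A ≠ C) :
    (centralizingMembers S A ⊆ centralizingMembers S C → centralizingMembers S A = centralizingMembers S C) ∧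
    (rankOnePartners S A ⊆ rankOnePartners S C →
      ⁅A, C⁆ = ⊥ ∧ rankOnePartners S A = rankOnePartners S C) := by
  by_cases hR : ∃ P ∈ S, ∃ Q ∈ S, IsRankOnePair P Q
  swap
  · have hdeg : IsDegenerateRootSet S := hdn.resolve_right fun h => hR h.2.1
    have hall : ∀ X ∈ S, ∀ Y ∈ S, ⁅X, Y⁆ = ⊥ := fun X hX Y hY =>
      ((hS.1.pair X hX Y hY).resolve_right fun h => h.elim (fun h => hR ⟨X, hX, Y, hY, h⟩) (hdeg X hX Y hY))
    refine ⟨fun _ => Set.ext fun X => ?_, fun _ => ⟨hall A hA C hC, Set.ext fun X => ?_⟩⟩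
    · rw [mem_centralizingMembers_iff, mem_centralizingMembers_iff]
      exact ⟨fun h => ⟨h.1, hall X h.1 C hC⟩, fun h => ⟨h.1, hall X h.1 A hA⟩⟩
    · exact ⟨fun h => absurd ⟨A, hA, X, h.1, h.2⟩ hR, fun h => absurd ⟨C, hC, X, h.1, h.2⟩ hR⟩
  obtain ⟨P, hP, Q, hQ, hPQ⟩ := hR
  have hF : ∀ X ∈ S, ¬ IsIsolatedIn (FAdj S) S X := fun X hX hi => by
    obtain ⟨g, rfl⟩ := hS.2.2 P hP X hX
    exact (hi.2 (conjBy Q g)).1 ⟨hX, hS.1.conj_mem Q hQ g, pair_conjBy hPQ g⟩
  have part1 : ∀ {A C : Subgroup G}, A ∈ S → C ∈ S → centralizingMembers S A ⊆ centralizingMembers S C →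
      centralizingMembers S A = centralizingMembers S C := by
    intro A C hA hC h
    obtain ⟨T, hT, hp⟩ := exists_partner hS.1 (hF C hC) hC
    have hAC := (mem_centralizingMembers_iff.mp (h (mem_centralizingMembers_iff.mpr
      ⟨hA, commutator_eq_bot_iff.mpr fun x hx y hy => commute_of_mem hS.1 hA hx hy⟩))).2
    exact centralizing_eq_of_partner hS.1 hT hAC (partners_subset_of_centralizing hS.1 hF hA hC h ⟨hT, hp⟩).2 hp h
  refine ⟨part1 hA hC, fun h => ?_⟩
  have hAC : ⁅A, C⁆ = ⊥ := by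
    rcases hS.1.pair A hA C hC with k | k | k
    · exact k
    · exact absurd rfl (h ⟨hC, k⟩).2.ne
    · exfalso
      obtain ⟨E, hE, hAE⟩ := exists_line_partner_opposite hS.1 hF hA hC (by rw [Subgroup.commutator_comm]; exact k.1)
      exact not_commute_of_pair (h ⟨hE.1.1, hAE⟩).2 hE.1.2.2
  have hsub : centralizingMembers S C ⊆ centralizingMembers S A := by
    intro X hX
    rw [mem_centralizingMembers_iff] at hX ⊢
    refine ⟨hX.1, ?_⟩
    rcases hS.1.pair X hX.1 A hA with k | k | k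
    · exact k
    · exact absurd hX.2 (not_commute_of_pair (RankOnePair_symm (h ⟨hX.1, RankOnePair_symm k⟩).2))
    · exfalso
      obtain ⟨E, hE, hAE⟩ := exists_line_partner_opposite hS.1 hF hA hX.1 k.1
      exact not_commute_on_line hS.1 hE.1.1 hC (linePartners_symm hX.1 hE) (RankOnePair_symm (h ⟨hE.1.1, hAE⟩).2)
        ⟨hX.1, le_sup_right⟩ (by rw [Subgroup.commutator_comm]; exact hX.2)
  exact ⟨hAC, h.antisymm (partners_subset_of_centralizing hS.1 hF hA hC (part1 hC hA hsub).ge)⟩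

end Cfsg.Agent.Lib.RankOne
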