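import Cfsg.Agent.Lib.RankOne.SpecialPair

/-!
# The members normalizing a line
-/

set_option autoImplicit false

namespace Cfsg.Agent.Lib.RankOne

open Cfsg
open scoped commutatorElement

variable {G : Type*} [Group G] {S : Set (Subgroup G)} {A B C : Subgroup G}

theorem exists_mul_of_mem_sup_commute {A C : Subgroup G} (h : ⁅A, C⁆ = ⊥) {x : G} (hx : x ∈ A ⊔ C) :
    ∃ a ∈ A, ∃ c ∈ C, x = a * c := by
  have hc := commutator_eq_bot_iff.mp h
  let T : Subgroup G :=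
    { carrier := {x | ∃ a ∈ A, ∃ c ∈ C, x = a * c}
      one_mem' := ⟨1, one_mem _, 1, one_mem _, (mul_one 1).symm⟩
      mul_mem' := by
        rintro _ _ ⟨a, ha, c, hc', rfl⟩ ⟨a', ha', c', hc'', rfl⟩
        refine ⟨a * a', mul_mem ha ha', c * c', mul_mem hc' hc'', ?_⟩
        calc a * c * (a' * c') = a * (c * a') * c' := by group
          _ = a * a' * (c * c') := by rw [← hc a' ha' c hc']; group
      inv_mem' := by
        rintro _ ⟨a, ha, c, hc', rfl⟩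
        exact ⟨a⁻¹, inv_mem ha, c⁻¹, inv_mem hc', by rw [mul_inv_rev, hc _ (inv_mem ha) _ (inv_mem hc')]⟩ }
  exact (sup_le (fun a ha => ⟨a, ha, 1, one_mem _, (mul_one a).symm⟩)
    fun c hc' => ⟨1, one_mem _, c, hc', (one_mul c).symm⟩ : A ⊔ C ≤ T) hx

theorem membersIn_conjBy (hS : IsRootSubgroupSet S) (W : Subgroup G) (g : G) {X : Subgroup G}
    (hX : X ∈ membersIn S W) : conjBy X g ∈ membersIn S (conjBy W g) :=
  ⟨hS.conj_mem X hX.1 g, Subgroup.map_mono hX.2⟩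

theorem linePartners_conjBy (hS : IsRootSubgroupSet S) (h : C ∈ linePartners S A) (g : G) :
    conjBy C g ∈ linePartners S (conjBy A g) := by
  obtain ⟨⟨hC, hne, hc⟩, h1, h2, h3⟩ := h
  refine ⟨⟨hS.conj_mem C hC g, fun e => hne (conjBy_inj e), Lines.commute_conjBy g hc⟩, ?_⟩
  rw [← conjBy_sup]
  have hback : ∀ X ∈ membersIn S (conjBy (A ⊔ C) g), conjBy X g⁻¹ ∈ membersIn S (A ⊔ C) := fun X hX => by
    have := membersIn_conjBy hS _ g⁻¹ hX
    rwa [conjBy_conjBy, inv_mul_cancel, conjBy_one] at this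
  refine ⟨fun X hX => hX.2, fun x hx hx1 => ?_, fun X hX Y hY hXY => ?_⟩
  · obtain ⟨E, hE, hxE⟩ := h2 (g⁻¹ * x * g) (mem_conjBy.mp hx) fun e => hx1 (by
      simpa [mul_assoc] using congrArg (fun z => g * z * g⁻¹) e)
    exact ⟨_, membersIn_conjBy hS _ g hE, mem_conjBy.mpr hxE⟩
  · have h4 := h3 _ (hback X hX) _ (hback Y hY) fun e => hXY (conjBy_inj e)
    rw [Subgroup.eq_bot_iff_forall] at h4 ⊢
    intro x hx
    have h5 := h4 (g⁻¹ * x * g) ⟨mem_conjBy.mpr (by simpa [mul_assoc] using hx.1),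
      mem_conjBy.mpr (by simpa [mul_assoc] using hx.2)⟩
    simpa [mul_assoc] using congrArg (fun z => g * z * g⁻¹) h5

/-- A member of a line through `A` in the commutator case with `B` is the commutator of `A` with it. -/
theorem comm_config_eq (hS : IsRootSubgroupSet S) (hF : ∀ X ∈ S, ¬ IsIsolatedIn (FAdj S) S X)
    (hA : A ∈ S) (hB : B ∈ S) (hp : IsRankOnePair A B) (hC : C ∈ linePartners S A) {F : Subgroup G}
    (hFM : F ∈ membersIn S (A ⊔ C)) (hAF : ⁅A, F⁆ = ⊥) (hD : ⁅B, F⁆ ∈ S) : ⁅A, ⁅B, F⁆⁆ = F := by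
  obtain ⟨hEA, hBE⟩ := pair_config_of_comm hS hF hA hB hp hFM.1 hAF hD
  set D := ⁅B, F⁆ with hDdef
  set E := ⁅A, D⁆ with hEdef
  have hE := hEA.1.1
  have hccB := comm_case_of_mem hS hB hFM.1 hD
  have hccA := comm_case_of_mem hS hA hD hE
  have hccE := comm_case_of_mem hS hB hE (by rw [hBE]; exact hD)
  have hDB : ∀ d ∈ D, ∀ x ∈ B, d * x = x * d := fun d hd x hx =>
    hccB.2.1 d hd x ((le_sup_left : B ≤ B ⊔ F) hx)
  have hDE : ∀ d ∈ D, ∀ x ∈ E, d * x = x * d := fun d hd x hx =>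
    hccE.2.1 d (by rw [hBE]; exact hd) x ((le_sup_right : E ≤ B ⊔ E) hx)
  have hDF : ∀ d ∈ D, ∀ x ∈ F, d * x = x * d := fun d hd x hx =>
    hccB.2.1 d hd x ((le_sup_right : F ≤ B ⊔ F) hx)
  have hAE : ∀ x ∈ A, ∀ u ∈ E, x * u = u * x := commutator_eq_bot_iff.mp hEA.1.2.2
  obtain ⟨a, ha, ha1⟩ := (Subgroup.bot_or_exists_ne_one A).resolve_left (hS.ne_bot A hA)
  obtain ⟨b, hb, hb1, hcond⟩ := hp.cond_left a ha ha1
  obtain ⟨d, hd, hd1⟩ := (Subgroup.bot_or_exists_ne_one D).resolve_left (hS.ne_bot D hD)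
  obtain ⟨f, hf, hbf⟩ := comm_surjective hccB hb hb1 hd
  set e := a * d * a⁻¹ * d⁻¹ with hedef
  have he : e ∈ E := Subgroup.commutator_mem_commutator ha hd
  set δ := b * e * b⁻¹ * e⁻¹ with hδdef
  have hδ : δ ∈ D := hBE ▸ Subgroup.commutator_mem_commutator hb he
  have hbd : b * d = d * b := (hDB d hd b hb).symm
  have hea : a * e = e * a := hAE a ha e he
  have had : a⁻¹ * d * a = e⁻¹ * d := by
    calc a⁻¹ * d * a = a⁻¹ * (e⁻¹ * (a * d * a⁻¹)) * a := by rw [hedef]; group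
      _ = (e * a)⁻¹ * a * d := by group
      _ = (a * e)⁻¹ * a * d := by rw [hea]
      _ = _ := by group
  obtain ⟨A₁, hA₁, hpA⟩ := exists_partner hS (hF A hA) hA
  have hδd : δ = d := by
    have h1 : ∀ x ∈ A, x * (δ⁻¹ * d) * x⁻¹ * (δ⁻¹ * d)⁻¹ = 1 := by
      intro x hx
      have h2 : b * (a⁻¹ * d * a) * b⁻¹ = e⁻¹ * (δ⁻¹ * d) := by
        rw [had, hδdef]
        calc b * (e⁻¹ * d) * b⁻¹ = b * e⁻¹ * (d * b * b⁻¹ * b⁻¹) := by group
          _ = b * e⁻¹ * (b⁻¹ * d) := by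
              rw [show d * b * b⁻¹ * b⁻¹ = b⁻¹ * d by
                rw [mul_inv_cancel_right, eq_inv_mul_iff_mul_eq, ← mul_assoc, hbd, mul_inv_cancel_right]]
          _ = _ := by group
      have h3 : x * (b * (a⁻¹ * d * a) * b⁻¹) = b * (a⁻¹ * d * a) * b⁻¹ * x := by
        have h4 : a * (b⁻¹ * x * b) * a⁻¹ ∈ B := by
          have h5 : b⁻¹ * x * b ∈ conjBy A b⁻¹ := by simpa using conj_mem_conjBy (g := b⁻¹) hx
          rw [hcond] at h5
          simpa using mem_conjBy.mp h5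
        have h6 := (hDB d hd _ h4).symm
        calc x * (b * (a⁻¹ * d * a) * b⁻¹)
            = b * a⁻¹ * (a * (b⁻¹ * x * b) * a⁻¹ * d) * a * b⁻¹ := by group
          _ = b * a⁻¹ * (d * (a * (b⁻¹ * x * b) * a⁻¹)) * a * b⁻¹ := by rw [h6]
          _ = _ := by group
      rw [h2] at h3
      have h7 : x * (δ⁻¹ * d) = δ⁻¹ * d * x := by
        have h8 : x * e⁻¹ = e⁻¹ * x := hAE x hx _ (inv_mem he)
        rw [← mul_assoc, h8, mul_assoc, mul_assoc] at h3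
        exact mul_left_cancel h3
      rw [h7]; group
    obtain ⟨x, hx, hx1⟩ := (Subgroup.bot_or_exists_ne_one A).resolve_left (hS.ne_bot A hA)
    exact inv_mul_eq_one.mp (comm_eq_one hS hccA hA hA₁ hpA hx hx1 (mul_mem (inv_mem hδ) hd) (h1 x hx))
  have hbe : b * e * b⁻¹ = d * e := by rw [← hδd, hδdef]; group
  have hbf' : b * f * b⁻¹ = d * f := by rw [← hbf]; group
  -- `v` centralizes the rank one group of a conjugate of `A` and `B`
  set v := f⁻¹ * e with hvdef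
  have hvb : b * v = v * b := by
    calc b * v = (b * f * b⁻¹)⁻¹ * (b * e * b⁻¹) * b := by rw [hvdef]; group
      _ = v * b := by rw [hbf', hbe, hvdef]; group
  have hvA : ∀ x ∈ A, x * v = v * x := fun x hx => by
    have h1 : x * f⁻¹ = f⁻¹ * x := commutator_eq_bot_iff.mp hAF x hx _ (inv_mem hf)
    calc x * v = x * f⁻¹ * e := by rw [hvdef]; group
      _ = f⁻¹ * (x * e) := by rw [h1, mul_assoc]
      _ = v * x := by rw [hAE x hx e he, hvdef]; group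
  have hvB : ∀ y ∈ B, v * y = y * v := fun y hy => by
    have h1 : a⁻¹ * y * a ∈ conjBy A b⁻¹ := by rw [hcond]; simpa using conj_mem_conjBy (g := a⁻¹) hy
    have h2 : b * (a⁻¹ * y * a) * b⁻¹ ∈ A := by simpa using mem_conjBy.mp h1
    have hAv : Commute a v := hvA a ha
    have h3 : Commute (b * (a⁻¹ * y * a) * b⁻¹) v := hvA _ h2
    have hBv : Commute b v := hvb
    have h4 : Commute (a * (b⁻¹ * (b * (a⁻¹ * y * a) * b⁻¹) * b) * a⁻¹) v :=
      ((hAv.mul_left ((hBv.inv_left.mul_left h3).mul_left hBv)).mul_left hAv.inv_left)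
    rw [show a * (b⁻¹ * (b * (a⁻¹ * y * a) * b⁻¹) * b) * a⁻¹ = y by group] at h4
    exact h4.eq.symm
  have hvd : ∀ z ∈ D, z * v = v * z := fun z hz => by
    have h1 : Commute z f := hDF z hz f hf
    have h2 : Commute z e := hDE z hz e he
    exact (h1.inv_right.mul_right h2).eq
  have hz : ∀ x ∈ conjBy A d ⊔ B, v * x = x * v := by
    have : conjBy A d ⊔ B ≤ Subgroup.centralizer ({v} : Set G) := by
      refine sup_le (fun x hx => Subgroup.mem_centralizer_singleton_iff.mpr ?_)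
        (fun x hx => Subgroup.mem_centralizer_singleton_iff.mpr (hvB x hx).symm)
      have h1 : Commute (d⁻¹ * x * d) v := hvA _ (mem_conjBy.mp hx)
      have h2 : Commute d v := hvd d hd
      have h3 := (h2.mul_left h1).mul_left h2.inv_left
      rwa [show d * (d⁻¹ * x * d) * d⁻¹ = x by group] at h3
    exact fun x hx => (Subgroup.mem_centralizer_singleton_iff.mp (this hx)).symm
  have hp' : IsRankOnePair (conjBy A d) B := by
    have h1 := pair_conjBy hp d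
    rwa [show conjBy B d = B from conjBy_eq_self_of_commute fun x hx => hDB d hd x hx] at h1
  have hm : d * a * d⁻¹ = e⁻¹ * a := by rw [hedef]; group
  have hm1 : e⁻¹ * a ≠ 1 := fun h => ha1 (conj_eq_one_iff.mp (hm.trans h))
  have hprod : v * (e⁻¹ * a) = f⁻¹ * a := by rw [hvdef]; group
  have hv1 : v = 1 := by
    by_contra hv1
    by_cases hfa : f⁻¹ * a = 1
    · have hf1 : a = f := (inv_mul_eq_one.mp hfa).symm
      obtain ⟨F₁, hF₁, hpF⟩ := exists_partner hS (hF F hFM.1) hFM.1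
      rcases inf_eq_bot_or_eq hS hFM.1 hA hF₁ hpF with h | h
      · exact ha1 ((Subgroup.eq_bot_iff_forall _).mp h a ⟨hf1 ▸ hf, ha⟩)
      · exact hS.ne_bot _ hE (commutator_eq_bot_iff.mpr fun x hx z hz' => (hDF z hz' x (h ▸ hx)).symm)
    · obtain ⟨X, hX, hfX⟩ := hC.2.2.1 (f⁻¹ * a) (mul_mem (hFM.2 (inv_mem hf)) ((le_sup_left : A ≤ A ⊔ C) ha)) hfa
      exact translate hS (hS.conj_mem A hA d) hB hp' hz hv1 (hm ▸ conj_mem_conjBy ha) hm1 hX.1 (by rw [hprod]; exact hfX)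
  have hef : f = e := inv_mul_eq_one.mp hv1
  have hf1 : f ≠ 1 := fun h => hd1 (by rw [← hbf, h]; group)
  obtain ⟨F₁, hF₁, hpF⟩ := exists_partner hS (hF F hFM.1) hFM.1
  exact ((inf_eq_bot_or_eq hS hFM.1 hE hF₁ hpF).resolve_left fun h =>
    hf1 ((Subgroup.eq_bot_iff_forall _).mp h f ⟨hf, hef ▸ he⟩)).symm

/-- A line is moved by a member fixing one of its points and transitive on the others. -/
theorem line_mover (hS : IsRootSubgroupSet S) (hF : ∀ X ∈ S, ¬ IsIsolatedIn (FAdj S) S X)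
    (hA : A ∈ S) (hB : B ∈ S) (hp : IsRankOnePair A B) (hC : C ∈ linePartners S A) :
    ∃ F ∈ linePartners S A, ∃ D ∈ S, A ⊔ F = A ⊔ C ∧ ⁅A, D⁆ = F ∧ ⁅B, F⁆ = D ∧
      membersIn S (A ⊔ C) = (fun d : G => conjBy A d) '' (D : Set G) ∪ {F} := by
  obtain ⟨F, hFM, hAF, hD⟩ := exists_comm_on_line hS hA hB hC hp
  have hEF := comm_config_eq hS hF hA hB hp hC hFM hAF hD
  obtain ⟨hFA, -⟩ := pair_config_of_comm hS hF hA hB hp hFM.1 hAF hD
  rw [hEF] at hFA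
  have hmem := (Cfsg.Agent.S5029.result hS (hF A hA) hA hD (by rw [hEF]; exact hFM.1)).1
  rw [hEF] at hmem
  have hle : A ⊔ F ≤ A ⊔ C := sup_le le_sup_left hFM.2
  have hsup : A ⊔ F = A ⊔ C := by
    refine le_antisymm hle (sup_le le_sup_left ?_)
    obtain ⟨f, hf, hf1⟩ := (Subgroup.bot_or_exists_ne_one F).resolve_left (hS.ne_bot F hFM.1)
    obtain ⟨a, ha, c, hc, rfl⟩ := exists_mul_of_mem_sup_commute hC.1.2.2 (hFM.2 hf)
    have hc1 : c ≠ 1 := fun h => hFA.1.2.1 (by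
      obtain ⟨F₁, hF₁, hpF⟩ := exists_partner hS (hF F hFM.1) hFM.1
      refine (inf_eq_bot_or_eq hS hFM.1 hA hF₁ hpF).resolve_left fun e => hf1 ?_
      exact (Subgroup.eq_bot_iff_forall _).mp e _ ⟨hf, by rw [h, mul_one]; exact ha⟩)
    have hcm : c ∈ A ⊔ F := by
      have := mul_mem ((le_sup_left : A ≤ A ⊔ F) (inv_mem ha)) ((le_sup_right : F ≤ A ⊔ F) hf)
      rwa [inv_mul_cancel_left] at this
    obtain ⟨X, hX, hcX⟩ := hFA.2.2.1 c hcm hc1
    obtain ⟨C₁, hC₁, hpC⟩ := exists_partner hS (hF C hC.1.1) hC.1.1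
    rw [(inf_eq_bot_or_eq hS hC.1.1 hX.1 hC₁ hpC).resolve_left fun e =>
      hc1 ((Subgroup.eq_bot_iff_forall _).mp e c ⟨hc, hcX⟩)]
    exact hX.2
  exact ⟨F, hFA, ⁅B, F⁆, hD, hsup, hEF, rfl, by rw [← hsup]; exact hmem⟩

theorem commutator_conjBy (A B : Subgroup G) (g : G) : ⁅conjBy A g, conjBy B g⁆ = conjBy ⁅A, B⁆ g :=
  (Subgroup.map_commutator _ _ _).symm

/-- The members normalizing a line, transitive off each point. -/
theorem point_mover (hS : IsRootSubgroupSet S) (hF : ∀ X ∈ S, ¬ IsIsolatedIn (FAdj S) S X)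
    (hA : A ∈ S) (hB : B ∈ S) (hp : IsRankOnePair A B) (hC : C ∈ linePartners S A) :
    ∃ F ∈ linePartners S A, ∃ D ∈ S, D ∈ linePartners S F ∧ ⁅B, F⁆ = D ∧
      D ≤ Subgroup.normalizer ((A ⊔ C : Subgroup G) : Set G) ∧
      (∀ a ∈ A, a ≠ 1 → ∀ d ∈ D, d ≠ 1 → conjBy A d ≠ A) ∧
      (∀ P ∈ membersIn S (A ⊔ C), P = F ∨ ∃ d ∈ D, P = conjBy A d) ∧
      ∃ E ∈ S, E ∈ linePartners S A ∧ ⁅F, E⁆ = A ∧ E ≤ Subgroup.normalizer ((A ⊔ C : Subgroup G) : Set G) ∧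
        ∀ P ∈ membersIn S (A ⊔ C), P = A ∨ ∃ x ∈ E, P = conjBy F x := by
  obtain ⟨F, hFA, D, hD, hsup, hEF, hBD, hmem⟩ := line_mover hS hF hA hB hp hC
  have hFS := hFA.1.1
  have hccA := comm_case_of_mem hS hA hD (by rw [hEF]; exact hFS)
  have hnorm : ∀ {X : Subgroup G}, X ∈ S → ∀ {P : Subgroup G}, P ∈ S → ⁅P, X⁆ ∈ S →
      X ≤ Subgroup.normalizer ((P ⊔ ⁅P, X⁆ : Subgroup G) : Set G) := fun {X} hX {P} hP h x hx => by
    have hcc := comm_case_of_mem hS hP hX h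
    have h1 : ∀ y ∈ X, conjBy (P ⊔ ⁅P, X⁆) y ≤ P ⊔ ⁅P, X⁆ := fun y hy => by
      rw [conjBy_sup, conjBy_eq_self_of_commute fun c hc => (hcc.2.1 c hc y ((le_sup_right : X ≤ P ⊔ X) hy)).symm]
      exact sup_le (conj_le_sup hcc hy) le_sup_right
    refine mem_normalizer_iff.mpr (le_antisymm (h1 x hx) ?_)
    have h2 : conjBy (conjBy (P ⊔ ⁅P, X⁆) x⁻¹) x ≤ conjBy (P ⊔ ⁅P, X⁆) x := Subgroup.map_mono (h1 x⁻¹ (inv_mem hx))
    rwa [conjBy_conjBy, mul_inv_cancel, conjBy_one] at h2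
  have hDn : D ≤ Subgroup.normalizer ((A ⊔ C : Subgroup G) : Set G) := by
    have := hnorm hD hA (by rw [hEF]; exact hFS)
    rwa [hEF, hsup] at this
  have hDF : D ∈ linePartners S F := by
    have h := (Cfsg.Agent.S5029.result hS (hF D hD) hD hA (by rw [Subgroup.commutator_comm, hEF]; exact hFS)).2.2.1
    rwa [show ⁅D, A⁆ = F by rw [Subgroup.commutator_comm, hEF]] at h
  refine ⟨F, hFA, D, hD, hDF, hBD, hDn, fun a ha ha1 d hd hd1 h => ?_, fun P hP => ?_, ?_⟩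
  · refine hd1 (comm_eq_one hS hccA hA hB hp ha ha1 hd ?_)
    have h1 : a * d * a⁻¹ * d⁻¹ ∈ A ⊓ ⁅A, D⁆ := by
      refine ⟨?_, Subgroup.commutator_mem_commutator ha hd⟩
      rw [show a * d * a⁻¹ * d⁻¹ = a * (d * a⁻¹ * d⁻¹) by group]
      have h3 := conj_mem_conjBy (g := d) (inv_mem ha)
      rw [h] at h3
      exact mul_mem ha h3
    rw [hEF] at h1
    exact (Subgroup.eq_bot_iff_forall _).mp ((inf_eq_bot_or_eq hS hA hFS hB hp).resolve_right hFA.1.2.1.symm) _ h1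
  · rw [hmem] at hP
    rcases hP with ⟨d, hd, rfl⟩ | h
    · exact Or.inr ⟨d, hd, rfl⟩
    · exact Or.inl h
  -- repeat at `F` and conjugate
  obtain ⟨T, hT, hpF⟩ := exists_partner hS (hF F hFS) hFS
  obtain ⟨K, hKF, D', hD', hsup', hEK, -, hmem'⟩ :=
    line_mover hS hF hFS hT hpF (linePartners_symm hA hFA)
  have hW : F ⊔ A = A ⊔ C := by rw [sup_comm]; exact hsup
  rw [hW] at hsup' hmem'
  have hK : K ∈ membersIn S (A ⊔ C) := ⟨hKF.1.1, hsup' ▸ le_sup_right⟩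
  rw [hmem] at hK
  obtain ⟨d, hd, hKd⟩ : ∃ d ∈ D, K = conjBy A d := by
    rcases hK with ⟨d, hd, rfl⟩ | h
    · exact ⟨d, hd, rfl⟩
    · exact absurd h hKF.1.2.1
  set E := conjBy D' d⁻¹ with hEdef
  have hES : E ∈ S := hS.conj_mem D' hD' _
  have hFd : conjBy F d⁻¹ = F := conjBy_eq_self_of_commute fun f hf =>
    (hccA.2.1 f (by rw [hEF]; exact hf) d⁻¹ ((le_sup_right : D ≤ A ⊔ D) (inv_mem hd))).symm
  have hFE : ⁅F, E⁆ = A := by
    rw [hEdef, ← hFd, commutator_conjBy, hEK, hKd, conjBy_conjBy, inv_mul_cancel, conjBy_one]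
  have hEA : E ∈ linePartners S A := by
    have h := (Cfsg.Agent.S5029.result hS (hF E hES) hES hFS (by rw [Subgroup.commutator_comm, hFE]; exact hA)).2.2.1
    rwa [show ⁅E, F⁆ = A by rw [Subgroup.commutator_comm, hFE]] at h
  refine ⟨E, hES, hEA, hFE, ?_, fun P hP => ?_⟩
  · have := hnorm hES hFS (by rw [hFE]; exact hA)
    rwa [hFE, hW] at this
  · have h := (Cfsg.Agent.S5029.result hS (hF F hFS) hFS hES (by rw [hFE]; exact hA)).1
    rw [hFE, hW] at h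
    rw [h] at hP
    rcases hP with ⟨x, hx, rfl⟩ | h
    · exact Or.inr ⟨x, hx, rfl⟩
    · exact Or.inl h

/-- The members normalizing a line act doubly transitively on it. -/
theorem line_two_transitive (hS : IsRootSubgroupSet S) (hF : ∀ X ∈ S, ¬ IsIsolatedIn (FAdj S) S X)
    (hA : A ∈ S) (hC : C ∈ linePartners S A) :
    ∀ C₁ ∈ membersIn S (A ⊔ C), ∀ C₂ ∈ membersIn S (A ⊔ C), ∀ D₁ ∈ membersIn S (A ⊔ C),
      ∀ D₂ ∈ membersIn S (A ⊔ C), C₁ ≠ C₂ → D₁ ≠ D₂ →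
        ∃ x ∈ ⨆ E ∈ normalizingMembers S (A ⊔ C), E, conjBy C₁ x = D₁ ∧ conjBy C₂ x = D₂ := by
  obtain ⟨B, hB, hp⟩ := exists_partner hS (hF A hA) hA
  obtain ⟨F, hFA, D, hD, -, -, hDn, hA1, hDt, E, hE, hEA, -, hEn, hEt⟩ := point_mover hS hF hA hB hp hC
  set Γ := ⨆ E ∈ normalizingMembers S (A ⊔ C), E
  have hDΓ : ∀ d ∈ D, d ∈ Γ := fun d hd => Subgroup.mem_iSup_of_mem D (Subgroup.mem_iSup_of_mem ⟨hD, hDn⟩ hd)
  have hEΓ : ∀ d ∈ E, d ∈ Γ := fun d hd => Subgroup.mem_iSup_of_mem E (Subgroup.mem_iSup_of_mem ⟨hE, hEn⟩ hd)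
  have hΓn : Γ ≤ Subgroup.normalizer ((A ⊔ C : Subgroup G) : Set G) := iSup_le fun X => iSup_le fun hX => hX.2
  have hΓM : ∀ x ∈ Γ, ∀ P ∈ membersIn S (A ⊔ C), conjBy P x ∈ membersIn S (A ⊔ C) := fun x hx P hP => by
    have := membersIn_conjBy hS _ x hP
    rwa [mem_normalizer_iff.mp (hΓn hx)] at this
  have hEAfix : ∀ x ∈ E, conjBy A x = A := fun x hx => conjBy_eq_self_of_commute fun a ha =>
    (commutator_eq_bot_iff.mp hEA.1.2.2 a ha x hx).symm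
  -- `F` is moved to `A`
  obtain ⟨d₀, hd₀, hd₀1⟩ := (Subgroup.bot_or_exists_ne_one D).resolve_left (hS.ne_bot D hD)
  have hAM : A ∈ membersIn S (A ⊔ C) := ⟨hA, le_sup_left⟩
  have hd₀A : conjBy A d₀ ≠ A := by
    intro h
    obtain ⟨a, ha, ha1⟩ := (Subgroup.bot_or_exists_ne_one A).resolve_left (hS.ne_bot A hA)
    exact hA1 a ha ha1 d₀ hd₀ hd₀1 h
  obtain ⟨e₀, he₀, hF₀⟩ := (hEt _ (hΓM _ (hDΓ d₀ hd₀) _ hAM)).resolve_left hd₀A
  -- every member is moved to `A`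
  have htoA : ∀ P ∈ membersIn S (A ⊔ C), ∃ x ∈ Γ, conjBy A x = P := by
    intro P hP
    rcases hEt P hP with rfl | ⟨e, he, rfl⟩
    · exact ⟨1, one_mem _, conjBy_one _⟩
    · refine ⟨e * e₀⁻¹ * d₀, mul_mem (mul_mem (hEΓ e he) (inv_mem (hEΓ e₀ he₀))) (hDΓ d₀ hd₀), ?_⟩
      rw [← conjBy_conjBy A d₀ (e * e₀⁻¹), hF₀, conjBy_conjBy, inv_mul_cancel_right]
  intro C₁ hC₁ C₂ hC₂ D₁ hD₁ D₂ hD₂ hne hne'
  obtain ⟨x, hx, hx1⟩ := htoA C₁ hC₁
  obtain ⟨y, hy, hy1⟩ := htoA D₁ hD₁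
  obtain ⟨e₁, he₁, hC₂'⟩ := (hEt _ (hΓM _ (inv_mem hx) _ hC₂)).resolve_left fun h => hne (by
    rw [← hx1, ← h, conjBy_conjBy, mul_inv_cancel, conjBy_one])
  obtain ⟨e₂, he₂, hD₂'⟩ := (hEt _ (hΓM _ (inv_mem hy) _ hD₂)).resolve_left fun h => hne' (by
    rw [← hy1, ← h, conjBy_conjBy, mul_inv_cancel, conjBy_one])
  refine ⟨y * (e₂ * e₁⁻¹) * x⁻¹,
    mul_mem (mul_mem hy (mul_mem (hEΓ _ he₂) (inv_mem (hEΓ _ he₁)))) (inv_mem hx), ?_, ?_⟩
  · rw [← hx1, conjBy_conjBy, inv_mul_cancel_right, ← conjBy_conjBy A (e₂ * e₁⁻¹) y,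
      hEAfix _ (mul_mem he₂ (inv_mem he₁)), hy1]
  · calc conjBy C₂ (y * (e₂ * e₁⁻¹) * x⁻¹)
        = conjBy (conjBy C₂ x⁻¹) (y * (e₂ * e₁⁻¹)) := (conjBy_conjBy _ _ _).symm
      _ = conjBy (conjBy F e₂) y := by rw [hC₂', conjBy_conjBy, conjBy_conjBy]; congr 1; group
      _ = D₂ := by rw [← hD₂', conjBy_conjBy, mul_inv_cancel, conjBy_one]

theorem fadj_connected (hS : IsRootSubgroupClass S) (hnd : IsNondegenerateRootSet S) :
    IsConnectedFamily (FAdj S) S := by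
  obtain ⟨P, hP, Q, hQ, hne, -⟩ := hnd.1
  exact (Lines.connected_iff hS.1 ⟨P, hP, Q, hQ, hne⟩).2 ⟨hS.2, P, hP, not_isolated hS hnd hP⟩

/-- The line graph of a non-degenerate class is connected. -/
theorem eadj_connected (hS : IsRootSubgroupClass S) (hnd : IsNondegenerateRootSet S) :
    IsConnectedFamily (EAdj S S) S := by
  intro X hX Y hY
  induction fadj_connected hS hnd X hX Y hY with
  | refl => exact .refl
  | @tail P Q _ hadj ih =>
    obtain ⟨hP, hQ, hp⟩ := hadj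
    obtain ⟨E, hE, hD, hcfg⟩ := exists_pair_config hS hnd hP hQ hp
    have hE' := hE.1.1
    set D := ⁅Q, E⁆ with hDdef
    refine (((ih hP).tail ⟨hP, hE', hE⟩).tail (⟨hE', hD, ?_⟩ : EAdj S S E D)).tail ⟨hD, hQ, ?_⟩
    · have h := (Cfsg.Agent.S5029.result hS.1 (not_isolated hS hnd hD) hD hP
        (by rw [Subgroup.commutator_comm, hcfg]; exact hE')).2.2.1
      rwa [show ⁅D, P⁆ = E by rw [Subgroup.commutator_comm, hcfg]] at h
    · exact (Cfsg.Agent.S5029.result hS.1 (not_isolated hS hnd hQ) hQ hE' hD).2.2.1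

theorem dadj_connected (hS : IsRootSubgroupClass S) (hnd : IsNondegenerateRootSet S) :
    IsConnectedFamily (DAdj S) S := fun X hX Y hY =>
  Relation.ReflTransGen.mono (fun _ _ (h : EAdj S S _ _) => (⟨h.1, h.2.1, h.2.2.1.2.1.symm, h.2.2.1.2.2⟩ : DAdj S _ _))
    _ _ (eadj_connected hS hnd X hX Y hY)

/-- The line partners of `A` and one opposite member generate. -/
theorem generated_by_lines (hS : IsRootSubgroupClass S) (hnd : IsNondegenerateRootSet S)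
    (hA : A ∈ S) (hB : B ∈ S) (hp : IsRankOnePair A B) :
    (⨆ C ∈ linePartners S A, C) ⊔ B = ⊤ := by
  set H := (⨆ C ∈ linePartners S A, C) ⊔ B with hH
  have hΛ : ∀ C ∈ linePartners S A, C ≤ H := fun C hC =>
    le_sup_of_le_left (le_iSup₂ (f := fun C _ => C) C hC)
  have hFp : ∀ X ∈ S, ¬ IsIsolatedIn (FAdj S) S X := fun X hX => not_isolated hS hnd hX
  have key : ∀ C ∈ linePartners S A, ∃ h ∈ H, conjBy A h = C ∧ A ≤ H := by
    intro C hC
    obtain ⟨F, hFA, D, hD, -, hBD, hDn, hA1, -, E, hE, hEA, hFE, -, hEt⟩ := point_mover hS.1 hFp hA hB hp hC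
    have hDH : D ≤ H := by
      rw [← hBD]
      exact Subgroup.commutator_le.mpr fun b hb f hf =>
        mul_mem (mul_mem (mul_mem ((le_sup_right : B ≤ H) hb) (hΛ F hFA hf))
          (inv_mem ((le_sup_right : B ≤ H) hb))) (inv_mem (hΛ F hFA hf))
    have hAH : A ≤ H := by
      rw [← hFE]
      exact Subgroup.commutator_le.mpr fun b hb f hf =>
        mul_mem (mul_mem (mul_mem (hΛ F hFA hb) (hΛ E hEA hf)) (inv_mem (hΛ F hFA hb))) (inv_mem (hΛ E hEA hf))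
    obtain ⟨d, hd, hd1⟩ := (Subgroup.bot_or_exists_ne_one D).resolve_left (hS.1.ne_bot D hD)
    obtain ⟨a, ha, ha1⟩ := (Subgroup.bot_or_exists_ne_one A).resolve_left (hS.1.ne_bot A hA)
    have hM : conjBy A d ∈ membersIn S (A ⊔ C) := by
      have hsame : ∀ y ∈ D, conjBy (A ⊔ C) y = A ⊔ C := fun y hy => mem_normalizer_iff.mp (hDn hy)
      exact ⟨hS.1.conj_mem A hA d, by rw [← hsame d hd]; exact Subgroup.map_mono le_sup_left⟩
    obtain ⟨e₀, he₀, hF₀⟩ := (hEt _ hM).resolve_left (hA1 a ha ha1 d hd hd1)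
    rcases hEt C ⟨hC.1.1, le_sup_right⟩ with h | ⟨e, he, rfl⟩
    · exact absurd h hC.1.2.1
    · refine ⟨e * e₀⁻¹ * d, mul_mem (mul_mem (hΛ E hEA he) (inv_mem (hΛ E hEA he₀))) (hDH hd), ?_, hAH⟩
      rw [← conjBy_conjBy A d (e * e₀⁻¹), hF₀, conjBy_conjBy, inv_mul_cancel_right]
  have hreach : ∀ X ∈ S, ∃ h ∈ H, conjBy A h = X := by
    intro X hX
    induction eadj_connected hS hnd A hA X hX with
    | refl => exact ⟨1, one_mem _, conjBy_one _⟩
    | @tail P Q _ hadj ih =>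
      obtain ⟨h, hh, rfl⟩ := ih hadj.1
      have h1 := linePartners_conjBy hS.1 hadj.2.2 h⁻¹
      rw [conjBy_conjBy, inv_mul_cancel, conjBy_one] at h1
      obtain ⟨k, hk, hkQ, -⟩ := key _ h1
      refine ⟨h * k, mul_mem hh hk, ?_⟩
      rw [← conjBy_conjBy, hkQ, conjBy_conjBy, mul_inv_cancel, conjBy_one]
  obtain ⟨C₀, hC₀⟩ := exists_line_partner hS hnd hA
  obtain ⟨-, -, -, hAH⟩ := key C₀ hC₀
  rw [eq_top_iff, ← hS.1.generates]
  refine iSup₂_le fun X hX => ?_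
  obtain ⟨h, hh, rfl⟩ := hreach X hX
  intro x hx
  have := mem_conjBy.mp hx
  have h2 := mul_mem (mul_mem hh (hAH this)) (inv_mem hh)
  rwa [show h * (h⁻¹ * x * h) * h⁻¹ = x by group] at h2

end Cfsg.Agent.Lib.RankOne
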