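import Cfsg.Agent.Lib.RankOne.Basic

/-!
# Sets of abstract root subgroups and rank one pairs
-/

set_option autoImplicit false

namespace Cfsg.Agent.Lib.RankOne

open Cfsg

variable {G : Type*} [Group G] {S : Set (Subgroup G)}

theorem commute_of_mem (hS : IsRootSubgroupSet S) {A : Subgroup G} (hA : A ∈ S) {x y : G} (hx : x ∈ A)
    (hy : y ∈ A) : x * y = y * x := by
  haveI := hS.commutative A hA
  exact congrArg Subtype.val (mul_comm' (⟨x, hx⟩ : A) ⟨y, hy⟩)

/-- Outside the rank one case a member commutes with its conjugates under another one. -/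
theorem conj_commute (hS : IsRootSubgroupSet S) {A E : Subgroup G} (hA : A ∈ S) (hE : E ∈ S)
    (hne : ¬ IsRankOnePair A E) {a : G} (ha : a ∈ A) : ⁅conjBy E a, E⁆ = ⊥ := by
  refine commutator_eq_bot_iff.mpr fun y hy e' he' => ?_
  obtain ⟨e, he, rfl⟩ := hy
  show a * e * a⁻¹ * e' = e' * (a * e * a⁻¹)
  rcases hS.pair A hA E hE with hc | hp | hcc
  · rw [show a * e * a⁻¹ = e by rw [commutator_eq_bot_iff.mp hc a ha e he, mul_inv_cancel_right]]
    exact commute_of_mem hS hE he he'
  · exact absurd hp hne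
  · obtain ⟨-, hcen, -, -⟩ := hcc
    have hk : a * e * a⁻¹ * e⁻¹ ∈ ⁅A, E⁆ := Subgroup.commutator_mem_commutator ha he
    have h1 := hcen _ hk e' ((le_sup_right : E ≤ A ⊔ E) he')
    calc a * e * a⁻¹ * e' = a * e * a⁻¹ * e⁻¹ * (e * e') := by group
      _ = a * e * a⁻¹ * e⁻¹ * e' * e := by rw [commute_of_mem hS hE he he', ← mul_assoc]
      _ = e' * (a * e * a⁻¹ * e⁻¹) * e := by rw [h1]
      _ = e' * (a * e * a⁻¹) := by group

/-- An element of a member moves a unipotent subgroup to another one only in the rank one case. -/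
theorem fix_or_pair (hS : IsRootSubgroupSet S) {A C D E : Subgroup G} (hA : A ∈ S) (hE : E ∈ S)
    (hp : IsRankOnePair C D) (hEU : E ∈ unipotentSubgroups C D) {a : G} (ha : a ∈ A)
    (haE : conjBy E a ∈ unipotentSubgroups C D) : conjBy E a = E ∨ IsRankOnePair A E := by
  by_cases h : IsRankOnePair A E
  · exact Or.inr h
  · exact Or.inl (eq_of_commute hp haE hEU (conj_commute hS hA hE h ha))

theorem unip_mem_set (hS : IsRootSubgroupSet S) {C D E : Subgroup G} (hC : C ∈ S)
    (hE : E ∈ unipotentSubgroups C D) : E ∈ S := by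
  obtain ⟨x, -, rfl⟩ := hE
  exact hS.conj_mem C hC x

/-- A member inside a rank one group is one of its unipotent subgroups. -/
theorem mem_unip_of_le (hS : IsRootSubgroupSet S) {A A' C D : Subgroup G} (hA : A ∈ S) (hC : C ∈ S)
    (hp : IsRankOnePair C D) (hle : A ≤ C ⊔ D) (hA' : A' ≤ C ⊔ D) (hAA' : IsRankOnePair A A') :
    A ∈ unipotentSubgroups C D := by
  by_cases hfix : ∀ a ∈ A, ∀ E ∈ unipotentSubgroups C D, conjBy E a = E
  · refine absurd (eq_of_commute hAA' (mem_unip_left A A') (mem_unip_right hAA')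
      (commutator_eq_bot_iff.mpr fun a ha a' ha' => ?_)) hAA'.ne
    have hcen : C ⊔ D ≤ Subgroup.centralizer ({a} : Set G) := by
      refine sup_le (fun c hc => Subgroup.mem_centralizer_singleton_iff.mpr ?_)
        (fun d hd => Subgroup.mem_centralizer_singleton_iff.mpr ?_)
      · exact (commute_of_fix hp (hfix a ha) hc).symm
      · exact (commute_of_fix (RankOnePair_symm hp)
          (fun E hE => hfix a ha E (by rwa [unip_symm hp])) hd).symm
    exact (Subgroup.mem_centralizer_singleton_iff.mp (hcen (hA' ha'))).symm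
  · push Not at hfix
    obtain ⟨a, ha, E, hE, hne⟩ := hfix
    have haE := conj_mem_unip (hle ha) hE
    have hAE := (fix_or_pair hS hA (unip_mem_set hS hC hE) hp hE ha haE).resolve_left hne
    obtain ⟨e, he, -, heq⟩ := hAE.cond_left a ha (fun h1 => hne (by rw [h1, conjBy_one]))
    have h2 : A = conjBy (conjBy E a⁻¹) e := by
      rw [← heq, conjBy_conjBy, mul_inv_cancel, conjBy_one]
    rw [h2]
    exact conj_mem_unip (unip_le hE he) (conj_mem_unip (inv_mem (hle ha)) hE)

/-- A central translate of a nontrivial element of `A` is not a root element. -/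
theorem translate (hS : IsRootSubgroupSet S) {A B : Subgroup G} (hA : A ∈ S) (hB : B ∈ S)
    (hp : IsRankOnePair A B) {z : G} (hz : ∀ x ∈ A ⊔ B, z * x = x * z) (hz1 : z ≠ 1) {a : G} (ha : a ∈ A)
    (ha1 : a ≠ 1) {C : Subgroup G} (hC : C ∈ S) : z * a ∉ C := by
  intro hza
  have hzfix : ∀ D : Subgroup G, D ≤ A ⊔ B → conjBy D z = D := fun D hD =>
    conjBy_eq_self_of_commute fun x hx => hz x (hD hx)
  have haX : a ∈ A ⊔ B := (le_sup_left : A ≤ A ⊔ B) ha
  have hBz : conjBy B (z * a) = conjBy B a := by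
    rw [← conjBy_conjBy]
    exact hzfix _ (unip_le (conj_mem_unip haX (mem_unip_right hp)))
  have hmem : conjBy B (z * a) ∈ unipotentSubgroups A B := hBz ▸ conj_mem_unip haX (mem_unip_right hp)
  rcases fix_or_pair hS hC hB hp (mem_unip_right hp) hza hmem with hfix | hCB
  · exact ha1 (eq_one_of_normalizes hp ha (hBz ▸ hfix))
  · have hza1 : z * a ≠ 1 := fun h1 => by
      rw [h1, conjBy_one] at hBz
      exact ha1 (eq_one_of_normalizes hp ha hBz.symm)
    obtain ⟨b, hb, -, e⟩ := hCB.cond_left _ hza hza1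
    have h3 : C = conjBy (conjBy B (z * a)⁻¹) b := by
      rw [← e, conjBy_conjBy, mul_inv_cancel, conjBy_one]
    have hBi : conjBy B (z * a)⁻¹ = conjBy B a⁻¹ := by
      rw [mul_inv_rev, ← conjBy_conjBy, show conjBy B z⁻¹ = B from ?_]
      exact mem_normalizer_iff.mp (inv_mem (mem_normalizer_iff.mpr (hzfix B le_sup_right)))
    rw [hBi] at h3
    have hCU : C ∈ unipotentSubgroups A B :=
      h3 ▸ conj_mem_unip ((le_sup_right : B ≤ A ⊔ B) hb) (conj_mem_unip (inv_mem haX) (mem_unip_right hp))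
    by_cases hCA : C = A
    · subst hCA
      have hzA : z ∈ C := by simpa using mul_mem hza (inv_mem ha)
      exact hz1 (eq_one_of_normalizes hp hzA (hzfix B le_sup_right))
    · have hCp := pair_of_mem hp hCU (mem_unip_left A B) hCA
      refine hza1 (eq_one_of_normalizes hCp hza ?_)
      rw [← conjBy_conjBy, conjBy_eq_self_of_mem ha]
      exact hzfix A le_sup_left

/-- A member meets a different one trivially if it has a rank one partner. -/
theorem inf_eq_bot_or_eq (hS : IsRootSubgroupSet S) {A B C : Subgroup G} (hA : A ∈ S) (hB : B ∈ S)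
    (hC : C ∈ S) (hp : IsRankOnePair A C) : A ⊓ B = ⊥ ∨ A = B := by
  refine or_iff_not_imp_left.mpr fun hne => ?_
  obtain ⟨x, ⟨hxA, hxB⟩, hx1⟩ := (Subgroup.bot_or_exists_ne_one (A ⊓ B)).resolve_left hne
  by_contra hAB
  have hxC : conjBy C x ∈ unipotentSubgroups A C :=
    conj_mem_unip ((le_sup_left : A ≤ A ⊔ C) hxA) (mem_unip_right hp)
  rcases fix_or_pair hS hB hC hp (mem_unip_right hp) hxB hxC with hfix | hBC
  · exact hx1 (eq_one_of_normalizes hp hxA hfix)
  · obtain ⟨c, hc, -, e⟩ := hBC.cond_left x hxB hx1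
    have hBU : B ∈ unipotentSubgroups A C := by
      have h3 : B = conjBy (conjBy C x⁻¹) c := by rw [← e, conjBy_conjBy, mul_inv_cancel, conjBy_one]
      rw [h3]
      exact conj_mem_unip ((le_sup_right : C ≤ A ⊔ C) hc)
        (conj_mem_unip (inv_mem ((le_sup_left : A ≤ A ⊔ C) hxA)) (mem_unip_right hp))
    exact hx1 (eq_one_of_normalizes (pair_of_mem hp (mem_unip_left A C) hBU hAB) hxA (conjBy_eq_self_of_mem hxB))

theorem exists_partner (hS : IsRootSubgroupSet S) {A : Subgroup G} (hA : ¬ IsIsolatedIn (FAdj S) S A)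
    (hAS : A ∈ S) : ∃ C ∈ S, IsRankOnePair A C := by
  by_contra! h
  exact hA ⟨hAS, fun B => ⟨fun hab => h B hab.2.1 hab.2.2, fun hba => h B hba.1 (RankOnePair_symm hba.2.2)⟩⟩

end Cfsg.Agent.Lib.RankOne
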