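import Cfsg.Agent.S0261
import Cfsg.Agent.S0262
import Cfsg.Agent.S0250
import Cfsg.Agent.S0257
import Cfsg.Agent.S3963
import Cfsg.Agent.S3979
import Cfsg.Agent.Lib.Schur.Transfer
import Cfsg.Agent.Lib.Linear.GLTwo

/-!
# `SL₂` of a prime field: trivial multiplier, generators, abelianization
-/

set_option autoImplicit false

namespace Cfsg.Agent.Lib.RankOne

open Matrix Cfsg.Lib.Schur
open scoped MatrixGroups

theorem mult_subsingleton_of_equiv {P Q : Type*} [Group P] [Group Q] [Finite P] [Finite Q] (e : P ≃* Q)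
    (h : Subsingleton (M Q)) : Subsingleton (M P) := by
  obtain ⟨Γ, _, _, σ, hσ, ⟨i⟩⟩ := exists_cover (canon P) canon_surjective
  have hker : (e.toMonoidHom.comp σ).ker = σ.ker := by
    ext x; simp [MonoidHom.mem_ker]
  have hst : IsStemExtension (e.toMonoidHom.comp σ) :=
    ⟨e.surjective.comp hσ.1, by rw [hker]; exact hσ.2.1, by rw [hker]; exact hσ.2.2⟩
  obtain ⟨ψ, hψ⟩ := exists_mult_surjection (canon Q) hst canon_surjective
  haveI : Subsingleton (M Q) := h
  haveI : Subsingleton ↥(e.toMonoidHom.comp σ).ker := hψ.subsingleton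
  have hm : ∀ x : σ.ker, (x : Γ) ∈ (e.toMonoidHom.comp σ).ker := fun x => by rw [hker]; exact x.2
  refine ⟨fun a b => i.symm.injective ?_⟩
  have h1 : (⟨_, hm (i.symm a)⟩ : ↥(e.toMonoidHom.comp σ).ker) = ⟨_, hm (i.symm b)⟩ := Subsingleton.elim _ _
  exact Subtype.ext (congrArg Subtype.val h1 :)

theorem mult_sl_two_prime (p : ℕ) [Fact p.Prime] : Subsingleton (M SL(2, ZMod p)) := by
  refine ⟨fun a b => ?_⟩
  have key : ∀ c : M SL(2, ZMod p), c = 1 := by
    intro c
    haveI : Finite (M SL(2, ZMod p)) := finite_of_has (hasSchurMultiplier (Q := SL(2, ZMod p)))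
    by_contra hc
    obtain ⟨r, hr, hrd⟩ := Nat.exists_prime_and_dvd (n := orderOf c) (by rwa [Ne, orderOf_eq_one_iff])
    haveI : Fact r.Prime := ⟨hr⟩
    obtain ⟨R⟩ := (inferInstance : Nonempty (Sylow r SL(2, ZMod p)))
    have hR : Subsingleton (M (R : Subgroup SL(2, ZMod p))) := by
      have hp : p.Prime := Fact.out
      by_cases hrp : r = p
      · subst hrp
        let S := (Cfsg.Lib.Linear.Two.isPGroup_UT (F := ZMod r) r).toSylow
          (Cfsg.Lib.Linear.Two.not_dvd_index_UT (F := ZMod r) r)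
        have hS : Nat.card (S : Subgroup SL(2, ZMod r)) = r := by
          show Nat.card (Cfsg.Lib.Linear.Two.UT (ZMod r)) = r
          rw [Cfsg.Lib.Linear.Two.card_UT, ZMod.card]
        haveI : IsCyclic (R : Subgroup SL(2, ZMod r)) :=
          isCyclic_of_prime_card (p := r) ((Nat.card_congr (R.equiv S).toEquiv).trans hS)
        exact Cfsg.Agent.S3979.mult_trivial
      · by_cases hr2 : r = 2
        · subst hr2
          have hodd : Odd (Fintype.card (ZMod p)) := by
            rw [ZMod.card]; exact hp.odd_of_ne_two (Ne.symm hrp)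
          obtain ⟨k, -, ⟨e⟩⟩ := Cfsg.Agent.S0261.result hodd R
          haveI : NeZero (2 ^ k) := ⟨pow_ne_zero _ two_ne_zero⟩
          exact mult_subsingleton_of_equiv e (hasCyclic_one_iff.mp (Cfsg.Agent.S3963.result (2 ^ k)))
        · haveI := Cfsg.Agent.S0262.result p r hr2 hrp R
          exact Cfsg.Agent.S3979.mult_trivial
    obtain ⟨tr, cor, h⟩ := exists_res_cor (R : Subgroup SL(2, ZMod p))
    have h1 : c ^ (R : Subgroup SL(2, ZMod p)).index = 1 := by
      rw [← h, Subsingleton.elim (tr c) 1, map_one]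
    exact R.not_dvd_index (hrd.trans (orderOf_dvd_of_pow_eq_one h1))
  rw [key a, key b]

variable (p : ℕ) [Fact p.Prime]

/-- The elementary upper unitriangular matrix. -/
def slU (t : ZMod p) : SL(2, ZMod p) := ⟨!![1, t; 0, 1], by simp [det_fin_two]⟩

/-- The elementary lower unitriangular matrix. -/
def slL (t : ZMod p) : SL(2, ZMod p) := ⟨!![1, 0; t, 1], by simp [det_fin_two]⟩

theorem slU_pow (n : ℕ) : slU p 1 ^ n = slU p (n : ZMod p) := by
  induction n with
  | zero =>
    rw [pow_zero]; refine Subtype.ext ?_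
    simp [slU, Matrix.one_fin_two]
  | succ n ih =>
    rw [pow_succ, ih]
    refine Subtype.ext ?_
    rw [Matrix.SpecialLinearGroup.coe_mul]
    simp [slU, Matrix.mul_fin_two, add_comm]

theorem slL_pow (n : ℕ) : slL p (-1) ^ n = slL p (-(n : ZMod p)) := by
  induction n with
  | zero =>
    rw [pow_zero]; refine Subtype.ext ?_
    simp [slL, Matrix.one_fin_two]
  | succ n ih =>
    rw [pow_succ, ih]
    refine Subtype.ext ?_
    rw [Matrix.SpecialLinearGroup.coe_mul]
    simp [slL, Matrix.mul_fin_two, add_comm]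

theorem sl_gen_eq_top {H : Subgroup SL(2, ZMod p)} (hU : slU p 1 ∈ H) (hL : slL p (-1) ∈ H) : H = ⊤ := by
  have hu : ∀ t, slU p t ∈ H := fun t => by
    have := pow_mem hU t.val
    rwa [slU_pow, ZMod.natCast_rightInverse t] at this
  have hl : ∀ t, slL p t ∈ H := fun t => by
    have := pow_mem hL (-t).val
    rwa [slL_pow, ZMod.natCast_rightInverse (-t), neg_neg] at this
  have hc : ∀ g : SL(2, ZMod p), g 1 0 ≠ 0 → g ∈ H := by
    intro g hg
    have hdet := g.2
    rw [det_fin_two] at hdet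
    have : g = slU p ((g 0 0 - 1) / g 1 0) * slL p (g 1 0) * slU p ((g 1 1 - 1) / g 1 0) := by
      refine Subtype.ext ?_
      rw [Matrix.SpecialLinearGroup.coe_mul, Matrix.SpecialLinearGroup.coe_mul]
      ext i j
      fin_cases i <;> fin_cases j <;> simp [slU, slL, Matrix.mul_fin_two]
      · field_simp; ring
      · field_simp; linear_combination -hdet
      · field_simp; ring
    rw [this]
    exact mul_mem (mul_mem (hu _) (hl _)) (hu _)
  refine eq_top_iff.mpr fun g _ => ?_
  by_cases hg : g 1 0 = 0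
  · have h2 : (g * slL p 1) 1 0 ≠ 0 := by
      have hdet := g.2
      rw [det_fin_two, hg, mul_zero, sub_zero] at hdet
      have h11 : g 1 1 ≠ 0 := fun e => by rw [e, mul_zero] at hdet; exact zero_ne_one hdet
      rw [Matrix.SpecialLinearGroup.coe_mul]
      simpa [slL, Matrix.mul_apply, Fin.sum_univ_two, hg] using h11
    have := mul_mem (hc _ h2) (inv_mem (hl 1))
    rwa [mul_inv_cancel_right] at this
  · exact hc g hg

theorem commutator_ne_top_of_le_three (h : p ≤ 3) : commutator SL(2, ZMod p) ≠ ⊤ := by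
  intro htop
  have hp : p.Prime := Fact.out
  rcases (show p = 2 ∨ p = 3 by have := hp.two_le; omega) with rfl | rfl
  · obtain ⟨e⟩ := Cfsg.Agent.S0250.result (F := ZMod 2) (ZMod.card 2)
    let χ := Equiv.Perm.sign.comp e.toMonoidHom
    have h1 := Abelianization.commutator_subset_ker χ
    rw [htop] at h1
    obtain ⟨x, hx⟩ := (Equiv.Perm.sign_surjective (Fin 3)) (-1)
    obtain ⟨y, rfl⟩ := e.surjective x
    have h2 : χ y = 1 := h1 (Subgroup.mem_top y)
    rw [show χ y = Equiv.Perm.sign (e y) from rfl, hx] at h2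
    exact absurd h2 (by decide)
  · obtain ⟨⟨Q, hQn, hQi, -⟩, -⟩ := Cfsg.Agent.S0257.result (F := ZMod 3) (ZMod.card 3)
    haveI := hQn
    haveI : IsCyclic (SL(2, ZMod 3) ⧸ Q) := isCyclic_of_prime_card (p := 3) hQi
    have h1 : commutator SL(2, ZMod 3) ≤ Q :=
      Subgroup.Normal.quotient_commutative_iff_commutator_le.mp
        ⟨⟨fun a b => (IsCyclic.commGroup (α := SL(2, ZMod 3) ⧸ Q)).mul_comm a b⟩⟩
    rw [htop, top_le_iff] at h1
    rw [h1, Subgroup.index_top] at hQi
    exact absurd hQi (by norm_num)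

end Cfsg.Agent.Lib.RankOne
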