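import Cfsg.Agent.Lib.RankOne.Basic

/-!
# Special rank one groups with abelian unipotent subgroups

`Braid A B a v` records that `v` is the partner of `a`; `w = a v a` swaps `A` and `B`.  For `t ∈ A` the point
`conjBy B t` is sent by `w` to a point `conjBy B z`, and the key identity is `z ^ n = a⁻¹` for `t = a ^ n`.
-/

set_option autoImplicit false

namespace Cfsg.Agent.Lib.RankOne

open Cfsg

variable {G : Type*} [Group G] {A B : Subgroup G}

/-- `v` is the partner of `a`. -/
structure Braid (A B : Subgroup G) (a v : G) : Prop where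
  ha : a ∈ A
  ha1 : a ≠ 1
  hv : v ∈ B
  fix : conjBy A v = conjBy B a⁻¹
  braid : a * v * a = v * a * v

theorem braid_of_special (hs : IsSpecialRankOnePair A B) {a b : G} (ha : a ∈ A) (ha1 : a ≠ 1) (hb : b ∈ B)
    (hb1 : b ≠ 1) (e : conjBy A b⁻¹ = conjBy B a⁻¹) : Braid A B a b⁻¹ := by
  refine ⟨ha, ha1, inv_mem hb, e, ?_⟩
  have h1 := hs.2 a ha ha1 b hb hb1 e
  calc a * b⁻¹ * a = a * (b⁻¹ * a * b) * b⁻¹ := by group
    _ = b⁻¹ * a * b⁻¹ := by rw [h1]; group

theorem exists_braid (hs : IsSpecialRankOnePair A B) {a : G} (ha : a ∈ A) (ha1 : a ≠ 1) :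
    ∃ v, Braid A B a v := by
  obtain ⟨b, hb, hb1, e⟩ := hs.1.cond_left a ha ha1
  exact ⟨b⁻¹, braid_of_special hs ha ha1 hb hb1 e⟩

variable {a v : G}

theorem Braid.le_sup (h : Braid A B a v) : a * v * a ∈ A ⊔ B :=
  mul_mem (mul_mem ((le_sup_left : A ≤ A ⊔ B) h.ha) ((le_sup_right : B ≤ A ⊔ B) h.hv))
    ((le_sup_left : A ≤ A ⊔ B) h.ha)

theorem Braid.map_left (h : Braid A B a v) : conjBy A (a * v * a) = B := by
  rw [← conjBy_conjBy, conjBy_eq_self_of_mem h.ha, ← conjBy_conjBy, h.fix, conjBy_conjBy, mul_inv_cancel, conjBy_one]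

theorem Braid.conj_v (h : Braid A B a v) : a * v * a * v * (a * v * a)⁻¹ = a := by
  rw [mul_inv_eq_iff_eq_mul]
  calc a * v * a * v = a * (v * a * v) := by group
    _ = a * (a * v * a) := by rw [← h.braid]

theorem Braid.conj_a (h : Braid A B a v) : a * v * a * a * (a * v * a)⁻¹ = v := by
  nth_rewrite 1 [h.braid]
  rw [show v * a * v * a = v * (a * v * a) by group]
  group

theorem Braid.map_right (hp : IsRankOnePair A B) (h : Braid A B a v) : conjBy B (a * v * a) = A := by
  by_contra hne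
  have hC := conj_mem_unip h.le_sup (mem_unip_right hp)
  refine h.ha1 (eq_one_of_normalizes (pair_of_mem hp (mem_unip_left A B) hC (Ne.symm hne)) h.ha ?_)
  refine conjBy_eq_self_of_mem ?_
  have h1 := conj_mem_conjBy (g := a * v * a) h.hv
  rwa [h.conj_v] at h1

theorem Braid.sq_comm (h : Braid A B a v) :
    a * v * a * (a * v * a) * a = a * (a * v * a * (a * v * a)) := by
  set w := a * v * a
  have h1 : w * a = v * w := eq_mul_of_mul_inv_eq h.conj_a
  have h2 : w * v = a * w := eq_mul_of_mul_inv_eq h.conj_v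
  rw [mul_assoc, h1, ← mul_assoc, h2, mul_assoc]

theorem Braid.conj_B (hp : IsRankOnePair A B) (h : Braid A B a v) :
    conjBy B (a * v * a * (a * v * a)) = B := by
  rw [← conjBy_conjBy, h.map_right hp, h.map_left]

theorem point_inj (hp : IsRankOnePair A B) {x y : G} (hx : x ∈ A) (hy : y ∈ A) (e : conjBy B x = conjBy B y) :
    x = y := by
  rw [conjBy_eq_iff] at e
  have := eq_one_of_normalizes hp (mul_mem (inv_mem hy) hx) e
  exact (inv_mul_eq_one.mp this).symm

theorem point_ne (hp : IsRankOnePair A B) {x : G} (hx : x ∈ A) : conjBy B x ≠ A := by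
  intro e
  refine hp.ne (conjBy_inj (g := x) ?_).symm
  rw [e, conjBy_eq_self_of_mem hx]

/-- The element `w` maps points other than the base point to such points. -/
theorem Braid.exists_image (hp : IsRankOnePair A B) (h : Braid A B a v) {t : G} (ht : t ∈ A) (ht1 : t ≠ 1) :
    ∃ z ∈ A, z ≠ 1 ∧ conjBy (conjBy B t) (a * v * a) = conjBy B z := by
  have hmem : conjBy (conjBy B t) (a * v * a) ∈ unipotentSubgroups A B :=
    conj_mem_unip h.le_sup (conj_mem_unip ((le_sup_left : A ≤ A ⊔ B) ht) (mem_unip_right hp))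
  rcases (mem_unip_iff hp).mp hmem with e | ⟨z, hz, e⟩
  · rw [← h.map_right hp] at e
    have e' := conjBy_inj e
    exact absurd (point_inj hp ht (one_mem A) (by rw [e', conjBy_one])) ht1
  · refine ⟨z, hz, fun hz1 => point_ne hp ht (conjBy_inj (g := a * v * a) ?_), e⟩
    rw [h.map_left, e, hz1, conjBy_one]

theorem Braid.image_self (hp : IsRankOnePair A B) (h : Braid A B a v) :
    conjBy (conjBy B a) (a * v * a) = conjBy B a⁻¹ := by
  rw [conjBy_conjBy, eq_mul_of_mul_inv_eq h.conj_a, ← conjBy_conjBy, h.map_right hp, h.fix]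

theorem Braid.inv (hp : IsRankOnePair A B) (h : Braid A B a v) : Braid A B a⁻¹ v⁻¹ := by
  refine ⟨inv_mem h.ha, inv_ne_one.mpr h.ha1, inv_mem h.hv, ?_, ?_⟩
  · have h1 : conjBy B (v * a * v) = A := h.braid ▸ h.map_right hp
    rw [← conjBy_conjBy, conjBy_eq_self_of_mem h.hv, ← conjBy_conjBy] at h1
    nth_rewrite 1 [← h1]
    rw [inv_inv, conjBy_conjBy, inv_mul_cancel, conjBy_one]
  · calc a⁻¹ * v⁻¹ * a⁻¹ = (a * v * a)⁻¹ := by group
      _ = v⁻¹ * a⁻¹ * v⁻¹ := by rw [h.braid]; group

theorem Braid.unique (hp : IsRankOnePair A B) {a' : G} (h : Braid A B a v) (h' : Braid A B a' v) : a = a' := by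
  exact inv_injective (point_inj hp (inv_mem h.ha) (inv_mem h'.ha) (h.fix.symm.trans h'.fix))

/-- The conjugate of `x` by `w` is the partner of the inverse of the image of `x`. -/
theorem Braid.image_braid (hs : IsSpecialRankOnePair A B) (h : Braid A B a v) {x z : G} (hx : x ∈ A)
    (hx1 : x ≠ 1) (hz : z ∈ A) (hz1 : z ≠ 1) (e : conjBy (conjBy B x) (a * v * a) = conjBy B z) :
    Braid A B z⁻¹ (a * v * a * x * (a * v * a)⁻¹) := by
  set w := a * v * a
  have hmem : w * x * w⁻¹ ∈ B := by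
    have h1 := conj_mem_conjBy (g := w) hx
    rwa [h.map_left] at h1
  have hne : w * x * w⁻¹ ≠ 1 := fun h1 => hx1 (conj_eq_one_iff.mp h1)
  have hfix : conjBy A (w * x * w⁻¹) = conjBy B z := by
    rw [← conjBy_conjBy, show conjBy A w⁻¹ = B from ?_, ← conjBy_conjBy, e]
    nth_rewrite 1 [← h.map_right hs.1]
    rw [conjBy_conjBy, inv_mul_cancel, conjBy_one]
  have h2 := braid_of_special hs (inv_mem hz) (inv_ne_one.mpr hz1) (inv_mem hmem) (inv_ne_one.mpr hne)
    (by rw [inv_inv, inv_inv, hfix])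
  rwa [inv_inv] at h2

theorem Braid.image_inv (hs : IsSpecialRankOnePair A B) (h : Braid A B a v) {x z : G} (hx : x ∈ A)
    (hx1 : x ≠ 1) (hz : z ∈ A) (hz1 : z ≠ 1) (e : conjBy (conjBy B x) (a * v * a) = conjBy B z) :
    conjBy (conjBy B x⁻¹) (a * v * a) = conjBy B z⁻¹ := by
  obtain ⟨z', hz', hz'1, e'⟩ := h.exists_image hs.1 (inv_mem hx) (inv_ne_one.mpr hx1)
  have h1 := (h.image_braid hs hx hx1 hz hz1 e).inv hs.1
  have h2 := h.image_braid hs (inv_mem hx) (inv_ne_one.mpr hx1) hz' hz'1 e'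
  rw [show a * v * a * x⁻¹ * (a * v * a)⁻¹ = (a * v * a * x * (a * v * a)⁻¹)⁻¹ by group] at h2
  have h3 := h1.unique hs.1 h2
  rw [e', ← inv_inv z, h3, inv_inv]

theorem Braid.sq_comm_pow (h : Braid A B a v) (n : ℕ) :
    a * v * a * (a * v * a) * a ^ n = a ^ n * (a * v * a * (a * v * a)) :=
  ((show Commute (a * v * a * (a * v * a)) a from h.sq_comm).pow_right n).eq

theorem Braid.image_symm_pow (hp : IsRankOnePair A B) (h : Braid A B a v) {z : G} (n : ℕ)
    (e : conjBy (conjBy B (a ^ n)) (a * v * a) = conjBy B z) :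
    conjBy (conjBy B z) (a * v * a) = conjBy B (a ^ n) := by
  rw [← e, conjBy_conjBy, conjBy_conjBy, h.sq_comm_pow n,
    ← conjBy_conjBy, h.conj_B hp]

/-- The statement `W(n a) = -a / n`, as a predicate on `n`. -/
def PowImage (A B : Subgroup G) (n : ℕ) : Prop :=
  ∀ a v, Braid A B a v → a ^ n ≠ 1 → ∀ z ∈ A, conjBy (conjBy B (a ^ n)) (a * v * a) = conjBy B z → z ^ n = a⁻¹

/-- The statement for one element gives it for the action of any other swap. -/
theorem homog (hs : IsSpecialRankOnePair A B) {n : ℕ} (hP : PowImage A B n) (h : Braid A B a v)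
    {t y z : G} (ht : t ∈ A) (htn : t ^ n ≠ 1) (hy : y ∈ A)
    (ey : conjBy (conjBy B t) (a * v * a) = conjBy B y) (hz : z ∈ A)
    (ez : conjBy (conjBy B (t ^ n)) (a * v * a) = conjBy B z) : z ^ n = y := by
  have hp := hs.1
  have ht1 : t ≠ 1 := fun e => htn (by rw [e, one_pow])
  obtain ⟨u, hu⟩ := exists_braid hs ht ht1
  obtain ⟨x, hx, -, ex⟩ := hu.exists_image hp (pow_mem ht n) htn
  have hxn := hP t u hu htn x hx ex
  set g := a * v * a * (t * u * t) with hg
  have hgA : conjBy A g = A := by rw [hg, ← conjBy_conjBy, hu.map_left, h.map_right hp]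
  have hgB : conjBy B g = B := by rw [hg, ← conjBy_conjBy, hu.map_right hp, h.map_left]
  have hconj : ∀ r ∈ A, g * r * g⁻¹ ∈ A := fun r hr => by
    have := conj_mem_conjBy (g := g) hr
    rwa [hgA] at this
  have hpt : ∀ r : G, conjBy (conjBy B r) g = conjBy B (g * r * g⁻¹) := fun r => by
    rw [conjBy_conjBy]
    conv_rhs => rw [← hgB, conjBy_conjBy, inv_mul_cancel_right]
  have h1 : z = g * x * g⁻¹ := by
    refine point_inj hp hz (hconj x hx) ?_
    rw [← ez, ← hpt, ← hu.image_symm_pow hp n ex, conjBy_conjBy, conjBy_conjBy]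
  have h2 : y = g * t⁻¹ * g⁻¹ := by
    refine point_inj hp hy (hconj _ (inv_mem ht)) ?_
    have h3 := hu.image_symm_pow hp 1 (z := t⁻¹) (by rw [pow_one]; exact hu.image_self hp)
    rw [pow_one] at h3
    rw [← ey, ← hpt]
    conv_lhs => rw [← h3]
    rw [conjBy_conjBy, conjBy_conjBy]
  rw [h1, h2, conj_pow, hxn]

/-- In a special rank one group with abelian unipotent subgroups `W(n a) = -a / n`. -/
theorem image_pow (hs : IsSpecialRankOnePair A B) (hA : ∀ x ∈ A, ∀ y ∈ A, x * y = y * x) (n : ℕ) :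
    PowImage A B n := by
  induction n with
  | zero => exact fun a v _ hn => absurd (pow_zero a) hn
  | succ n ih =>
    intro a v h hn1 z hz ez
    have hp := hs.1
    by_cases hn : a ^ n = 1
    · rw [pow_succ, hn, one_mul] at ez
      rw [h.image_self hp] at ez
      rw [← point_inj hp (inv_mem h.ha) hz ez, inv_pow, pow_succ, hn, one_mul]
    obtain ⟨p, hp', hp1, ep⟩ := h.exists_image hp (pow_mem h.ha n) hn
    have hpn := ih a v h hn p hp' ep
    set w := a * v * a with hw
    have hzs := h.image_symm_pow hp (n + 1) ez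
    have hwa : w * a = v * w := eq_mul_of_mul_inv_eq h.conj_a
    have key : conjBy (conjBy B (z * a)) w = conjBy B (p * a⁻¹) := by
      rw [hA z hz a h.ha, conjBy_conjBy, ← mul_assoc, hwa, mul_assoc, ← conjBy_conjBy, ← conjBy_conjBy B z w, hzs,
        conjBy_conjBy, show v * a ^ (n + 1) = a⁻¹ * (w * a ^ n) by rw [hw, pow_succ']; group,
        ← conjBy_conjBy, ← conjBy_conjBy B (a ^ n) w, ep, conjBy_conjBy, hA _ (inv_mem h.ha) p hp']
    have hza : z * a ≠ 1 := by
      intro e
      rw [e, conjBy_one, h.map_right hp] at key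
      exact point_ne hp (mul_mem hp' (inv_mem h.ha)) key.symm
    have hpa1 : p * a⁻¹ ≠ 1 := by
      intro e
      rw [e, conjBy_one] at key
      exact point_ne hp (mul_mem hz h.ha) (conjBy_inj (key.trans h.map_left.symm))
    have hwz : w * w * z = z * (w * w) := by
      have hAw : conjBy A (w * w) = A := by rw [← conjBy_conjBy, h.map_left, h.map_right hp]
      have hmem : w * w * z * (w * w)⁻¹ ∈ A := by
        have := conj_mem_conjBy (g := w * w) hz
        rwa [hAw] at this
      have h1 : w * w * z * (w * w)⁻¹ = z := by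
        refine point_inj hp hmem hz ?_
        calc conjBy B (w * w * z * (w * w)⁻¹)
            = conjBy (conjBy B (w * w)) (w * w * z * (w * w)⁻¹) := by rw [h.conj_B hp]
          _ = conjBy (conjBy (conjBy B z) w) w := by
              rw [conjBy_conjBy, conjBy_conjBy, conjBy_conjBy, inv_mul_cancel_right, mul_assoc]
          _ = conjBy B z := by rw [hzs, ez]
      exact eq_mul_of_mul_inv_eq h1
    have key' : conjBy (conjBy B (p * a⁻¹)) w = conjBy B (z * a) := by
      rw [← key, conjBy_conjBy, conjBy_conjBy,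
        ((show Commute (w * w) z from hwz).mul_right h.sq_comm).eq, ← conjBy_conjBy, h.conj_B hp]
    have htn : (p * a⁻¹) ^ n = (a ^ (n + 1))⁻¹ := by
      rw [(show Commute p a⁻¹ from hA p hp' _ (inv_mem h.ha)).mul_pow, hpn, pow_succ, mul_inv_rev, inv_pow]
    have htn1 : (p * a⁻¹) ^ n ≠ 1 := by rw [htn]; simpa using hn1
    have hz1 : z ≠ 1 := by
      intro e
      rw [e, conjBy_one] at ez
      exact point_ne hp (pow_mem h.ha (n + 1)) (conjBy_inj (ez.trans h.map_left.symm))
    have ezi : conjBy (conjBy B ((p * a⁻¹) ^ n)) w = conjBy B z⁻¹ := by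
      rw [htn]
      exact h.image_inv hs (pow_mem h.ha _) hn1 hz hz1 ez
    have := homog hs ih h (mul_mem hp' (inv_mem h.ha)) htn1 (mul_mem hz h.ha) key' (inv_mem hz) ezi
    rw [inv_pow] at this
    calc z ^ (n + 1) = z ^ n * z := pow_succ z n
      _ = (z * a)⁻¹ * z := by rw [← this, inv_inv]
      _ = a⁻¹ := by group

end Cfsg.Agent.Lib.RankOne
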