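import Cfsg.Agent.Lib.RankOne.Lines
import Cfsg.Agent.S5029

/-!
# Lines seen from a rank one partner, and specialness of rank one pairs
-/

set_option autoImplicit false

namespace Cfsg.Agent.Lib.RankOne

open Cfsg
open scoped commutatorElement

variable {G : Type*} [Group G] {S : Set (Subgroup G)} {A B C : Subgroup G}

theorem linePartners_symm (hA : A ∈ S) (h : C ∈ linePartners S A) : A ∈ linePartners S C :=
  ⟨⟨hA, h.1.2.1.symm, by rw [Subgroup.commutator_comm]; exact h.1.2.2⟩, by rw [sup_comm]; exact h.2⟩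

/-- On every line some member is no rank one partner of a given member. -/
theorem exists_nonpartner_on_line (hA : A ∈ S) (hC : C ∈ linePartners S A)
    (hpA : IsRankOnePair A B) (hpC : IsRankOnePair C B) :
    ∃ E ∈ membersIn S (A ⊔ C), ¬ IsRankOnePair E B := by
  by_contra hh
  push Not at hh
  obtain ⟨⟨hCS, hne, hAC⟩, hpart⟩ := hC
  obtain ⟨b, hb, hb1⟩ := (Subgroup.bot_or_exists_ne_one B).resolve_left (left_ne_bot (RankOnePair_symm hpA))
  obtain ⟨a, ha, ha1, ea⟩ := hpA.cond_right b hb hb1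
  obtain ⟨c, hc, -, ec⟩ := hpC.cond_right b hb hb1
  have h1 : ⁅conjBy B a⁻¹, conjBy B c⁻¹⁆ = ⊥ := by
    rw [ea, ec]; exact Lines.commute_conjBy _ hAC
  have h2 := Lines.commute_conjBy a h1
  rw [conjBy_conjBy, conjBy_conjBy, mul_inv_cancel, conjBy_one] at h2
  have hv : a * c⁻¹ ≠ 1 := fun e => ha1 ((Subgroup.eq_bot_iff_forall _).mp
    (hpart.2.2 A ⟨hA, le_sup_left⟩ C ⟨hCS, le_sup_right⟩ (Ne.symm hne)) a
    (Subgroup.mem_inf.mpr ⟨ha, by rwa [mul_inv_eq_one.mp e]⟩))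
  obtain ⟨E, hE, hvE⟩ := hpart.2.1 _ (Subgroup.mul_mem_sup ha (inv_mem hc)) hv
  have hpE := hh E hE
  exact hv (eq_one_of_normalizes hpE hvE (eq_of_commute hpE
    (conj_mem_unip ((le_sup_left : E ≤ E ⊔ B) hvE) (mem_unip_right hpE)) (mem_unip_right hpE)
    (by rw [Subgroup.commutator_comm]; exact h2)))

/-- No member of a line through `A` commutes with a rank one partner of `A`. -/
theorem not_commute_on_line (hS : IsRootSubgroupSet S) (hA : A ∈ S) (hB : B ∈ S)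
    (hC : C ∈ linePartners S A) (hpA : IsRankOnePair A B) {E : Subgroup G} (hE : E ∈ membersIn S (A ⊔ C)) :
    ⁅B, E⁆ ≠ ⊥ := by
  intro hBE
  obtain ⟨⟨hCS, -, hAC⟩, hpart⟩ := hC
  obtain ⟨e, he, he1⟩ := (Subgroup.bot_or_exists_ne_one E).resolve_left (hS.ne_bot E hE.1)
  obtain ⟨a, ha, ha1⟩ := (Subgroup.bot_or_exists_ne_one A).resolve_left (hS.ne_bot A hA)
  have hle : A ⊔ C ≤ Subgroup.centralizer (A : Set G) :=
    sup_le (fun x hx => Subgroup.mem_centralizer_iff.mpr fun y hy => commute_of_mem hS hA hy hx)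
      (fun x hx => Subgroup.mem_centralizer_iff.mpr fun y hy => commutator_eq_bot_iff.mp hAC y hy x hx)
  have hz : ∀ x ∈ A ⊔ B, e * x = x * e := by
    have : A ⊔ B ≤ Subgroup.centralizer ({e} : Set G) :=
      sup_le (fun x hx => Subgroup.mem_centralizer_singleton_iff.mpr (Subgroup.mem_centralizer_iff.mp (hle (hE.2 he)) x hx))
        (fun x hx => Subgroup.mem_centralizer_singleton_iff.mpr (commutator_eq_bot_iff.mp hBE x hx e he))
    exact fun x hx => (Subgroup.mem_centralizer_singleton_iff.mp (this hx)).symm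
  have hea : e * a ≠ 1 := fun h => by
    have heA : e ∈ A := by rw [mul_eq_one_iff_eq_inv.mp h]; exact inv_mem ha
    exact he1 (eq_one_of_normalizes hpA heA (conjBy_eq_self_of_commute fun x hx =>
      hz x ((le_sup_right : B ≤ A ⊔ B) hx)))
  obtain ⟨F, hF, heaF⟩ := hpart.2.1 _ (mul_mem (hE.2 he) ((le_sup_left : A ≤ A ⊔ C) ha)) hea
  exact translate hS hA hB hpA hz he1 ha ha1 hF.1 heaF

theorem exists_rankOne_partner (hS : IsRootSubgroupClass S) (hnd : IsNondegenerateRootSet S) (hA : A ∈ S) :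
    ∃ D ∈ S, IsRankOnePair A D := by
  obtain ⟨P, hP, Q, hQ, hp⟩ := hnd.2.1
  obtain ⟨g, rfl⟩ := hS.2.2 P hP A hA
  exact ⟨conjBy Q g, hS.1.conj_mem Q hQ g, pair_conjBy hp g⟩

theorem not_isolated (hS : IsRootSubgroupClass S) (hnd : IsNondegenerateRootSet S) (hA : A ∈ S) :
    ¬ IsIsolatedIn (FAdj S) S A := fun h => by
  obtain ⟨D, hD, hp⟩ := exists_rankOne_partner hS hnd hA
  exact (h.2 D).1 ⟨hA, hD, hp⟩

theorem exists_line_partner (hS : IsRootSubgroupClass S) (hnd : IsNondegenerateRootSet S) (hA : A ∈ S) :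
    (linePartners S A).Nonempty := by
  obtain ⟨P, hP, Q, hQ, hcc⟩ := hnd.2.2
  obtain ⟨g, hg⟩ := hS.2.2 _ hcc.1 A hA
  have hA' : A = ⁅conjBy P g, conjBy Q g⁆ := by rw [hg]; exact Subgroup.map_commutator _ _ _
  refine ⟨conjBy P g, ?_⟩
  rw [hA']
  exact (Cfsg.Agent.S5029.result hS.1 (not_isolated hS hnd (hS.1.conj_mem P hP g)) (hS.1.conj_mem P hP g)
    (hS.1.conj_mem Q hQ g) (hA' ▸ hA)).2.2.1

/-- A member of a line through `A` in the commutator case with `B`, or commuting partner. -/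
theorem exists_comm_on_line (hS : IsRootSubgroupSet S) (hA : A ∈ S) (hB : B ∈ S) (hC : C ∈ linePartners S A)
    (hp : IsRankOnePair A B) :
    ∃ E₀ ∈ membersIn S (A ⊔ C), ⁅A, E₀⁆ = ⊥ ∧ ⁅B, E₀⁆ ∈ S := by
  have hAC : ∀ E ≤ A ⊔ C, ⁅A, E⁆ = ⊥ := fun E hE => commutator_eq_bot_iff.mpr fun x hx e he => by
    have hle : A ⊔ C ≤ Subgroup.centralizer (A : Set G) :=
      sup_le (fun u hu => Subgroup.mem_centralizer_iff.mpr fun y hy => commute_of_mem hS hA hy hu)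
        (fun u hu => Subgroup.mem_centralizer_iff.mpr fun y hy => commutator_eq_bot_iff.mp hC.1.2.2 y hy u hu)
    exact Subgroup.mem_centralizer_iff.mp (hle (hE he)) x hx
  by_cases hpC : IsRankOnePair C B
  · obtain ⟨E, hE, hn⟩ := exists_nonpartner_on_line hA hC hp hpC
    refine ⟨E, hE, hAC E hE.2, ?_⟩
    rcases hS.pair B hB E hE.1 with h | h | h
    · exact absurd h (not_commute_on_line hS hA hB hC hp hE)
    · exact absurd (RankOnePair_symm h) hn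
    · exact h.1
  · refine ⟨C, ⟨hC.1.1, le_sup_right⟩, hC.1.2.2, ?_⟩
    rcases hS.pair B hB C hC.1.1 with h | h | h
    · exact absurd h (not_commute_on_line hS hA hB hC hp ⟨hC.1.1, le_sup_right⟩)
    · exact absurd (RankOnePair_symm h) hpC
    · exact h.1

/-- A line-like member in the commutator case with `B` gives a configuration. -/
theorem pair_config_of_comm (hS : IsRootSubgroupSet S) (hF : ∀ X ∈ S, ¬ IsIsolatedIn (FAdj S) S X)
    (hA : A ∈ S) (hB : B ∈ S) (hp : IsRankOnePair A B) {E₀ : Subgroup G} (hE₀S : E₀ ∈ S)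
    (hAE₀ : ⁅A, E₀⁆ = ⊥) (hD : ⁅B, E₀⁆ ∈ S) :
    ⁅A, ⁅B, E₀⁆⁆ ∈ linePartners S A ∧ ⁅B, ⁅A, ⁅B, E₀⁆⁆⁆ = ⁅B, E₀⁆ := by
  have hS' := hS
  set D := ⁅B, E₀⁆ with hDdef
  obtain ⟨hmemBD, -, hBD, -⟩ := Cfsg.Agent.S5029.result hS' (hF B hB) hB hE₀S hD
  rw [← hDdef] at hmemBD hBD
  have hDB : D ∈ linePartners S B := linePartners_symm hD hBD
  have hcc₀ := comm_case_of_mem hS' hB hE₀S hD
  -- `A` and `D` are in the commutator case
  have hE : ⁅A, D⁆ ∈ S := by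
    rcases hS'.pair A hA D hD with h | h | h
    · exact absurd h (not_commute_on_line hS' hB hA hDB (RankOnePair_symm hp) ⟨hD, le_sup_right⟩)
    · exfalso
      obtain ⟨F, hF, hn⟩ := exists_nonpartner_on_line hB hDB (RankOnePair_symm hp) (RankOnePair_symm h)
      rw [hmemBD] at hF
      rcases hF with ⟨e, he, rfl⟩ | rfl
      · refine hn ?_
        have h1 := pair_conjBy (RankOnePair_symm hp) e
        rwa [show conjBy A e = A from conjBy_eq_self_of_commute fun x hx =>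
          (commutator_eq_bot_iff.mp hAE₀ x hx e he).symm] at h1
      · exact hn (RankOnePair_symm h)
    · exact h.1
  set E := ⁅A, D⁆ with hEdef
  have hDBc : ∀ d ∈ D, ∀ x ∈ B, d * x = x * d := fun d hd x hx => (commutator_eq_bot_iff.mp hDB.1.2.2 x hx d hd).symm
  have hcc := comm_case_of_mem hS' hA hD hE
  obtain ⟨hmemAE, -, hAE, -⟩ := Cfsg.Agent.S5029.result hS' (hF A hA) hA hD hE
  rw [← hEdef] at hmemAE hAE
  have hEA : E ∈ linePartners S A := linePartners_symm hE hAE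
  have hEB : ⁅B, E⁆ ∈ S := by
    rcases hS'.pair B hB E hE with h | h | h
    · exact absurd h (not_commute_on_line hS' hA hB hEA hp ⟨hE, le_sup_right⟩)
    · exfalso
      obtain ⟨F, hF, hn⟩ := exists_nonpartner_on_line hA hEA hp (RankOnePair_symm h)
      rw [hmemAE] at hF
      rcases hF with ⟨d, hd, rfl⟩ | rfl
      · refine hn ?_
        have h1 := pair_conjBy hp d
        rwa [show conjBy B d = B from conjBy_eq_self_of_commute fun x hx => hDBc d hd x hx] at h1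
      · exact hn (RankOnePair_symm h)
    · exact h.1
  refine ⟨hEA, ?_⟩
  set D' := ⁅B, E⁆ with hD'def
  have hccE := comm_case_of_mem hS' hB hE hEB
  obtain ⟨hmemED, hpartED, -, -⟩ := Cfsg.Agent.S5029.result hS' (hF E hE) hE hB
    (by rw [Subgroup.commutator_comm]; exact hEB)
  rw [show ⁅E, B⁆ = D' from Subgroup.commutator_comm E B] at hmemED hpartED
  suffices hDD : D = D' from hDD.symm
  -- an element of `D` in `E ⊔ D'`
  obtain ⟨b, hb, hb1⟩ := (Subgroup.bot_or_exists_ne_one B).resolve_left (hS'.ne_bot B hB)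
  obtain ⟨a, ha, ha1⟩ := (Subgroup.bot_or_exists_ne_one A).resolve_left (hS'.ne_bot A hA)
  obtain ⟨d₁, hd₁, hd₁1⟩ := (Subgroup.bot_or_exists_ne_one D).resolve_left (hS'.ne_bot D hD)
  obtain ⟨e, he, hbe⟩ := comm_surjective hcc₀ hb hb1 hd₁
  obtain ⟨β, hβ, -, hβe⟩ := hp.cond_left a⁻¹ (inv_mem ha) (inv_ne_one.mpr ha1)
  rw [inv_inv] at hβe
  have hw : β * (a * b * a⁻¹) * β⁻¹ ∈ A := by
    have h1 : a * b * a⁻¹ ∈ conjBy A β⁻¹ := hβe ▸ conj_mem_conjBy hb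
    simpa using mem_conjBy.mp h1
  set x := β * (a * b * a⁻¹) * β⁻¹ with hxdef
  have hea : a * e = e * a := commutator_eq_bot_iff.mp hAE₀ a ha e he
  have hxe : x * e = e * x := commutator_eq_bot_iff.mp hAE₀ x hw e he
  have h1 : a * d₁ * a⁻¹ = a * b * a⁻¹ * e * (a * b * a⁻¹)⁻¹ * e⁻¹ := by
    rw [← hbe]
    calc a * (b * e * b⁻¹ * e⁻¹) * a⁻¹ = a * b * e * b⁻¹ * (a * e)⁻¹ := by group
      _ = a * b * e * b⁻¹ * (e * a)⁻¹ := by rw [hea]
      _ = a * b * (a⁻¹ * (a * e)) * b⁻¹ * (e * a)⁻¹ := by group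
      _ = _ := by rw [hea]; group
  have h2 : a * d₁ * a⁻¹ = β⁻¹ * (x * (β * e * β⁻¹ * e⁻¹) * x⁻¹ * (β * e * β⁻¹ * e⁻¹)⁻¹) * β := by
    rw [h1]
    calc a * b * a⁻¹ * e * (a * b * a⁻¹)⁻¹ * e⁻¹
        = β⁻¹ * (x * (β * e * β⁻¹ * e⁻¹) * (e * x⁻¹) * e⁻¹ * (β * e * β⁻¹ * e⁻¹)⁻¹) * β := by
          rw [hxdef]; group
      _ = _ := by
          rw [show e * x⁻¹ = x⁻¹ * e by
            rw [eq_inv_mul_iff_mul_eq, ← mul_assoc, hxe, mul_inv_cancel_right]]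
          group
  have he2 : x * (β * e * β⁻¹ * e⁻¹) * x⁻¹ * (β * e * β⁻¹ * e⁻¹)⁻¹ ∈ E :=
    Subgroup.commutator_mem_commutator hw (Subgroup.commutator_mem_commutator hβ he)
  generalize x * (β * e * β⁻¹ * e⁻¹) * x⁻¹ * (β * e * β⁻¹ * e⁻¹)⁻¹ = e2 at h2 he2
  have h3 : d₁ ∈ E ⊔ D' := by
    have h4 : β⁻¹ * e2 * β⁻¹⁻¹ * e2⁻¹ ∈ D' := Subgroup.commutator_mem_commutator (inv_mem hβ) he2
    have h5 : a * d₁ * a⁻¹ * d₁⁻¹ ∈ E := Subgroup.commutator_mem_commutator ha hd₁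
    rw [show d₁ = (a * d₁ * a⁻¹ * d₁⁻¹)⁻¹ * ((β⁻¹ * e2 * β⁻¹⁻¹ * e2⁻¹) * e2) by
      rw [inv_inv, inv_mul_cancel_right, ← h2]; group]
    exact mul_mem ((le_sup_left : E ≤ E ⊔ D') (inv_mem h5))
      (mul_mem ((le_sup_right : D' ≤ E ⊔ D') h4) ((le_sup_left : E ≤ E ⊔ D') he2))
  obtain ⟨M, hM, hdM⟩ := hpartED.2.1 d₁ h3 hd₁1
  obtain ⟨D₁, hD₁, hpD⟩ := exists_partner hS (hF D hD) hD
  have hDM : D = M := (inf_eq_bot_or_eq hS' hD hM.1 hD₁ hpD).resolve_left fun h => hd₁1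
    ((Subgroup.eq_bot_iff_forall _).mp h d₁ (Subgroup.mem_inf.mpr ⟨hd₁, hdM⟩))
  rw [hmemED, ← hDM] at hM
  rcases hM with ⟨y, hy, hyE⟩ | h
  · exfalso
    have h6 : conjBy D y⁻¹ = E := by rw [← hyE, conjBy_conjBy, inv_mul_cancel, conjBy_one]
    rw [conjBy_eq_self_of_commute fun u hu => (hDBc u hu y⁻¹ (inv_mem hy)).symm] at h6
    exact hS'.ne_bot _ hEB (commutator_eq_bot_iff.mpr fun u hu v hv => (hDBc v (h6 ▸ hv) u hu).symm)
  · exact h

/-- Every rank one pair extends to a line partner `E` of `A` with `⁅B, E⁆ = D` and `⁅A, D⁆ = E`. -/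
theorem exists_pair_config (hS : IsRootSubgroupClass S) (hnd : IsNondegenerateRootSet S)
    (hA : A ∈ S) (hB : B ∈ S) (hp : IsRankOnePair A B) :
    ∃ E ∈ linePartners S A, ⁅B, E⁆ ∈ S ∧ ⁅A, ⁅B, E⁆⁆ = E := by
  obtain ⟨C, hC⟩ := exists_line_partner hS hnd hA
  obtain ⟨E₀, hE₀, h1, h2⟩ := exists_comm_on_line hS.1 hA hB hC hp
  obtain ⟨h3, h4⟩ := pair_config_of_comm hS.1 (fun X hX => not_isolated hS hnd hX) hA hB hp hE₀.1 h1 h2
  refine ⟨_, h3, ?_, ?_⟩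
  · rw [h4]; exact h2
  · rw [h4]

/-- A rank one pair of a non-degenerate class is special. -/
theorem pair_special (hS : IsRootSubgroupClass S) (hnd : IsNondegenerateRootSet S)
    (hA : A ∈ S) (hB : B ∈ S) (hp : IsRankOnePair A B) :
    (∃ C ∈ linePartners S A, C ∈ commutatorPartners S B) ∧ IsSpecialRankOnePair A B := by
  obtain ⟨E, hEA, hD, hcfg⟩ := exists_pair_config hS hnd hA hB hp
  have hE := hEA.1.1
  refine ⟨⟨E, hEA, hE, hD⟩, hp, fun a ha ha1 b hb hb1 hcond => ?_⟩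
  set D := ⁅B, E⁆ with hDdef
  have hccB := comm_case_of_mem hS.1 hB hE hD
  have hccA := comm_case_of_mem hS.1 hA hD (by rw [hcfg]; exact hE)
  have hDB : ∀ d ∈ D, ∀ x ∈ B, d * x = x * d := fun d hd x hx =>
    hccB.2.1 d hd x ((le_sup_left : B ≤ B ⊔ E) hx)
  have hDE : ∀ d ∈ D, ∀ x ∈ E, d * x = x * d := fun d hd x hx =>
    hccB.2.1 d hd x ((le_sup_right : E ≤ B ⊔ E) hx)
  have hAE : ∀ x ∈ A, ∀ u ∈ E, x * u = u * x := commutator_eq_bot_iff.mp hEA.1.2.2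
  set z := (a⁻¹ * b⁻¹ * a)⁻¹ * (b⁻¹ * a * b) with hzdef
  suffices hz1 : z = 1 from (eq_of_inv_mul_eq_one hz1).symm
  have hzU : z ∈ conjBy A b⁻¹ := by
    refine mul_mem (inv_mem ?_) ?_
    · rw [hcond]; simpa using conj_mem_conjBy (g := a⁻¹) (inv_mem hb)
    · simpa using conj_mem_conjBy (g := b⁻¹) ha
  have ha'A : b * z * b⁻¹ ∈ A := by simpa using mem_conjBy.mp hzU
  by_contra hz1
  set a' := b * z * b⁻¹ with ha'def
  have ha'1 : a' ≠ 1 := fun h => hz1 (by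
    rw [ha'def] at h
    simpa using conj_eq_one_iff.mp h)
  suffices hcomm : ∀ d ∈ D, a' * d * a'⁻¹ * d⁻¹ = 1 by
    refine hS.1.ne_bot _ hE ?_
    rw [← hcfg, ← hccA.2.2.1 a' ha'A ha'1, Subgroup.closure_eq_bot_iff]
    rintro _ ⟨d, hd, rfl⟩
    exact hcomm d hd
  intro d hd
  set e := a * d * a⁻¹ * d⁻¹ with hedef
  have he : e ∈ E := hcfg ▸ Subgroup.commutator_mem_commutator ha hd
  set δ := b * e * b⁻¹ * e⁻¹ with hδdef
  have hδ : δ ∈ D := Subgroup.commutator_mem_commutator hb he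
  have hbd : b * d = d * b := (hDB d hd b hb).symm
  have hde : d * e = e * d := hDE d hd e he
  have hea : a * e = e * a := hAE a ha e he
  have had : a⁻¹ * d * a = e⁻¹ * d := by
    calc a⁻¹ * d * a = a⁻¹ * (e⁻¹ * (a * d * a⁻¹)) * a := by rw [hedef]; group
      _ = (e * a)⁻¹ * a * d := by group
      _ = (a * e)⁻¹ * a * d := by rw [hea]
      _ = _ := by group
  -- `δ = d`
  have hδd : δ = d := by
    obtain ⟨D₁, hD₁, hpA⟩ := exists_rankOne_partner hS hnd hA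
    have h1 : ∀ x ∈ A, x * (δ⁻¹ * d) * x⁻¹ * (δ⁻¹ * d)⁻¹ = 1 := by
      intro x hx
      have h2 : b * (a⁻¹ * d * a) * b⁻¹ = e⁻¹ * (δ⁻¹ * d) := by
        rw [had, hδdef]
        calc b * (e⁻¹ * d) * b⁻¹ = b * e⁻¹ * (d * b * b⁻¹ * b⁻¹) := by group
          _ = b * e⁻¹ * (b⁻¹ * d) := by
              rw [show d * b * b⁻¹ * b⁻¹ = b⁻¹ * d by
                rw [mul_inv_cancel_right, eq_inv_mul_iff_mul_eq, ← mul_assoc, hbd, mul_inv_cancel_right]]
          _ = _ := by group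
      have h3 : x * (b * (a⁻¹ * d * a) * b⁻¹) = b * (a⁻¹ * d * a) * b⁻¹ * x := by
        have h4 : a * (b⁻¹ * x * b) * a⁻¹ ∈ B := by
          have h5 : b⁻¹ * x * b ∈ conjBy A b⁻¹ := by simpa using conj_mem_conjBy (g := b⁻¹) hx
          rw [hcond] at h5
          simpa using mem_conjBy.mp h5
        have h6 := (hDB d hd _ h4).symm
        calc x * (b * (a⁻¹ * d * a) * b⁻¹)
            = b * a⁻¹ * (a * (b⁻¹ * x * b) * a⁻¹ * d) * a * b⁻¹ := by group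
          _ = b * a⁻¹ * (d * (a * (b⁻¹ * x * b) * a⁻¹)) * a * b⁻¹ := by rw [h6]
          _ = _ := by group
      rw [h2] at h3
      have h7 : x * (δ⁻¹ * d) = δ⁻¹ * d * x := by
        have h8 : x * e⁻¹ = e⁻¹ * x := hAE x hx _ (inv_mem he)
        rw [← mul_assoc, h8, mul_assoc, mul_assoc] at h3
        exact mul_left_cancel h3
      rw [h7]; group
    obtain ⟨x, hx, hx1⟩ := (Subgroup.bot_or_exists_ne_one A).resolve_left (hS.1.ne_bot A hA)
    exact inv_mul_eq_one.mp (comm_eq_one hS.1 hccA hA hD₁ hpA hx hx1 (mul_mem (inv_mem hδ) hd) (h1 x hx))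
  have hbe : b * e * b⁻¹ = d * e := by rw [← hδd, hδdef]; group
  have hbe' : b⁻¹ * e * b = d⁻¹ * e := by
    calc b⁻¹ * e * b = b⁻¹ * (d⁻¹ * (b * e * b⁻¹)) * b := by rw [hbe]; group
      _ = (d * b)⁻¹ * b * e := by group
      _ = (b * d)⁻¹ * b * e := by rw [hbd]
      _ = _ := by group
  have hy : b⁻¹ * a * b * d * (b⁻¹ * a * b)⁻¹ = e := by
    calc b⁻¹ * a * b * d * (b⁻¹ * a * b)⁻¹ = b⁻¹ * a * (b * d) * b⁻¹ * a⁻¹ * b := by group
      _ = b⁻¹ * e * b * (b⁻¹ * d * b) := by rw [hbd, hedef]; group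
      _ = d⁻¹ * (e * d) := by rw [hbe', mul_assoc b⁻¹ d b, ← hbd]; group
      _ = e := by rw [← hde]; group
  have hx : a⁻¹ * b⁻¹ * a * d * (a⁻¹ * b⁻¹ * a)⁻¹ = e := by
    calc a⁻¹ * b⁻¹ * a * d * (a⁻¹ * b⁻¹ * a)⁻¹ = a⁻¹ * (b⁻¹ * e * b * (b⁻¹ * d * b)) * a := by rw [hedef]; group
      _ = a⁻¹ * (d⁻¹ * (e * d)) * a := by rw [hbe', mul_assoc b⁻¹ d b, ← hbd]; group
      _ = a⁻¹ * e * a := by rw [← hde]; group
      _ = e := by rw [mul_assoc, ← hea]; group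
  have hzd : z * d * z⁻¹ = d := by
    calc z * d * z⁻¹
        = (a⁻¹ * b⁻¹ * a)⁻¹ * (b⁻¹ * a * b * d * (b⁻¹ * a * b)⁻¹) * (a⁻¹ * b⁻¹ * a) := by rw [hzdef]; group
      _ = (a⁻¹ * b⁻¹ * a)⁻¹ * (a⁻¹ * b⁻¹ * a * d * (a⁻¹ * b⁻¹ * a)⁻¹) * (a⁻¹ * b⁻¹ * a) := by rw [hy, hx]
      _ = d := by group
  have h9 : b⁻¹ * d * b = d := by rw [mul_assoc, ← hbd]; group
  calc a' * d * a'⁻¹ * d⁻¹ = b * (z * (b⁻¹ * d * b) * z⁻¹) * b⁻¹ * d⁻¹ := by rw [ha'def]; group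
    _ = b * (z * d * z⁻¹) * b⁻¹ * d⁻¹ := by rw [h9]
    _ = 1 := by rw [hzd, hbd]; group

end Cfsg.Agent.Lib.RankOne
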