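import Cfsg.Agent.Lib.RankOne.RootSets
import Cfsg.Agent.S5026

/-!
# Rank one pairs in degenerate sets of abstract root subgroups

Two members are twins if they have the same commuting partners.  A rank one pair `(A, D)` of members which are
not twins is special, and different unipotent subgroups of it are never twins.
-/

set_option autoImplicit false

namespace Cfsg.Agent.Lib.RankOne.Twin

open Cfsg

variable {G : Type*} [Group G] {S : Set (Subgroup G)} {A B C D : Subgroup G}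

theorem noncomm (hp : IsRankOnePair A B) : ⁅A, B⁆ ≠ ⊥ := fun h =>
  hp.ne (eq_of_commute hp (mem_unip_left A B) (mem_unip_right hp) h)

theorem dich (hS : IsRootSubgroupSet S) (hdeg : IsDegenerateRootSet S) (hA : A ∈ S) (hB : B ∈ S) :
    ⁅A, B⁆ = ⊥ ∨ IsRankOnePair A B :=
  (hS.pair A hA B hB).imp_right fun h => h.resolve_right (hdeg A hA B hB)

theorem comm_symm (h : ⁅A, B⁆ = ⊥) : ⁅B, A⁆ = ⊥ := by rwa [Subgroup.commutator_comm]

theorem conjBy_inv_self {g : G} (h : conjBy A g = A) : conjBy A g⁻¹ = A :=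
  mem_normalizer_iff.mp (inv_mem (mem_normalizer_iff.mpr h))

theorem conjBy_inv_eq {g : G} (h : conjBy A g = B) : conjBy B g⁻¹ = A := by
  rw [← h, conjBy_conjBy, inv_mul_cancel, conjBy_one]

theorem fix_of_comm (h : ⁅A, B⁆ = ⊥) {a : G} (ha : a ∈ A) : conjBy B a = B :=
  conjBy_eq_self_of_commute fun x hx => commutator_eq_bot_iff.mp h a ha x hx

theorem comm_conj (g : G) (h : ⁅A, B⁆ = ⊥) : ⁅conjBy A g, conjBy B g⁆ = ⊥ := by
  show ⁅Subgroup.map _ _, Subgroup.map _ _⁆ = ⊥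
  rw [← Subgroup.map_commutator, h, Subgroup.map_bot]

theorem special_symm (hs : IsSpecialRankOnePair A B) : IsSpecialRankOnePair B A := by
  refine ⟨RankOnePair_symm hs.1, fun b hb hb1 a ha ha1 e => ?_⟩
  have h := congrArg (fun z => z⁻¹) (hs.2 a ha ha1 b hb hb1 e.symm)
  simp only [mul_inv_rev, inv_inv] at h
  simpa [mul_assoc] using h.symm

theorem exists_match_left (hp : IsRankOnePair A B) {a : G} (ha : a ∈ A) (ha1 : a ≠ 1) :
    ∃ d ∈ B, d ≠ 1 ∧ conjBy A d = conjBy B a⁻¹ := by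
  obtain ⟨b, hb, hb1, e⟩ := hp.cond_left a ha ha1
  exact ⟨b⁻¹, inv_mem hb, inv_ne_one.mpr hb1, e⟩

theorem exists_match_right (hp : IsRankOnePair A B) {d : G} (hd : d ∈ B) (hd1 : d ≠ 1) :
    ∃ a ∈ A, a ≠ 1 ∧ conjBy A d = conjBy B a⁻¹ := by
  obtain ⟨a, ha, ha1, e⟩ := hp.cond_right d⁻¹ (inv_mem hd) (inv_ne_one.mpr hd1)
  exact ⟨a, ha, ha1, by rw [e, inv_inv]⟩

/-- A commuting partner `C` of `A` gives commuting partners of `B`. -/
theorem image_comm (hCA : ⁅A, C⁆ = ⊥) {a c d : G} (e : conjBy A d = conjBy B a⁻¹)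
    (ec : conjBy C d = conjBy B c⁻¹) : ⁅B, conjBy B (a * c⁻¹)⁆ = ⊥ := by
  have h2 := comm_conj a (show ⁅conjBy B a⁻¹, conjBy B c⁻¹⁆ = ⊥ by rw [← e, ← ec]; exact comm_conj d hCA)
  rwa [conjBy_conjBy, conjBy_conjBy, mul_inv_cancel, conjBy_one] at h2

/-- A product of elements of `A` and of a commuting partner normalizes `B` only trivially. -/
theorem eq_one_of_prod (hS : IsRootSubgroupSet S) (hdeg : IsDegenerateRootSet S) (hA : A ∈ S) (hB : B ∈ S)
    (hC : C ∈ S) (hp : IsRankOnePair A B) (hne : C ≠ A) (hCA : ⁅A, C⁆ = ⊥) {α γ : G} (hα : α ∈ A) (hγ : γ ∈ C)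
    (hfix : conjBy B (α * γ) = B) : α = 1 := by
  by_contra hα1
  by_cases hγ1 : γ = 1
  · rw [hγ1, mul_one] at hfix
    exact hα1 (eq_one_of_normalizes hp hα hfix)
  have hαA : ∀ x ∈ A, α * x = x * α := fun x hx => commute_of_mem hS hA hα hx
  have hγA : ∀ x ∈ A, γ * x = x * γ := fun x hx => (commutator_eq_bot_iff.mp hCA x hx γ hγ).symm
  have hkA : ∀ x ∈ A, α * γ * x = x * (α * γ) := fun x hx => by
    rw [mul_assoc, hγA x hx, ← mul_assoc, hαA x hx, mul_assoc]
  have hU : ∀ E ∈ unipotentSubgroups A B, conjBy E (α * γ) = E := by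
    intro E hE
    rcases (mem_unip_iff hp).mp hE with rfl | ⟨x, hx, rfl⟩
    · exact conjBy_eq_self_of_commute hkA
    · rw [conjBy_conjBy, hkA x hx, ← conjBy_conjBy, hfix]
  have hkB : ∀ y ∈ B, α * γ * y = y * (α * γ) := fun y hy =>
    commute_of_fix (RankOnePair_symm hp) (fun E hE => hU E (by rwa [unip_symm hp])) hy
  have hab1 : α * γ ≠ 1 := fun e => by
    have hα' : α ∈ C := by rw [mul_eq_one_iff_eq_inv.mp e]; exact inv_mem hγ
    exact hne ((inf_eq_bot_or_eq hS hA hC hB hp).resolve_left fun h => hα1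
      ((Subgroup.eq_bot_iff_forall _).mp h α (Subgroup.mem_inf.mpr ⟨hα, hα'⟩))).symm
  have h := Cfsg.Agent.S5026.result hS hdeg (a := α) (b := γ) ⟨hα1, A, hA, hα⟩ ⟨hγ1, C, hC, hγ⟩
    (commutator_eq_bot_iff.mp hCA α hα γ hγ) hab1
  have hmem : B ∈ centralizingMembers S (Subgroup.zpowers (α * γ)) := ⟨hB, fun y hy x hx => by
    obtain ⟨k, rfl⟩ := hx
    exact ((show Commute (α * γ) y from hkB y hy).zpow_left k).eq⟩
  rw [h] at hmem
  exact hα1 (eq_one_of_normalizes hp hα (conjBy_eq_self_of_commute fun y hy =>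
    hmem.1.2 hy α (Subgroup.mem_zpowers α)))

/-- The main computation: the inverses of matched elements are matched. -/
theorem match_inv (hS : IsRootSubgroupSet S) (hdeg : IsDegenerateRootSet S) (hA : A ∈ S) (hB : B ∈ S)
    (hC : C ∈ S) (hp : IsRankOnePair A B) (hpC : IsRankOnePair C B) (hne : C ≠ A) (hCA : ⁅A, C⁆ = ⊥) {a d : G}
    (ha : a ∈ A) (ha1 : a ≠ 1) (hd : d ∈ B) (hd1 : d ≠ 1) (e : conjBy A d = conjBy B a⁻¹) :
    conjBy A d⁻¹ = conjBy B a := by
  have hAC : ∀ x ∈ A, ∀ y ∈ C, x * y = y * x := commutator_eq_bot_iff.mp hCA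
  obtain ⟨c, hc, -, ec⟩ := exists_match_right hpC hd hd1
  have h2 := image_comm hCA e ec
  have hB' : conjBy B (a * c⁻¹) = conjBy C (a * d) := by rw [← conjBy_conjBy, ← ec, conjBy_conjBy]
  have hfix : conjBy C (d⁻¹ * (a * d)) = conjBy B (a * c⁻¹) := by
    rw [← conjBy_conjBy, ← hB']
    exact fix_of_comm h2 (inv_mem hd)
  obtain ⟨a', ha', -, e'⟩ := exists_match_right hp (inv_mem hd) (inv_ne_one.mpr hd1)
  set g0 := d⁻¹ * (a * d) with hg0
  have hu : a' * g0 * a'⁻¹ ∈ B := by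
    have h1 : g0 ∈ conjBy A d⁻¹ := mem_conjBy.mpr (by simpa [hg0, mul_assoc] using ha)
    rw [e', mem_conjBy, inv_inv] at h1
    exact h1
  have hu1 : a' * g0 * a'⁻¹ ≠ 1 := fun h => ha1 (mul_right_cancel (b := d) (by
    rw [one_mul, ← inv_mul_eq_one.mp (conj_eq_one_iff.mp h)]))
  obtain ⟨γ, hγ, -, eγ⟩ := exists_match_right hpC hu hu1
  have hC' : conjBy C a'⁻¹ = C := fix_of_comm hCA (inv_mem ha')
  have h3 : conjBy C (a' * g0 * a'⁻¹) = conjBy B (a' * (a * c⁻¹)) := by
    rw [← conjBy_conjBy, hC', ← conjBy_conjBy C g0 a', hfix, conjBy_conjBy]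
  have hk : conjBy B (γ * (a' * (a * c⁻¹))) = B := by
    rw [← conjBy_conjBy, ← h3, eγ, conjBy_conjBy, mul_inv_cancel, conjBy_one]
  have hγa : γ * (a' * (a * c⁻¹)) = a' * a * (γ * c⁻¹) := by
    calc γ * (a' * (a * c⁻¹)) = γ * (a' * a) * c⁻¹ := by group
      _ = a' * a * γ * c⁻¹ := by rw [← hAC _ (mul_mem ha' ha) γ hγ]
      _ = a' * a * (γ * c⁻¹) := by group
  rw [hγa] at hk
  have h4 := eq_one_of_prod hS hdeg hA hB hC hp hne hCA (mul_mem ha' ha) (mul_mem hγ (inv_mem hc)) hk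
  rw [e', show a'⁻¹ = a from inv_eq_of_mul_eq_one_right h4]

/-- A pair with a member commuting with `A` and not with `B` is special. -/
theorem special_of_kind (hS : IsRootSubgroupSet S) (hdeg : IsDegenerateRootSet S) (hA : A ∈ S) (hB : B ∈ S)
    (hC : C ∈ S) (hp : IsRankOnePair A B) (hpC : IsRankOnePair C B) (hne : C ≠ A) (hCA : ⁅A, C⁆ = ⊥) :
    IsSpecialRankOnePair A B := by
  refine ⟨hp, fun a ha ha1 b hb hb1 e => ?_⟩
  have h2 := match_inv hS hdeg hA hB hC hp hpC hne hCA ha ha1 (inv_mem hb) (inv_ne_one.mpr hb1) e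
  rw [inv_inv] at h2
  set x := b⁻¹ * a * b with hx
  set y := a⁻¹ * b⁻¹ * a with hy
  have hxU : x ∈ conjBy A b⁻¹ := mem_conjBy.mpr (by simpa [hx, mul_assoc] using ha)
  have hyU : y ∈ conjBy A b⁻¹ := by rw [e, mem_conjBy]; simpa [hy, mul_assoc] using hb
  have h3 : conjBy (conjBy A b) a⁻¹ = B := conjBy_inv_eq h2.symm
  have hxB : conjBy A x⁻¹ = B := by
    rw [show x⁻¹ = b⁻¹ * (a⁻¹ * b) by rw [hx]; group, ← conjBy_conjBy, ← conjBy_conjBy A b a⁻¹, h3]
    exact conjBy_eq_self_of_mem (inv_mem hb)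
  have hyB : conjBy A y⁻¹ = B := by
    rw [show y⁻¹ = a⁻¹ * b * a by rw [hy]; group, ← conjBy_conjBy A a (a⁻¹ * b), conjBy_eq_self_of_mem ha,
      ← conjBy_conjBy, h3]
  have hUB : conjBy A b⁻¹ ≠ B := fun h => hp.ne (by
    have h' := conjBy_inv_eq h
    rw [inv_inv, conjBy_eq_self_of_mem hb] at h'
    exact h'.symm)
  have hpU := pair_of_mem hp (conj_mem_unip (inv_mem ((le_sup_right : B ≤ A ⊔ B) hb)) (mem_unip_left A B))
    (mem_unip_right hp) hUB
  have hz : conjBy B (y⁻¹ * x) = B := by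
    nth_rewrite 1 [← hxB]
    rw [conjBy_conjBy, mul_inv_cancel_right]
    exact hyB
  exact (inv_mul_eq_one.mp (eq_one_of_normalizes hpU (mul_mem (inv_mem hyU) hxU) hz)).symm

theorem mem_cp {X : Subgroup G} : X ∈ commutingPartners S A ↔ X ∈ S ∧ X ≠ A ∧ ⁅A, X⁆ = ⊥ := Iff.rfl

theorem cp_comm_of_twin (h : commutingPartners S A = commutingPartners S B) {X : Subgroup G}
    (hX : X ∈ commutingPartners S A) : ⁅B, X⁆ = ⊥ := (h ▸ hX).2.2

/-- The relation of being twins is invariant under conjugation. -/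
theorem cp_conj (hS : IsRootSubgroupSet S) (h : commutingPartners S A = commutingPartners S B) (g : G) :
    commutingPartners S (conjBy A g) = commutingPartners S (conjBy B g) := by
  have key : ∀ {A B : Subgroup G}, commutingPartners S A = commutingPartners S B →
      commutingPartners S (conjBy A g) ⊆ commutingPartners S (conjBy B g) := by
    rintro A B h X ⟨hX, hne, hc⟩
    have h1 : conjBy X g⁻¹ ∈ commutingPartners S A := by
      refine ⟨hS.conj_mem X hX _, fun e => hne ?_, ?_⟩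
      · rw [← e, conjBy_conjBy, mul_inv_cancel, conjBy_one]
      · have := comm_conj g⁻¹ hc
        rwa [conjBy_conjBy, inv_mul_cancel, conjBy_one] at this
    rw [h] at h1
    refine ⟨hX, fun e => h1.2.1 (by rw [e, conjBy_conjBy, inv_mul_cancel, conjBy_one]), ?_⟩
    have := comm_conj g h1.2.2
    rwa [conjBy_conjBy X, mul_inv_cancel, conjBy_one] at this
  exact (key h).antisymm (key h.symm)

theorem pair_of_twin (hS : IsRootSubgroupSet S) (hdeg : IsDegenerateRootSet S) (hA : A ∈ S) (hB : B ∈ S)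
    (hne : B ≠ A) (h : commutingPartners S A = commutingPartners S B) : IsRankOnePair A B :=
  (dich hS hdeg hA hB).resolve_left fun hc => by
    have hm : B ∈ commutingPartners S A := ⟨hB, hne, hc⟩
    exact (h ▸ hm).2.1 rfl

/-- A rank one pair which is not a twin pair has a member commuting with exactly one side. -/
theorem exists_kind (hS : IsRootSubgroupSet S) (hdeg : IsDegenerateRootSet S) (hA : A ∈ S) (hB : B ∈ S)
    (hp : IsRankOnePair A B) (h : commutingPartners S A ≠ commutingPartners S B) :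
    ∃ C ∈ S, (C ≠ A ∧ ⁅A, C⁆ = ⊥ ∧ IsRankOnePair C B) ∨ (C ≠ B ∧ ⁅B, C⁆ = ⊥ ∧ IsRankOnePair C A) := by
  by_contra hh
  push Not at hh
  refine h (Set.ext fun C => ⟨fun hC => ?_, fun hC => ?_⟩)
  · obtain ⟨hCS, hne, hc⟩ := hC
    refine ⟨hCS, fun e => noncomm hp (e ▸ hc), ?_⟩
    exact comm_symm ((dich hS hdeg hCS hB).resolve_right ((hh C hCS).1 hne hc))
  · obtain ⟨hCS, hne, hc⟩ := hC
    refine ⟨hCS, fun e => noncomm hp (comm_symm (e ▸ hc)), ?_⟩
    exact comm_symm ((dich hS hdeg hCS hA).resolve_right ((hh C hCS).2 hne hc))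

/-- The image of `C` gives a member commuting with `B` and not with `A`. -/
theorem exists_image_member (hS : IsRootSubgroupSet S) (hdeg : IsDegenerateRootSet S) (hA : A ∈ S) (hB : B ∈ S)
    (hC : C ∈ S) (hp : IsRankOnePair A B) (hpC : IsRankOnePair C B) (hne : C ≠ A) (hCA : ⁅A, C⁆ = ⊥) {a : G}
    (ha : a ∈ A) (ha1 : a ≠ 1) :
    ∃ c ∈ C, conjBy B (a * c⁻¹) ∈ commutingPartners S B ∧ IsRankOnePair A (conjBy B (a * c⁻¹)) := by
  obtain ⟨d, hd, hd1, e⟩ := exists_match_left hp ha ha1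
  obtain ⟨c, hc, -, ec⟩ := exists_match_right hpC hd hd1
  refine ⟨c, hc, ⟨hS.conj_mem B hB _, fun h => ha1 ?_, image_comm hCA e ec⟩, ?_⟩
  · exact eq_one_of_prod hS hdeg hA hB hC hp hne hCA ha (inv_mem hc) h
  · have h1 := pair_conjBy (pair_conjBy hp c⁻¹) a
    rwa [fix_of_comm (comm_symm hCA) (inv_mem hc), conjBy_eq_self_of_mem ha, conjBy_conjBy] at h1

/-- Both kinds of members occur for a rank one pair which is not a twin pair. -/
theorem exists_kind_left (hS : IsRootSubgroupSet S) (hdeg : IsDegenerateRootSet S) (hA : A ∈ S) (hB : B ∈ S)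
    (hp : IsRankOnePair A B) (h : commutingPartners S A ≠ commutingPartners S B) :
    ∃ C ∈ S, C ≠ A ∧ ⁅A, C⁆ = ⊥ ∧ IsRankOnePair C B := by
  obtain ⟨C, hC, hk | ⟨hne, hc, hpC⟩⟩ := exists_kind hS hdeg hA hB hp h
  · exact ⟨C, hC, hk⟩
  obtain ⟨b, hb, hb1⟩ := (Subgroup.bot_or_exists_ne_one B).resolve_left (hS.ne_bot B hB)
  obtain ⟨c, -, ⟨hX, hXne, hXc⟩, hpX⟩ :=
    exists_image_member hS hdeg hB hA hC (RankOnePair_symm hp) hpC hne hc hb hb1
  exact ⟨_, hX, hXne, hXc, RankOnePair_symm hpX⟩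

theorem special_of_not_twin (hS : IsRootSubgroupSet S) (hdeg : IsDegenerateRootSet S) (hA : A ∈ S) (hB : B ∈ S)
    (hp : IsRankOnePair A B) (h : commutingPartners S A ≠ commutingPartners S B) : IsSpecialRankOnePair A B := by
  obtain ⟨C, hC, hne, hc, hpC⟩ := exists_kind_left hS hdeg hA hB hp h
  exact special_of_kind hS hdeg hA hB hC hp hpC hne hc

/-- Different unipotent subgroups are never twins. -/
theorem blk_inj (hS : IsRootSubgroupSet S) (hp : IsRankOnePair A B)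
    (h : commutingPartners S A ≠ commutingPartners S B) {E F : Subgroup G} (hE : E ∈ unipotentSubgroups A B)
    (hF : F ∈ unipotentSubgroups A B) (he : commutingPartners S E = commutingPartners S F) : E = F := by
  by_contra hne
  obtain ⟨x, -, rfl, rfl⟩ := exists_map_pair hp hE hF hne
  refine h ?_
  have := cp_conj hS he x⁻¹
  rwa [conjBy_conjBy, conjBy_conjBy, inv_mul_cancel, conjBy_one, conjBy_one] at this

/-- Some rank one partner of `A` is not its twin. -/
theorem exists_not_twin (hS : IsRootSubgroupClass S) (hdeg : IsDegenerateRootSet S)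
    (hcomm : ∃ A ∈ S, ∃ C ∈ S, A ≠ C ∧ ⁅A, C⁆ = ⊥) (hA : A ∈ S) :
    ∃ D ∈ S, IsRankOnePair A D ∧ commutingPartners S A ≠ commutingPartners S D := by
  by_contra hh
  push Not at hh
  have hall : ∀ X ∈ S, ∀ Y ∈ S, IsRankOnePair X Y → commutingPartners S X = commutingPartners S Y := by
    intro X hX Y hY hp
    obtain ⟨g, hg⟩ := hS.2.2 X hX A hA
    have h1 := cp_conj hS.1 (hh (conjBy Y g) (hS.1.conj_mem Y hY g) (hg ▸ pair_conjBy hp g)) g⁻¹
    rwa [hg, conjBy_conjBy, conjBy_conjBy, inv_mul_cancel, conjBy_one, conjBy_one] at h1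
  let Fix : Subgroup G :=
    { carrier := {g | ∀ X ∈ S, commutingPartners S (conjBy X g) = commutingPartners S X}
      one_mem' := fun X _ => by rw [conjBy_one]
      mul_mem' := fun {g k} hg hk X hX => by
        rw [← conjBy_conjBy, cp_conj hS.1 (hk X hX) g, hg X hX]
      inv_mem' := fun {g} hg X hX => by
        have := hg (conjBy X g⁻¹) (hS.1.conj_mem X hX _)
        rw [conjBy_conjBy, mul_inv_cancel, conjBy_one] at this
        exact this.symm }
  have htop : Fix = ⊤ := by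
    rw [eq_top_iff, ← hS.1.generates]
    refine iSup₂_le fun E hE e he X hX => ?_
    rcases dich hS.1 hdeg hX hE with hc | hp
    · rw [fix_of_comm (comm_symm hc) he]
    · by_cases hfix : conjBy X e = X
      · rw [hfix]
      exact (hall X hX _ (hS.1.conj_mem X hX e) (pair_of_mem hp (mem_unip_left X E)
        (conj_mem_unip ((le_sup_right : E ≤ X ⊔ E) he) (mem_unip_left X E)) (Ne.symm hfix))).symm
  obtain ⟨P, hP, Q, hQ, hne, hc⟩ := hcomm
  obtain ⟨g, hg⟩ := hS.2.2 P hP Q hQ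
  have hg' : g ∈ Fix := htop ▸ Subgroup.mem_top g
  have h1 : commutingPartners S Q = commutingPartners S P := by rw [hg]; exact hg' P hP
  have h2 : Q ∈ commutingPartners S P := ⟨hQ, hne.symm, hc⟩
  rw [← h1] at h2
  exact h2.2.1 rfl

end Cfsg.Agent.Lib.RankOne.Twin
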