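import Cfsg.Agent.Lib.RankOne.TwinKernel

/-!
# The groups `T E` are abelian modulo their intersection

Also: conjugation on a section with abelian quotient as a representation in a ring of endomorphisms.
-/

set_option autoImplicit false

namespace Cfsg.Agent.Lib.RankOne.Twin

open Cfsg

universe u

variable {G : Type u} [Group G] {S : Set (Subgroup G)} {A B D E : Subgroup G}

/-- A twin of `A` is a conjugate of `A` under some `T F`, `F ≠ A`. -/
theorem Frame.exists_tau (F : Frame S A D) (hB : B ∈ S) (h : commutingPartners S A = commutingPartners S B) :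
    ∃ P ∈ unipotentSubgroups A D, P ≠ A ∧ ∃ τ ∈ T F.set A D P, conjBy A τ = B := by
  obtain ⟨d, hd, hd1⟩ := (Subgroup.bot_or_exists_ne_one D).resolve_left (F.set.ne_bot D F.hD)
  obtain ⟨a0, ha0, -, e0⟩ := exists_match_right F.pair hd hd1
  obtain ⟨b0, hb0, -, e1⟩ := exists_match_right (F.twin hB h).pair hd hd1
  obtain ⟨a, ha, hk, he⟩ := F.factor hB h (inv_mem hb0)
  rw [← e1, ← cp_conj F.set h d, e0] at he
  have hae := F.point_eq ha (inv_mem ha0) he
  rw [hae, inv_inv] at hk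
  have ht : b0⁻¹ * a0 ∈ T F.set A D A :=
    Subgroup.mem_inf.mpr ⟨mul_mem (le_W hB h.symm (inv_mem hb0)) (le_W F.hA rfl ha0), hk⟩
  have hdY : d⁻¹ ∈ A ⊔ D := inv_mem ((le_sup_right : D ≤ A ⊔ D) hd)
  refine ⟨conjBy A d⁻¹, conj_mem_unip hdY (mem_unip_left A D), fun e => hd1 ?_, _, F.T_conj hdY ht, ?_⟩
  · exact inv_eq_one.mp (eq_one_of_normalizes (RankOnePair_symm F.pair) (inv_mem hd) e)
  · rw [inv_inv, ← conjBy_conjBy A d, e0, ← conjBy_conjBy (conjBy D a0⁻¹) (b0⁻¹ * a0) d⁻¹,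
      conjBy_conjBy D a0⁻¹, mul_inv_cancel_right, ← e1, conjBy_conjBy, inv_mul_cancel, conjBy_one]

/-- Induction principle for `T A`. -/
theorem Frame.T_induct (F : Frame S A D) (L : Subgroup G) (hLA : ∀ a ∈ A, ∀ l ∈ L, a * l * a⁻¹ ∈ L)
    (hLK : L ≤ ker F.set A D)
    (hgen : ∀ P ∈ unipotentSubgroups A D, P ≠ A → ∀ τ ∈ T F.set A D P, ∀ a ∈ A,
      τ * (a * τ⁻¹ * a⁻¹) ∈ L) :
    T F.set A D A ≤ L := by
  have hle : W S A ≤ cover A L hLA := W_le fun B hB h b hb => by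
    obtain ⟨P, hP, hPA, τ, hτ, e⟩ := F.exists_tau hB h.symm
    have ha : τ⁻¹ * b * τ ∈ A := mem_conjBy.mp (e ▸ hb)
    refine ⟨_, ha, ?_⟩
    have := hgen P hP hPA τ hτ _ ha
    simpa [mul_assoc] using this
  intro t ht
  obtain ⟨a, ha, hl⟩ := hle (Subgroup.mem_inf.mp ht).1
  have hak : a ∈ ker F.set A D := by
    have := mul_mem (inv_mem (hLK hl)) (Subgroup.mem_inf.mp ht).2
    simpa [mul_assoc] using this
  rw [F.ker_left ha hak, inv_one, mul_one] at hl
  exact hl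

theorem Frame.Z_ker (F : Frame S A D) {k z : G} (hk : k ∈ ker F.set A D) (hz : z ∈ Z F.set A D) :
    k * z * k⁻¹ ∈ Z F.set A D :=
  ⟨F.ker_T hk (mem_unip_left A D) hz.1, F.ker_T hk (mem_unip_right F.pair) hz.2⟩

/-- The elements of `K` centralizing `X` modulo `Z`. -/
def Frame.centMod (F : Frame S A D) (X : Subgroup G) (hX : ∀ k ∈ ker F.set A D, ∀ t ∈ X, k * t * k⁻¹ ∈ X) :
    Subgroup G where
  carrier := {g | g ∈ ker F.set A D ∧ ∀ t ∈ X, g * t * g⁻¹ * t⁻¹ ∈ Z F.set A D}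
  one_mem' := ⟨one_mem _, fun t _ => by simp⟩
  mul_mem' := fun {g k} hg hk => ⟨mul_mem hg.1 hk.1, fun t ht => by
    have := mul_mem (F.Z_ker hg.1 (hk.2 t ht)) (hg.2 t ht)
    simpa [mul_assoc] using this⟩
  inv_mem' := fun {g} hg => ⟨inv_mem hg.1, fun t ht => by
    have := F.Z_ker (inv_mem hg.1) (inv_mem (hg.2 t ht))
    simpa [mul_assoc] using this⟩

/-- The join of all `T E`. -/
def M (hS : IsRootSubgroupSet S) (A D : Subgroup G) : Subgroup G :=
  ⨆ E ∈ unipotentSubgroups A D, T hS A D E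

theorem Frame.T_le_M (F : Frame S A D) (hE : E ∈ unipotentSubgroups A D) : T F.set A D E ≤ M F.set A D :=
  le_iSup₂ (f := fun E (_ : E ∈ unipotentSubgroups A D) => T F.set A D E) E hE

theorem Frame.M_le_ker (F : Frame S A D) : M F.set A D ≤ ker F.set A D :=
  iSup₂_le fun _ _ => inf_le_right

theorem Frame.M_conj (F : Frame S A D) {y m : G} (hy : y ∈ A ⊔ D) (hm : m ∈ M F.set A D) :
    y * m * y⁻¹ ∈ M F.set A D := by
  have hle : M F.set A D ≤ (M F.set A D).comap (MulAut.conj y).toMonoidHom :=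
    iSup₂_le fun E hE t ht => F.T_le_M (conj_mem_unip hy hE) (F.T_conj hy ht)
  exact hle hm

theorem Frame.M_ker (F : Frame S A D) {k m : G} (hk : k ∈ ker F.set A D) (hm : m ∈ M F.set A D) :
    k * m * k⁻¹ ∈ M F.set A D := by
  have hle : M F.set A D ≤ (M F.set A D).comap (MulAut.conj k).toMonoidHom :=
    iSup₂_le fun E hE t ht => F.T_le_M hE (F.ker_T hk hE ht)
  exact hle hm

variable (hsq : ∀ E ∈ S, ∃ e ∈ E, e * e ≠ 1)

include hsq

theorem Frame.Z_cent_M (F : Frame S A D) {z m : G} (hz : z ∈ Z F.set A D) (hm : m ∈ M F.set A D) :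
    z * m = m * z := by
  have hle : M F.set A D ≤ Subgroup.centralizer {z} := iSup₂_le fun E hE t ht =>
    Subgroup.mem_centralizer_singleton_iff.mpr (F.Z_cent_W hsq hz hE (Subgroup.mem_inf.mp ht).1).symm
  exact (Subgroup.mem_centralizer_singleton_iff.mp (hle hm)).symm

theorem Frame.comm_ne (F : Frame S A D) {E' : Subgroup G} (hE : E ∈ unipotentSubgroups A D)
    (hE' : E' ∈ unipotentSubgroups A D) (hne : E ≠ E') {t s : G} (ht : t ∈ T F.set A D E)
    (hs : s ∈ T F.set A D E') : t * s * t⁻¹ * s⁻¹ ∈ Z F.set A D := by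
  refine F.inter hsq hE hE' hne ?_ ?_
  · rw [show t * s * t⁻¹ * s⁻¹ = t * (s * t⁻¹ * s⁻¹) by group]
    exact mul_mem ht (F.ker_T (Subgroup.mem_inf.mp hs).2 hE (inv_mem ht))
  · exact mul_mem (F.ker_T (Subgroup.mem_inf.mp ht).2 hE' hs) (inv_mem hs)

theorem Frame.comm_self (F : Frame S A D) {t s : G} (ht : t ∈ T F.set A D A) (hs : s ∈ T F.set A D A) :
    t * s * t⁻¹ * s⁻¹ ∈ Z F.set A D := by
  have hX : ∀ k ∈ ker F.set A D, ∀ t ∈ T F.set A D A, k * t * k⁻¹ ∈ T F.set A D A :=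
    fun k hk t ht => F.ker_T hk (mem_unip_left A D) ht
  refine (F.T_induct (F.centMod _ hX) ?_ (fun g hg => hg.1) ?_ ht).2 s hs
  · intro a ha g hg
    refine ⟨F.ker_conj ((le_sup_left : A ≤ A ⊔ D) ha) hg.1, fun t ht => ?_⟩
    have haY : a ∈ A ⊔ D := (le_sup_left : A ≤ A ⊔ D) ha
    have h1 := F.T_conj (inv_mem haY) ht
    rw [conjBy_eq_self_of_mem (inv_mem ha), inv_inv] at h1
    have h2 := hg.2 _ h1
    have h3 : a * (g * (a⁻¹ * t * a) * g⁻¹ * (a⁻¹ * t * a)⁻¹) * a⁻¹ = a * g * a⁻¹ * t * (a * g * a⁻¹)⁻¹ * t⁻¹ := by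
      group
    rw [← h3, ← F.Z_cent hsq h2 haY, mul_inv_cancel_right]
    exact h2
  · intro P hP hPA τ hτ a ha
    have haY : a ∈ A ⊔ D := (le_sup_left : A ≤ A ⊔ D) ha
    have hcomm : ∀ {Q : Subgroup G}, Q ∈ unipotentSubgroups A D → Q ≠ A → ∀ g ∈ T F.set A D Q,
        g ∈ F.centMod _ hX := fun {Q} hQ hQA g hg =>
      ⟨(Subgroup.mem_inf.mp hg).2, fun t ht => F.comm_ne hsq hQ (mem_unip_left A D) hQA hg ht⟩
    refine mul_mem (hcomm hP hPA τ hτ) (hcomm (conj_mem_unip haY hP) (fun e => hPA ?_) _ (F.T_conj haY (inv_mem hτ)))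
    exact conjBy_inj (e.trans (conjBy_eq_self_of_mem ha).symm)

theorem Frame.comm_T (F : Frame S A D) {E' : Subgroup G} (hE : E ∈ unipotentSubgroups A D)
    (hE' : E' ∈ unipotentSubgroups A D) {t s : G} (ht : t ∈ T F.set A D E) (hs : s ∈ T F.set A D E') :
    t * s * t⁻¹ * s⁻¹ ∈ Z F.set A D := by
  by_cases hne : E = E'
  · subst hne
    obtain ⟨y, hy, rfl⟩ := hE
    have h1 := F.T_conj (inv_mem hy) ht
    have h2 := F.T_conj (inv_mem hy) hs
    rw [conjBy_conjBy, inv_mul_cancel, conjBy_one, inv_inv] at h1 h2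
    have h3 := F.comm_self hsq h1 h2
    have h4 : y * (y⁻¹ * t * y * (y⁻¹ * s * y) * (y⁻¹ * t * y)⁻¹ * (y⁻¹ * s * y)⁻¹) * y⁻¹ = t * s * t⁻¹ * s⁻¹ := by
      group
    rw [← h4, ← F.Z_cent hsq h3 hy, mul_inv_cancel_right]
    exact h3
  · exact F.comm_ne hsq hE hE' hne ht hs

theorem Frame.comm_M (F : Frame S A D) {g h : G} (hg : g ∈ M F.set A D) (hh : h ∈ M F.set A D) :
    g * h * g⁻¹ * h⁻¹ ∈ Z F.set A D := by
  have hM : M F.set A D ≤ F.centMod (M F.set A D) (fun k hk m hm => F.M_ker hk hm) := by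
    refine iSup₂_le fun E hE t ht => ⟨(Subgroup.mem_inf.mp ht).2, fun m hm => ?_⟩
    have hle : M F.set A D ≤ F.centMod (T F.set A D E) (fun k hk m hm => F.ker_T hk hE hm) :=
      iSup₂_le fun E' hE' s hs => ⟨(Subgroup.mem_inf.mp hs).2, fun r hr => F.comm_T hsq hE' hE hs hr⟩
    have := inv_mem ((hle hm).2 t ht)
    simpa [mul_assoc] using this
  exact (hM hg).2 h hh

omit hsq

/-- Conjugation of a subgroup `Y` on a section `M / Z` with abelian quotient. -/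
theorem exists_module (Y M Z : Subgroup G) (hYM : ∀ y ∈ Y, ∀ m ∈ M, y * m * y⁻¹ ∈ M)
    (hYZ : ∀ y ∈ Y, ∀ z ∈ Z, z * y = y * z) (hMZ : ∀ m ∈ M, ∀ z ∈ Z, z * m = m * z)
    (hcomm : ∀ m ∈ M, ∀ n ∈ M, m * n * m⁻¹ * n⁻¹ ∈ Z) :
    ∃ (V : Type u) (_ : AddCommGroup V) (π : G → V) (ρ : G → AddMonoid.End V),
      (∀ m ∈ M, ∀ n ∈ M, π (m * n) = π m + π n) ∧ (∀ m ∈ M, (π m = 0 ↔ m ∈ Z)) ∧
      (∀ v, ∃ m ∈ M, π m = v) ∧ ∀ y ∈ Y, ∀ m ∈ M, π (y * m * y⁻¹) = ρ y (π m) := by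
  classical
  haveI hN : (Z.subgroupOf M).Normal := ⟨fun z hz g => by
    rw [Subgroup.mem_subgroupOf] at hz ⊢
    show (g : G) * z * (g : G)⁻¹ ∈ Z
    rwa [← hMZ g g.2 z hz, mul_inv_cancel_right]⟩
  letI : CommGroup (M ⧸ Z.subgroupOf M) :=
    { (inferInstance : Group (M ⧸ Z.subgroupOf M)) with
      mul_comm := fun a b => by
        induction a using QuotientGroup.induction_on with
        | H m =>
          induction b using QuotientGroup.induction_on with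
          | H n =>
            rw [← QuotientGroup.mk_mul, ← QuotientGroup.mk_mul, QuotientGroup.eq, Subgroup.mem_subgroupOf]
            have := hcomm (n : G)⁻¹ (inv_mem n.2) (m : G)⁻¹ (inv_mem m.2)
            simpa [mul_assoc] using this }
  let φ : ∀ y ∈ Y, M →* M := fun y hy =>
    { toFun := fun m => ⟨y * m * y⁻¹, hYM y hy m m.2⟩
      map_one' := Subtype.ext (by simp)
      map_mul' := fun m n => Subtype.ext (by simp [mul_assoc]) }
  have hφ : ∀ y (hy : y ∈ Y), Z.subgroupOf M ≤ (Z.subgroupOf M).comap (φ y hy) := fun y hy z hz => by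
    rw [Subgroup.mem_subgroupOf] at hz
    rw [Subgroup.mem_comap, Subgroup.mem_subgroupOf]
    show y * (z : G) * y⁻¹ ∈ Z
    rwa [← hYZ y hy z hz, mul_inv_cancel_right]
  refine ⟨Additive (M ⧸ Z.subgroupOf M), inferInstance,
    fun g => if hg : g ∈ M then Additive.ofMul (QuotientGroup.mk ⟨g, hg⟩) else 0,
    fun y => if hy : y ∈ Y then MonoidHom.toAdditive (QuotientGroup.map _ _ (φ y hy) (hφ y hy)) else 0,
    ?_, ?_, ?_, ?_⟩
  · intro m hm n hn
    simp only [dif_pos hm, dif_pos hn, dif_pos (mul_mem hm hn)]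
    rfl
  · intro m hm
    simp only [dif_pos hm]
    exact (QuotientGroup.eq_one_iff (N := Z.subgroupOf M) ⟨m, hm⟩).trans Subgroup.mem_subgroupOf
  · intro v
    obtain ⟨m, hm⟩ := QuotientGroup.mk_surjective (Additive.toMul v)
    refine ⟨m, m.2, ?_⟩
    simp only [dif_pos m.2]
    exact congrArg Additive.ofMul hm
  · intro y hy m hm
    simp only [dif_pos hm, dif_pos (hYM y hy m hm)]
    erw [dif_pos hy]
    rfl

end Cfsg.Agent.Lib.RankOne.Twin
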