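import Cfsg.Agent.Lib.RankOne.Transvection

/-!
# The kernel of the action on the twin classes of a rank one group

`K` is the group of elements fixing the twin class of every unipotent subgroup of a rank one pair `(A, D)` which
is not a twin pair, `W E` the join of the twins of `E` and `T E = W E ⊓ K`.
-/

set_option autoImplicit false

namespace Cfsg.Agent.Lib.RankOne.Twin

open Cfsg

variable {G : Type*} [Group G] {S : Set (Subgroup G)} {A B C D E : Subgroup G}

/-- A rank one pair in a degenerate set, whose members are not twins. -/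
structure Frame (S : Set (Subgroup G)) (A D : Subgroup G) : Prop where
  set : IsRootSubgroupSet S
  deg : IsDegenerateRootSet S
  hA : A ∈ S
  hD : D ∈ S
  pair : IsRankOnePair A D
  nt : commutingPartners S A ≠ commutingPartners S D

theorem Frame.swap (F : Frame S A D) : Frame S D A :=
  ⟨F.set, F.deg, F.hD, F.hA, RankOnePair_symm F.pair, F.nt.symm⟩

theorem Frame.twin (F : Frame S A D) (hB : B ∈ S) (h : commutingPartners S A = commutingPartners S B) :
    Frame S B D := by
  refine ⟨F.set, F.deg, hB, F.hD, (dich F.set F.deg hB F.hD).resolve_left fun hc => ?_, h ▸ F.nt⟩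
  by_cases hDB : D = B
  · exact F.nt (by rw [hDB]; exact h)
  · have hm : D ∈ commutingPartners S B := ⟨F.hD, hDB, hc⟩
    rw [← h] at hm
    exact noncomm F.pair hm.2.2

theorem Frame.partner (F : Frame S A D) {X : Subgroup G} (hX : X ∈ commutingPartners S D)
    (hp : IsRankOnePair A X) : Frame S A X := by
  refine ⟨F.set, F.deg, F.hA, hX.1, hp, fun h => noncomm F.pair ?_⟩
  have hm : D ∈ commutingPartners S X := ⟨F.hD, hX.2.1.symm, comm_symm hX.2.2⟩
  exact (h ▸ hm).2.2

theorem Frame.mem_set (F : Frame S A D) {E : Subgroup G} (hE : E ∈ unipotentSubgroups A D) : E ∈ S :=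
  unip_mem_set F.set F.hA hE

theorem Frame.blk (F : Frame S A D) {E E' : Subgroup G} (hE : E ∈ unipotentSubgroups A D)
    (hE' : E' ∈ unipotentSubgroups A D) (h : commutingPartners S E = commutingPartners S E') : E = E' :=
  blk_inj F.set F.pair F.nt hE hE' h

theorem Frame.point (F : Frame S A D) {a : G} (ha : a ∈ A) : conjBy D a ∈ unipotentSubgroups A D :=
  (mem_unip_iff F.pair).mpr (Or.inr ⟨a, ha, rfl⟩)

theorem Frame.point_eq (F : Frame S A D) {a a' : G} (ha : a ∈ A) (ha' : a' ∈ A)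
    (h : commutingPartners S (conjBy D a) = commutingPartners S (conjBy D a')) : a = a' := by
  have h1 := conjBy_eq_iff.mp (F.blk (F.point ha) (F.point ha') h)
  exact (inv_mul_eq_one.mp (eq_one_of_normalizes F.pair (mul_mem (inv_mem ha') ha) h1)).symm

theorem commute_sup {U V : Subgroup G} (h1 : ⁅E, U⁆ = ⊥) (h2 : ⁅E, V⁆ = ⊥) : ⁅E, U ⊔ V⁆ = ⊥ := by
  rw [Subgroup.commutator_comm, Subgroup.commutator_eq_bot_iff_le_centralizer]
  exact sup_le (Subgroup.commutator_eq_bot_iff_le_centralizer.mp (comm_symm h1))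
    (Subgroup.commutator_eq_bot_iff_le_centralizer.mp (comm_symm h2))

theorem sup_unip (hp : IsRankOnePair A B) {U V : Subgroup G} (hU : U ∈ unipotentSubgroups A B)
    (hV : V ∈ unipotentSubgroups A B) (hne : U ≠ V) : U ⊔ V = A ⊔ B := by
  obtain ⟨x, hx, e1, e2⟩ := exists_map_pair hp hU hV hne
  rw [← e1, ← e2, ← conjBy_sup]
  exact conjBy_eq_self_of_mem hx

/-- Twins of `A` act on the twin class of `D` like elements of `A`. -/
theorem Frame.compat_exists (F : Frame S A D) (hB : B ∈ S) (h : commutingPartners S A = commutingPartners S B)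
    {b : G} (hb : b ∈ B) :
    ∃ a ∈ A, commutingPartners S (conjBy D a) = commutingPartners S (conjBy D b) := by
  by_cases hb1 : b = 1
  · exact ⟨1, one_mem A, by rw [hb1]⟩
  obtain ⟨d, hd, hd1, e⟩ := exists_match_left (F.twin hB h).pair (inv_mem hb) (inv_ne_one.mpr hb1)
  obtain ⟨a, ha, -, e'⟩ := exists_match_right F.pair hd hd1
  rw [inv_inv] at e
  exact ⟨a⁻¹, inv_mem ha, by rw [← e', ← e]; exact cp_conj F.set h d⟩

theorem Frame.compat_partner (F : Frame S A D) (hB : B ∈ S) (h : commutingPartners S A = commutingPartners S B)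
    {a b : G} (hb : b ∈ B) (ha : a ∈ A)
    (he : commutingPartners S (conjBy D a) = commutingPartners S (conjBy D b))
    {X : Subgroup G} (hX : X ∈ commutingPartners S D) (hp : IsRankOnePair A X) :
    commutingPartners S (conjBy X a) = commutingPartners S (conjBy X b) := by
  have F' := F.partner hX hp
  obtain ⟨a1, ha1, he1⟩ := F'.compat_exists hB h hb
  suffices ha' : a⁻¹ * a1 = 1 by rw [inv_mul_eq_one.mp ha']; exact he1
  by_contra hne
  have hm : conjBy X b ∈ commutingPartners S (conjBy D b) :=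
    ⟨F.set.conj_mem X hX.1 b, fun e => hX.2.1 (conjBy_inj e), comm_conj b hX.2.2⟩
  rw [← he] at hm
  have hm' : conjBy D a ∈ commutingPartners S (conjBy X b) :=
    ⟨F.set.conj_mem D F.hD a, hm.2.1.symm, comm_symm hm.2.2⟩
  rw [← he1] at hm'
  have h1 := comm_conj a⁻¹ (comm_symm hm'.2.2)
  rw [conjBy_conjBy, conjBy_conjBy, inv_mul_cancel, conjBy_one] at h1
  have hne2 : X ≠ conjBy X (a⁻¹ * a1) := fun e =>
    hne (eq_one_of_normalizes hp (mul_mem (inv_mem ha) ha1) e.symm)
  have h2 := commute_sup hX.2.2 h1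
  rw [sup_unip hp (mem_unip_right hp) (F'.point (mul_mem (inv_mem ha) ha1)) hne2] at h2
  refine noncomm F.pair (comm_symm (commutator_eq_bot_iff.mpr fun x hx y hy => ?_))
  exact commutator_eq_bot_iff.mp h2 x hx y ((le_sup_left : A ≤ A ⊔ X) hy)

/-- A point of the rank one group, seen from a commuting partner of `D`. -/
theorem Frame.decomp (F : Frame S A D) {a : G} (ha : a ∈ A) (ha1 : a ≠ 1) :
    ∃ C ∈ commutingPartners S A, ∃ c ∈ C, conjBy D (a * c⁻¹) ∈ commutingPartners S D ∧
      IsRankOnePair A (conjBy D (a * c⁻¹)) := by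
  obtain ⟨C, hC, hne, hc, hpC⟩ := exists_kind_left F.set F.deg F.hA F.hD F.pair F.nt
  exact ⟨C, ⟨hC, hne, hc⟩, exists_image_member F.set F.deg F.hA F.hD hC F.pair hpC hne hc ha ha1⟩

theorem Frame.compat_all (F : Frame S A D) (hB : B ∈ S) (h : commutingPartners S A = commutingPartners S B)
    {a b : G} (hb : b ∈ B) (ha : a ∈ A)
    (he : commutingPartners S (conjBy D a) = commutingPartners S (conjBy D b)) {a1 : G} (ha1 : a1 ∈ A) :
    commutingPartners S (conjBy D (a * a1)) = commutingPartners S (conjBy D (b * a1)) := by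
  by_cases h1 : a1 = 1
  · rwa [h1, mul_one, mul_one]
  obtain ⟨C, hC, c, hc, hX, hp⟩ := F.decomp ha1 h1
  have h2 := cp_conj F.set (F.compat_partner hB h hb ha he hX hp) c
  have hca : ∀ x ∈ A, x * c = c * x := fun x hx => commutator_eq_bot_iff.mp hC.2.2 x hx c hc
  have hcb : b * c = c * b := commutator_eq_bot_iff.mp (cp_comm_of_twin h hC) b hb c hc
  simp only [conjBy_conjBy] at h2
  rwa [show c * (a * (a1 * c⁻¹)) = a * a1 by
      rw [← mul_assoc, ← hca a ha, mul_assoc, ← mul_assoc c, ← hca a1 ha1, mul_inv_cancel_right],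
    show c * (b * (a1 * c⁻¹)) = b * a1 by
      rw [← mul_assoc, ← hcb, mul_assoc, ← mul_assoc c, ← hca a1 ha1, mul_inv_cancel_right]] at h2

/-- The elements fixing the twin class of every unipotent subgroup. -/
def ker (hS : IsRootSubgroupSet S) (A D : Subgroup G) : Subgroup G where
  carrier := {g | ∀ E ∈ unipotentSubgroups A D, commutingPartners S (conjBy E g) = commutingPartners S E}
  one_mem' := fun E _ => by rw [conjBy_one]
  mul_mem' := fun {g k} hg hk E hE => by rw [← conjBy_conjBy, cp_conj hS (hk E hE) g, hg E hE]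
  inv_mem' := fun {g} hg E hE => by
    have := cp_conj hS (hg E hE) g⁻¹
    rwa [conjBy_conjBy, inv_mul_cancel, conjBy_one, eq_comm] at this

theorem mem_ker {hS : IsRootSubgroupSet S} {g : G} : g ∈ ker hS A D ↔
    ∀ E ∈ unipotentSubgroups A D, commutingPartners S (conjBy E g) = commutingPartners S E := Iff.rfl

/-- The join of the twins of `E`. -/
def W (S : Set (Subgroup G)) (E : Subgroup G) : Subgroup G :=
  ⨆ B ∈ {B | B ∈ S ∧ commutingPartners S B = commutingPartners S E}, B

theorem le_W (hB : B ∈ S) (h : commutingPartners S B = commutingPartners S E) : B ≤ W S E :=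
  le_iSup₂ (f := fun X (_ : X ∈ {B | B ∈ S ∧ commutingPartners S B = commutingPartners S E}) => X) B ⟨hB, h⟩

theorem W_le {H : Subgroup G} (h : ∀ B ∈ S, commutingPartners S B = commutingPartners S E → B ≤ H) :
    W S E ≤ H := iSup₂_le fun B hB => h B hB.1 hB.2

theorem W_congr {E' : Subgroup G} (h : commutingPartners S E = commutingPartners S E') : W S E = W S E' := by
  unfold W
  rw [h]

theorem W_conj (hS : IsRootSubgroupSet S) {x : G} (hx : x ∈ W S E) (g : G) :
    g * x * g⁻¹ ∈ W S (conjBy E g) := by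
  have hle : W S E ≤ (W S (conjBy E g)).comap (MulAut.conj g).toMonoidHom := W_le fun B hB h b hb => by
    exact le_W (hS.conj_mem B hB g) (cp_conj hS h g) (conj_mem_conjBy hb)
  exact hle hx

theorem W_comm {X : Subgroup G} (hX : X ∈ commutingPartners S E) {x : G} (hx : x ∈ W S E) {c : G}
    (hc : c ∈ X) : x * c = c * x :=
  ((W_le fun _ _ h => Subgroup.commutator_eq_bot_iff_le_centralizer.mp (cp_comm_of_twin h.symm hX)) hx c hc).symm

/-- `T E = W E ⊓ K`. -/
def T (hS : IsRootSubgroupSet S) (A D E : Subgroup G) : Subgroup G := W S E ⊓ ker hS A D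

/-- The elements congruent to an element of `A` modulo a subgroup normalized by `A`. -/
def cover (A L : Subgroup G) (h : ∀ a ∈ A, ∀ l ∈ L, a * l * a⁻¹ ∈ L) : Subgroup G where
  carrier := {w | ∃ a ∈ A, w * a⁻¹ ∈ L}
  one_mem' := ⟨1, one_mem A, by simp⟩
  mul_mem' := by
    rintro x y ⟨a, ha, hx⟩ ⟨b, hb, hy⟩
    refine ⟨a * b, mul_mem ha hb, ?_⟩
    have := mul_mem hx (h a ha _ hy)
    simpa [mul_assoc] using this
  inv_mem' := by
    rintro x ⟨a, ha, hx⟩
    refine ⟨a⁻¹, inv_mem ha, ?_⟩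
    have := h a⁻¹ (inv_mem ha) _ (inv_mem hx)
    simpa [mul_assoc] using this

theorem Frame.ker_conj (F : Frame S A D) {y k : G} (hy : y ∈ A ⊔ D) (hk : k ∈ ker F.set A D) :
    y * k * y⁻¹ ∈ ker F.set A D := by
  intro E hE
  have := cp_conj F.set (hk _ (conj_mem_unip (inv_mem hy) hE)) y
  simpa [conjBy_conjBy, conjBy_one, mul_assoc] using this

theorem Frame.ker_left (F : Frame S A D) {a : G} (ha : a ∈ A) (hk : a ∈ ker F.set A D) : a = 1 := by
  refine F.point_eq ha (one_mem A) ?_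
  rw [conjBy_one]
  exact hk D (mem_unip_right F.pair)

theorem Frame.factor (F : Frame S A D) (hB : B ∈ S) (h : commutingPartners S A = commutingPartners S B)
    {b : G} (hb : b ∈ B) : ∃ a ∈ A, b * a⁻¹ ∈ ker F.set A D ∧
      commutingPartners S (conjBy D a) = commutingPartners S (conjBy D b) := by
  obtain ⟨a, ha, he⟩ := F.compat_exists hB h hb
  refine ⟨a, ha, fun E hE => ?_, he⟩
  rcases (mem_unip_iff F.pair).mp hE with rfl | ⟨x, hx, rfl⟩
  · rw [← conjBy_conjBy, conjBy_eq_self_of_mem (inv_mem ha), cp_conj F.set h b, conjBy_eq_self_of_mem hb]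
    exact h.symm
  · rw [conjBy_conjBy, mul_assoc b a⁻¹ x, ← F.compat_all hB h hb ha he (mul_mem (inv_mem ha) hx),
      mul_inv_cancel_left]

theorem Frame.split (F : Frame S A D) {w : G} (hw : w ∈ W S A) :
    ∃ a ∈ A, w * a⁻¹ ∈ T F.set A D A := by
  have hle : W S A ≤ cover A (ker F.set A D) (fun a ha k hk => F.ker_conj ((le_sup_left : A ≤ A ⊔ D) ha) hk) :=
    W_le fun B hB h b hb => (F.factor hB h.symm hb).imp fun a ha => ⟨ha.1, ha.2.1⟩
  obtain ⟨a, ha, hk⟩ := hle hw
  exact ⟨a, ha, Subgroup.mem_inf.mpr ⟨mul_mem hw (inv_mem (le_W F.hA rfl ha)), hk⟩⟩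

theorem Frame.T_conj (F : Frame S A D) {y t : G} (hy : y ∈ A ⊔ D) (ht : t ∈ T F.set A D E) :
    y * t * y⁻¹ ∈ T F.set A D (conjBy E y) :=
  Subgroup.mem_inf.mpr ⟨W_conj F.set (Subgroup.mem_inf.mp ht).1 y, F.ker_conj hy (Subgroup.mem_inf.mp ht).2⟩

theorem Frame.ker_T (F : Frame S A D) {k t : G} (hk : k ∈ ker F.set A D) (hE : E ∈ unipotentSubgroups A D)
    (ht : t ∈ T F.set A D E) : k * t * k⁻¹ ∈ T F.set A D E := by
  obtain ⟨htW, htK⟩ := Subgroup.mem_inf.mp ht
  refine Subgroup.mem_inf.mpr ⟨?_, mul_mem (mul_mem hk htK) (inv_mem hk)⟩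
  rw [← W_congr (hk E hE)]
  exact W_conj F.set htW k

/-- An element of both joins of twins centralizes the rank one group. -/
theorem Frame.cent_W (F : Frame S A D) (hsq : ∃ a ∈ A, a * a ≠ 1) {x : G} (hxA : x ∈ W S A)
    (hxD : x ∈ W S D) {y : G} (hy : y ∈ A ⊔ D) : x * y = y * x := by
  have hpt : ∀ a ∈ A, a ≠ 1 → conjBy D a ≤ Subgroup.centralizer {x} := by
    intro a ha ha1 z hz
    obtain ⟨C, hC, c, hc, hX, -⟩ := F.decomp ha ha1
    have hxc : x * c = c * x := W_comm hC hxA hc
    have hca : a * c = c * a := commutator_eq_bot_iff.mp hC.2.2 a ha c hc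
    have hz' : c⁻¹ * z * c ∈ conjBy D (a * c⁻¹) := by
      rw [← mem_conjBy, conjBy_conjBy, ← mul_assoc, ← hca, mul_inv_cancel_right]
      exact hz
    have hc' : c ∈ Subgroup.centralizer {x} := Subgroup.mem_centralizer_singleton_iff.mpr hxc.symm
    have := mul_mem (mul_mem hc' (Subgroup.mem_centralizer_singleton_iff.mpr (W_comm hX hxD hz').symm :
      c⁻¹ * z * c ∈ Subgroup.centralizer {x})) (inv_mem hc')
    simpa [mul_assoc] using this
  obtain ⟨a, ha, ha2⟩ := hsq
  have ha1 : a ≠ 1 := fun e => ha2 (by rw [e, one_mul])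
  have hne : conjBy D a ≠ conjBy D a⁻¹ := fun e => ha2 (by
    have h1 := F.point_eq ha (inv_mem ha) (by rw [e])
    exact mul_eq_one_iff_eq_inv.mpr h1)
  have hle : A ⊔ D ≤ Subgroup.centralizer {x} := by
    rw [← sup_unip F.pair (F.point ha) (F.point (inv_mem ha)) hne]
    exact sup_le (hpt a ha ha1) (hpt a⁻¹ (inv_mem ha) (inv_ne_one.mpr ha1))
  exact (Subgroup.mem_centralizer_singleton_iff.mp (hle hy)).symm

/-- The intersection of two of the groups `T E`. -/
def Z (hS : IsRootSubgroupSet S) (A D : Subgroup G) : Subgroup G := T hS A D A ⊓ T hS A D D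

variable (hsq : ∀ E ∈ S, ∃ e ∈ E, e * e ≠ 1)

include hsq

theorem Frame.Z_cent (F : Frame S A D) {z : G} (hz : z ∈ Z F.set A D) {y : G} (hy : y ∈ A ⊔ D) :
    z * y = y * z :=
  F.cent_W (hsq A F.hA) hz.1.1 hz.2.1 hy

theorem Frame.Z_cent_W (F : Frame S A D) {z : G} (hz : z ∈ Z F.set A D) (hE : E ∈ unipotentSubgroups A D)
    {w : G} (hw : w ∈ W S E) : z * w = w * z := by
  have hA' : W S A ≤ Subgroup.centralizer {z} := W_le fun B hB h b hb => by
    refine Subgroup.mem_centralizer_singleton_iff.mpr ?_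
    exact ((F.twin hB h.symm).cent_W (hsq B hB) (W_congr h ▸ hz.1.1) hz.2.1
      ((le_sup_left : B ≤ B ⊔ D) hb)).symm
  obtain ⟨y, hy, rfl⟩ := hE
  have h1 := W_conj F.set hw y⁻¹
  rw [conjBy_conjBy, inv_mul_cancel, conjBy_one, inv_inv] at h1
  have h2 := Subgroup.mem_centralizer_singleton_iff.mp (hA' h1)
  have h3 := F.Z_cent hsq hz hy
  calc z * w = z * y * (y⁻¹ * w * y) * y⁻¹ := by group
    _ = y * (z * (y⁻¹ * w * y)) * y⁻¹ := by rw [h3]; group
    _ = y * (y⁻¹ * w * y * z) * y⁻¹ := by rw [← h2]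
    _ = w * (y * z) * y⁻¹ := by group
    _ = w * z := by rw [← h3, ← mul_assoc, mul_inv_cancel_right]

theorem Frame.Z_le (F : Frame S A D) (hE : E ∈ unipotentSubgroups A D) : Z F.set A D ≤ T F.set A D E := by
  intro z hz
  obtain ⟨y, hy, rfl⟩ := hE
  have := F.T_conj hy hz.1
  rwa [← F.Z_cent hsq hz hy, mul_inv_cancel_right] at this

theorem Frame.inter (F : Frame S A D) {E' : Subgroup G} (hE : E ∈ unipotentSubgroups A D)
    (hE' : E' ∈ unipotentSubgroups A D) (hne : E ≠ E') {x : G} (h : x ∈ T F.set A D E)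
    (h' : x ∈ T F.set A D E') : x ∈ Z F.set A D := by
  obtain ⟨y, hy, rfl, rfl⟩ := exists_map_pair F.pair hE hE' hne
  have h1 := F.T_conj (inv_mem hy) h
  have h2 := F.T_conj (inv_mem hy) h'
  rw [conjBy_conjBy, inv_mul_cancel, conjBy_one, inv_inv] at h1 h2
  have hz : y⁻¹ * x * y ∈ Z F.set A D := ⟨h1, h2⟩
  have := F.Z_cent hsq hz hy
  have hx : x = y⁻¹ * x * y :=
    (mul_right_cancel (this.trans (show y * (y⁻¹ * x * y) = x * y by group))).symm
  rwa [hx]

end Cfsg.Agent.Lib.RankOne.Twin
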