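import Mathlib
import Cfsg.Agent.Lib.RankOne.Special

/-!
# Ring identities and element orders for special rank one pairs
-/

set_option autoImplicit false

namespace Cfsg.Agent.Lib.RankOne.Twin

open Cfsg

section Ring

variable {R : Type*} [Ring R]

/-- Two braid relations of unipotent type, for `(α, δ' * δ')` and `(α * α, δ')`. -/
theorem ring_key {α δ δ' : R} (hu : IsUnit α) (hδ : δ' * δ' = δ) (h1 : (α * δ - δ + 1) * (α - 1) = 0)
    (h2 : (δ * α - α + 1) * (δ - 1) = 0) (h3 : (α * α * δ' - δ' + 1) * (α * α - 1) = 0)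
    (h4 : (δ' * (α * α) - α * α + 1) * (δ' - 1) = 0) : (α ^ 4 - 1) * (α ^ 3 - 1) = 0 := by
  have swap : ∀ {a d : R}, (a * d - d + 1) * (a - 1) = 0 → (d * a - a + 1) * (d - 1) = 0 →
      (a - 1) * (d - 1) * (a - 1) = -(a * (a - 1)) ∧
        d * ((d - 1) * (a - 1)) = (d - 1) * (a - 1) * a := by
    intro a d ha hd
    have e1 : (a - 1) * (d - 1) * (a - 1) = -(a * (a - 1)) := by
      rw [← sub_eq_zero, ← ha]; noncomm_ring
    have e2 : (d - 1) * (a - 1) * (d - 1) = -(d * (d - 1)) := by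
      rw [← sub_eq_zero, ← hd]; noncomm_ring
    refine ⟨e1, ?_⟩
    calc d * ((d - 1) * (a - 1)) = -((d - 1) * (a - 1) * (d - 1)) * (a - 1) := by rw [e2]; noncomm_ring
      _ = -((d - 1) * ((a - 1) * (d - 1) * (a - 1))) := by noncomm_ring
      _ = (d - 1) * (a - 1) * a := by rw [e1]; noncomm_ring
  obtain ⟨-, hyx⟩ := swap h1 h2
  obtain ⟨hx', hq⟩ := swap h3 h4
  set q := (δ' - 1) * (α * α - 1) with hqdef
  have ey : (δ - 1) * (α * α - 1) = (δ' + 1) * q := by rw [hqdef, ← hδ]; noncomm_ring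
  have key : δ * ((δ' + 1) * q) = (δ' + 1) * q * α := by
    rw [← ey]
    calc δ * ((δ - 1) * (α * α - 1)) = δ * ((δ - 1) * (α - 1)) * (α + 1) := by noncomm_ring
      _ = (δ - 1) * (α - 1) * α * (α + 1) := by rw [hyx]
      _ = (δ - 1) * (α * α - 1) * α := by noncomm_ring
  have e4 : δ' * (q * (α * α)) = q * (α * α) * (α * α) := by rw [← mul_assoc, hq]
  have e6 : δ' * (q * (α * α) * (α * α)) = q * (α * α) * (α * α) * (α * α) := by rw [← mul_assoc, e4]
  have lhs : δ * ((δ' + 1) * q) = q * (α * α) * (α * α) * (α * α) + q * (α * α) * (α * α) := by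
    rw [add_mul, one_mul, mul_add, ← hδ, mul_assoc, mul_assoc, hq, e4, e6]
  have rhs : (δ' + 1) * q * α = q * (α * α) * α + q * α := by rw [add_mul, one_mul, add_mul, hq]
  have hP : q * (α ^ 6 + α ^ 4 - α ^ 3 - α) = 0 := by
    rw [← sub_eq_zero] at key
    rw [← key, lhs, rhs]; noncomm_ring
  have h5 : α * α * ((α * α - 1) * (α ^ 6 + α ^ 4 - α ^ 3 - α)) = 0 := by
    have h6 : (α * α - 1) * q * (α ^ 6 + α ^ 4 - α ^ 3 - α) = 0 := by rw [mul_assoc, hP, mul_zero]
    rw [hqdef, ← mul_assoc, hx', neg_mul, neg_eq_zero, mul_assoc] at h6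
    exact h6
  rw [(hu.mul hu).mul_right_eq_zero] at h5
  refine hu.mul_right_eq_zero.mp ?_
  rw [← h5]; noncomm_ring

theorem sq_zero_of_key {γ : R} (h : (γ ^ 4 - 1) * (γ ^ 3 - 1) = 0) : (γ ^ 12 - 1) * (γ ^ 12 - 1) = 0 := by
  have := congrArg (Polynomial.aeval (R := ℤ) γ) (show ((Polynomial.X : Polynomial ℤ) ^ 12 - 1) *
      (Polynomial.X ^ 12 - 1) = (Polynomial.X ^ 4 - 1) * (Polynomial.X ^ 3 - 1) *
        ((Polynomial.X ^ 8 + Polynomial.X ^ 4 + 1) *
          (Polynomial.X ^ 9 + Polynomial.X ^ 6 + Polynomial.X ^ 3 + 1)) by ring)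
  simp only [map_mul, map_add, map_sub, map_pow, map_one, Polynomial.aeval_X, h, zero_mul] at this
  exact this

theorem two_mul_prod {α β : R} (hc : α * β = β * α) (hα : (α - 1) * (α - 1) = 0) (hβ : (β - 1) * (β - 1) = 0)
    (hαβ : (α * β - 1) * (α * β - 1) = 0) : 2 * ((α - 1) * (β - 1)) = 0 := by
  have hyx : (β - 1) * (α - 1) = (α - 1) * (β - 1) := by
    rw [← sub_eq_zero]
    calc _ = β * α - α * β := by noncomm_ring
      _ = 0 := by rw [hc, sub_self]
  set x := α - 1 with hx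
  set y := β - 1 with hy
  have k1 : x * (x * y) = 0 := by rw [← mul_assoc, hα, zero_mul]
  have k2 : x * y * x = 0 := by rw [mul_assoc, hyx, k1]
  have k3 : y * (x * y) = 0 := by rw [← mul_assoc, hyx, mul_assoc, hβ, mul_zero]
  have k4 : x * y * y = 0 := by rw [mul_assoc, hβ, mul_zero]
  have k5 : x * y * (x * y) = 0 := by rw [← mul_assoc, k2, zero_mul]
  have hab : α * β - 1 = x + y + x * y := by rw [hx, hy]; noncomm_ring
  rw [hab] at hαβ
  simp only [add_mul, mul_add, hα, hβ, hyx, k1, k2, k3, k4, k5, zero_add, add_zero] at hαβ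
  rw [two_mul]
  exact hαβ

end Ring

variable {G : Type*} [Group G] {A B : Subgroup G}

/-- Twelfth roots exist and there are no involutions if some element has order different from `2` and `3`. -/
theorem pow_facts (hs : IsSpecialRankOnePair A B) (hA : ∀ x ∈ A, ∀ y ∈ A, x * y = y * x)
    (hbig : ∃ a ∈ A, a ^ 2 ≠ 1 ∧ a ^ 3 ≠ 1) :
    (∀ a ∈ A, ∃ c ∈ A, c ^ 12 = a) ∧ ∀ a ∈ A, a * a = 1 → a = 1 := by
  have hp := hs.1
  have hroot : ∀ a ∈ A, ∀ n : ℕ, a ^ n ≠ 1 → ∃ c ∈ A, c ^ n = a := by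
    intro a ha n hn
    have ha1 : a ≠ 1 := fun e => hn (by rw [e, one_pow])
    obtain ⟨v, hv⟩ := exists_braid hs ha ha1
    obtain ⟨z, hz, -, ez⟩ := hv.exists_image hp (pow_mem ha n) hn
    exact ⟨z⁻¹, inv_mem hz, by rw [inv_pow, image_pow hs hA n a v hv hn z hz ez, inv_inv]⟩
  by_cases htf : ∀ a ∈ A, a ≠ 1 → ¬ IsOfFinOrder a
  · refine ⟨fun a ha => ?_, fun a ha h2 => ?_⟩
    · by_cases ha1 : a = 1
      · exact ⟨1, one_mem _, by rw [one_pow, ha1]⟩
      exact hroot a ha 12 fun e => htf a ha ha1 (isOfFinOrder_iff_pow_eq_one.mpr ⟨12, by norm_num, e⟩)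
    · by_contra ha1
      exact htf a ha ha1 (isOfFinOrder_iff_pow_eq_one.mpr ⟨2, two_pos, by rw [pow_two, h2]⟩)
  push Not at htf
  obtain ⟨a₁, ha₁, hne₁, hfin⟩ := htf
  obtain ⟨p, hpp, hpd⟩ := Nat.exists_prime_and_dvd (n := orderOf a₁) (by rwa [Ne, orderOf_eq_one_iff])
  have hexp : ∀ c ∈ A, c ^ p = 1 := by
    intro c hc
    by_contra hc1
    set e := a₁ ^ (orderOf a₁ / p) with hedef
    have he : e ∈ A := pow_mem ha₁ _
    have hep : e ^ p = 1 := by rw [hedef, ← pow_mul, Nat.div_mul_cancel hpd, pow_orderOf_eq_one]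
    have he1 : e ≠ 1 := by
      intro h1
      have h2 := orderOf_dvd_of_pow_eq_one h1
      have h3 : 0 < orderOf a₁ / p := Nat.div_pos (Nat.le_of_dvd hfin.orderOf_pos hpd) hpp.pos
      exact absurd (Nat.le_of_dvd h3 h2) (Nat.div_lt_self hfin.orderOf_pos hpp.one_lt).not_ge
    obtain ⟨y', hy', ey'⟩ := hroot c hc p hc1
    obtain ⟨y, hy, eyy⟩ := hroot (e * c) (mul_mem he hc) p (by
      rwa [(show Commute e c from hA e he c hc).mul_pow, hep, one_mul])
    set d := y * y'⁻¹ with hd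
    have hdA : d ∈ A := mul_mem hy (inv_mem hy')
    have hde : d ^ p = e := by
      rw [hd, (show Commute y y'⁻¹ from hA y hy _ (inv_mem hy')).mul_pow, eyy, inv_pow, ey', mul_inv_cancel_right]
    obtain ⟨u, hu⟩ := exists_braid hs he he1
    have hd1 : d ≠ 1 := fun h1 => he1 (by rw [← hde, h1, one_pow])
    obtain ⟨s, hs', hs1, es⟩ := hu.exists_image hp hdA hd1
    have := homog hs (image_pow hs hA p) hu hdA (by rwa [hde]) hs' es (z := e⁻¹) (inv_mem he)
      (by rw [hde]; exact hu.image_self hp)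
    rw [inv_pow, hep, inv_one] at this
    exact hs1 this.symm
  obtain ⟨b, hb, hb2, hb3⟩ := hbig
  have hp2 : p ≠ 2 := fun e => hb2 (e ▸ hexp b hb)
  have hp3 : p ≠ 3 := fun e => hb3 (e ▸ hexp b hb)
  have hcop : ∀ n : ℕ, n = 2 ∨ n = 12 → ∀ a ∈ A, n.Coprime (orderOf a) := by
    intro n hn a ha
    refine Nat.Coprime.coprime_dvd_right (orderOf_dvd_of_pow_eq_one (hexp a ha)) ?_
    refine ((hpp.coprime_iff_not_dvd).mpr fun hd => ?_).symm
    have h12 : p ∣ 12 := by rcases hn with rfl | rfl; exacts [hd.trans (by norm_num), hd]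
    have := Nat.le_of_dvd (by norm_num) h12
    interval_cases p
    all_goals first | omega | (revert hpp; norm_num)
  refine ⟨fun a ha => ?_, fun a ha h2 => ?_⟩
  · obtain ⟨m, hm⟩ := exists_pow_eq_self_of_coprime (hcop 12 (Or.inr rfl) a ha)
    exact ⟨a ^ m, pow_mem ha m, by rwa [← pow_mul, mul_comm, pow_mul]⟩
  · obtain ⟨m, hm⟩ := exists_pow_eq_self_of_coprime (hcop 2 (Or.inl rfl) a ha)
    rw [pow_two, h2, one_pow] at hm
    exact hm.symm

end Cfsg.Agent.Lib.RankOne.Twin
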