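import Cfsg.Agent.Lib.RankOne.TwinAbelian
import Cfsg.Agent.Lib.RankOne.TwinRing

/-!
# There are no twin pairs
-/

set_option autoImplicit false

namespace Cfsg.Agent.Lib.RankOne.Twin

open Cfsg

universe u

variable {G : Type u} [Group G] {S : Set (Subgroup G)} {A B D : Subgroup G}

/-- Conjugating one side by an element of `K` keeps the partners. -/
theorem Frame.braid_conj (F : Frame S A D) {a d k : G} (hbr : Braid A D a d) (hk : k ∈ ker F.set A D) :
    Braid (conjBy A k) D (k * a * k⁻¹) d := by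
  have htw : commutingPartners S A = commutingPartners S (conjBy A k) := (hk A (mem_unip_left A D)).symm
  have F' := F.twin (F.set.conj_mem A F.hA k) htw
  have hs := special_of_not_twin F.set F.deg F'.hA F.hD F'.pair F'.nt
  have hd1 : d ≠ 1 := fun e => F.pair.ne (by
    have h1 := hbr.fix
    rw [e, conjBy_one] at h1
    exact absurd h1.symm (point_ne F.pair (inv_mem hbr.ha)))
  obtain ⟨a', ha', ha'1, e⟩ := exists_match_right F'.pair hbr.hv hd1
  have ha'' : k⁻¹ * a' * k ∈ A := mem_conjBy.mp ha'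
  have hcp : commutingPartners S (conjBy D (k⁻¹ * a' * k)⁻¹) = commutingPartners S (conjBy D a⁻¹) := by
    have h1 := cp_conj F.set htw d
    rw [hbr.fix, e] at h1
    rw [h1, ← hk _ (F.point (inv_mem ha''))]
    have h2 := cp_conj F.set (cp_conj F.set (inv_mem hk D (mem_unip_right F.pair)) (k⁻¹ * a' * k)⁻¹) k
    simp only [conjBy_conjBy] at h2
    rw [conjBy_conjBy, ← h2]
    congr 2
    group
  have hae := inv_injective (F.point_eq (inv_mem ha'') (inv_mem hbr.ha) hcp)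
  have ha'e : a' = k * a * k⁻¹ := by rw [← hae]; group
  subst ha'e
  have h2 := braid_of_special hs ha' ha'1 (inv_mem hbr.hv) (inv_ne_one.mpr hd1) (by rwa [inv_inv])
  rwa [inv_inv] at h2

/-- The square of an element of `A` and its square root have partners related in the same way. -/
theorem exists_braid_pair (hs : IsSpecialRankOnePair A D) (hab : ∀ x ∈ A, ∀ y ∈ A, x * y = y * x)
    (hA2 : ∀ a ∈ A, a * a = 1 → a = 1) {a : G} (ha : a ∈ A) (ha1 : a ≠ 1) :
    ∃ v, Braid A D (a * a) v ∧ Braid A D a (v * v) := by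
  have h2 : a * a ≠ 1 := fun e => ha1 (hA2 a ha e)
  obtain ⟨v, hv⟩ := exists_braid hs (mul_mem ha ha) h2
  have h4 : (a * a) ^ 2 ≠ 1 := fun e => h2 (hA2 _ (mul_mem ha ha) (by rwa [pow_two] at e))
  obtain ⟨z, hz, hz1, ez⟩ := hv.exists_image hs.1 (pow_mem (mul_mem ha ha) 2) h4
  have hpow := image_pow hs hab 2 _ v hv h4 z hz ez
  have hza : z = a⁻¹ := by
    refine eq_inv_of_mul_eq_one_left (hA2 _ (mul_mem hz ha) ?_)
    calc z * a * (z * a) = z ^ 2 * (a * a) := by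
          rw [pow_two, mul_assoc, ← mul_assoc a z, hab a ha z hz]; simp only [mul_assoc]
      _ = 1 := by rw [hpow, inv_mul_cancel]
  refine ⟨v, hv, ?_⟩
  have h := hv.image_braid hs (pow_mem (mul_mem ha ha) 2) h4 hz hz1 ez
  rwa [hza, inv_inv, ← conj_pow, hv.conj_a, pow_two] at h

/-- `A` has no twins when it has twelfth roots and no involutions. -/
theorem Frame.no_twin (F : Frame S A D) (hsq : ∀ E ∈ S, ∃ e ∈ E, e * e ≠ 1)
    (hroot : ∀ a ∈ A, ∃ c ∈ A, c ^ 12 = a) (hA2 : ∀ a ∈ A, a * a = 1 → a = 1) (hB : B ∈ S) (hne : B ≠ A)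
    (h : commutingPartners S A = commutingPartners S B) : False := by
  obtain ⟨V, hV, π, ρ, hadd, hker, hsur, hact⟩ := exists_module (A ⊔ D) (M F.set A D) (Z F.set A D)
    (fun y hy m hm => F.M_conj hy hm) (fun y hy z hz => F.Z_cent hsq hz hy)
    (fun m hm z hz => F.Z_cent_M hsq hz hm) (fun m hm n hn => F.comm_M hsq hm hn)
  have hAY : A ≤ A ⊔ D := le_sup_left
  have hDY : D ≤ A ⊔ D := le_sup_right
  have hπ1 : π 1 = 0 := (hker 1 (one_mem _)).mpr (one_mem _)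
  have hinv : ∀ m ∈ M F.set A D, π m⁻¹ = -π m := fun m hm => eq_neg_of_add_eq_zero_left (by
    rw [← hadd _ (inv_mem hm) _ hm, inv_mul_cancel, hπ1])
  have hρmul : ∀ x ∈ A ⊔ D, ∀ y ∈ A ⊔ D, ρ (x * y) = ρ x * ρ y := fun x hx y hy => by
    refine AddMonoidHom.ext fun v => ?_
    obtain ⟨m, hm, rfl⟩ := hsur v
    show ρ (x * y) (π m) = ρ x (ρ y (π m))
    rw [← hact y hy m hm, ← hact x hx _ (F.M_conj hy hm), ← hact _ (mul_mem hx hy) m hm]
    congr 1
    group
  have hρ1 : ρ 1 = 1 := by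
    refine AddMonoidHom.ext fun v => ?_
    obtain ⟨m, hm, rfl⟩ := hsur v
    show ρ 1 (π m) = π m
    rw [← hact 1 (one_mem _) m hm, one_mul, inv_one, mul_one]
  have hρinv : ∀ x ∈ A ⊔ D, ρ x * ρ x⁻¹ = 1 ∧ ρ x⁻¹ * ρ x = 1 := fun x hx =>
    ⟨by rw [← hρmul x hx _ (inv_mem hx), mul_inv_cancel, hρ1],
      by rw [← hρmul _ (inv_mem hx) x hx, inv_mul_cancel, hρ1]⟩
  have hρpow : ∀ x ∈ A ⊔ D, ∀ n : ℕ, ρ (x ^ n) = ρ x ^ n := fun x hx n => by
    induction n with
    | zero => rw [pow_zero, pow_zero, hρ1]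
    | succ n ih => rw [pow_succ, pow_succ, hρmul _ (pow_mem hx n) x hx, ih]
  have hab : ∀ x ∈ A, ∀ y ∈ A, x * y = y * x := fun x hx y hy => commute_of_mem F.set F.hA hx hy
  -- the relation of a pair of partners
  have hE : ∀ a d : G, Braid A D a d → (ρ a * ρ d - ρ d + 1) * (ρ a - 1) = 0 ∧
      (ρ d * ρ a - ρ a + 1) * (ρ d - 1) = 0 := by
    intro a d hbr
    have haY := hAY hbr.ha
    have hdY := hDY hbr.hv
    have h1 : (ρ a * ρ d - ρ d + 1) * (ρ a - 1) = 0 := by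
      refine AddMonoidHom.ext fun v => ?_
      obtain ⟨k, hk, rfl⟩ := hsur v
      have hb := (F.braid_conj hbr (F.M_le_ker hk)).braid
      set m0 := k * (a * k⁻¹ * a⁻¹) with hm0
      have hm0M : m0 ∈ M F.set A D := mul_mem hk (F.M_conj haY (inv_mem hk))
      have hu : π m0 = π k - ρ a (π k) := by
        rw [hm0, hadd k hk _ (F.M_conj haY (inv_mem hk)), hact a haY _ (inv_mem hk), hinv k hk, map_neg,
          sub_eq_add_neg]
      have heq : m0 * (a * d * m0 * (a * d)⁻¹) = d * m0 * d⁻¹ := by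
        refine mul_right_cancel (b := a * d * a) ?_
        calc m0 * (a * d * m0 * (a * d)⁻¹) * (a * d * a) = k * a * k⁻¹ * d * (k * a * k⁻¹) := by
              rw [hm0]; group
          _ = d * (k * a * k⁻¹) * d := hb
          _ = d * m0 * d⁻¹ * (d * a * d) := by rw [hm0]; group
          _ = d * m0 * d⁻¹ * (a * d * a) := by rw [hbr.braid]
      have h3 := congrArg π heq
      rw [hadd m0 hm0M _ (F.M_conj (mul_mem haY hdY) hm0M), hact _ (mul_mem haY hdY) _ hm0M,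
        hact d hdY _ hm0M, hρmul a haY d hdY] at h3
      change π m0 + ρ a (ρ d (π m0)) = ρ d (π m0) at h3
      show ρ a (ρ d (ρ a (π k) - π k)) - ρ d (ρ a (π k) - π k) + (ρ a (π k) - π k) = 0
      rw [show ρ a (π k) - π k = -π m0 by rw [hu]; abel, map_neg, map_neg]
      calc -ρ a (ρ d (π m0)) - -ρ d (π m0) + -π m0 = ρ d (π m0) - (π m0 + ρ a (ρ d (π m0))) := by abel
        _ = 0 := by rw [h3, sub_self]
    refine ⟨h1, ?_⟩
    have hnY : a * d * a ∈ A ⊔ D := hbr.le_sup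
    have k1 : ρ (a * d * a) * ρ a = ρ d * ρ (a * d * a) := by
      rw [← hρmul _ hnY a haY, ← hρmul d hdY _ hnY, ← eq_mul_of_mul_inv_eq hbr.conj_a]
    have k2 : ρ (a * d * a) * ρ d = ρ a * ρ (a * d * a) := by
      rw [← hρmul _ hnY d hdY, ← hρmul a haY _ hnY, ← eq_mul_of_mul_inv_eq hbr.conj_v]
    set N := ρ (a * d * a)
    have k3 : (ρ d * ρ a - ρ a + 1) * (ρ d - 1) * N = N * ((ρ a * ρ d - ρ d + 1) * (ρ a - 1)) := by
      simp only [mul_add, mul_sub, add_mul, sub_mul, mul_one, one_mul, ← mul_assoc, k1, k2]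
      simp only [mul_assoc, k1, k2]
    rw [h1, mul_zero] at k3
    have k4 := congrArg (· * ρ (a * d * a)⁻¹) k3
    rw [zero_mul, mul_assoc, (hρinv _ hnY).1, mul_one] at k4
    exact k4
  have hs := special_of_not_twin F.set F.deg F.hA F.hD F.pair F.nt
  have hkey : ∀ a ∈ A, (ρ a ^ 4 - 1) * (ρ a ^ 3 - 1) = 0 := by
    intro a ha
    by_cases ha1 : a = 1
    · rw [ha1, hρ1, one_pow, sub_self, zero_mul]
    obtain ⟨v, hv2, hv1⟩ := exists_braid_pair hs hab hA2 ha ha1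
    obtain ⟨h1, h2⟩ := hE _ _ hv1
    obtain ⟨h3, h4⟩ := hE _ _ hv2
    rw [hρmul a (hAY ha) a (hAY ha)] at h3 h4
    exact ring_key (isUnit_iff_exists.mpr ⟨_, hρinv a (hAY ha)⟩)
      (hρmul v (hDY hv2.hv) v (hDY hv2.hv)).symm h1 h2 h3 h4
  have hsq0 : ∀ a ∈ A, (ρ a - 1) * (ρ a - 1) = 0 := by
    intro a ha
    obtain ⟨c, hc, rfl⟩ := hroot a ha
    rw [hρpow c (hAY hc)]
    exact sq_zero_of_key (hkey c hc)
  have hprod : ∀ a ∈ A, ∀ b ∈ A, (ρ a - 1) * (ρ b - 1) = 0 := by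
    intro a ha b hb
    obtain ⟨c, hc, rfl⟩ := hroot a ha
    set e := c ^ 6 with he'
    have he : e ∈ A := pow_mem hc 6
    rw [show c ^ 12 = e * e by rw [he', ← pow_add], hρmul e (hAY he) e (hAY he),
      show ρ e * ρ e - 1 = (ρ e - 1) * (ρ e - 1) + 2 * (ρ e - 1) by noncomm_ring, hsq0 e he, zero_add,
      mul_assoc]
    refine two_mul_prod ?_ (hsq0 e he) (hsq0 b hb) ?_
    · rw [← hρmul e (hAY he) b (hAY hb), ← hρmul b (hAY hb) e (hAY he), hab e he b hb]
    · rw [← hρmul e (hAY he) b (hAY hb)]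
      exact hsq0 _ (mul_mem he hb)
  -- `A` centralizes `T A` modulo `Z`
  have hZM : Z F.set A D ≤ M F.set A D :=
    inf_le_left.trans (F.T_le_M (mem_unip_left A D))
  let L : Subgroup G :=
    { carrier := {g | g ∈ M F.set A D ∧ ∀ a ∈ A, a * g * a⁻¹ * g⁻¹ ∈ Z F.set A D}
      one_mem' := ⟨one_mem _, fun a _ => by simp⟩
      mul_mem' := fun {g k} hg hk => ⟨mul_mem hg.1 hk.1, fun a ha => by
        have h1 := mul_mem (hg.2 a ha) (hk.2 a ha)
        have h2 : a * (g * k) * a⁻¹ * (g * k)⁻¹ = a * g * a⁻¹ * g⁻¹ * (g * (a * k * a⁻¹ * k⁻¹) * g⁻¹) := by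
          group
        rw [h2, ← F.Z_cent_M hsq (hk.2 a ha) hg.1, mul_inv_cancel_right]
        exact h1⟩
      inv_mem' := fun {g} hg => ⟨inv_mem hg.1, fun a ha => by
        have h2 : a * g⁻¹ * a⁻¹ * g⁻¹⁻¹ = g⁻¹ * (g * a * g⁻¹ * a⁻¹) * g := by group
        have h3 : g * a * g⁻¹ * a⁻¹ ∈ Z F.set A D := by simpa [mul_assoc] using inv_mem (hg.2 a ha)
        rw [h2, ← F.Z_cent_M hsq h3 (inv_mem hg.1), inv_mul_cancel_right]
        exact h3⟩ }
  have hTL : T F.set A D A ≤ L := by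
    refine F.T_induct L (fun a ha g hg => ⟨F.M_conj (hAY ha) hg.1, fun x hx => ?_⟩)
      (fun g hg => F.M_le_ker hg.1) (fun P hP hPA τ hτ a1 ha1 => ?_)
    · have h2 : x * (a * g * a⁻¹) * x⁻¹ * (a * g * a⁻¹)⁻¹ = a * (x * g * x⁻¹ * g⁻¹) * a⁻¹ := by
        have hc := hab x hx a ha
        rw [show x * (a * g * a⁻¹) * x⁻¹ * (a * g * a⁻¹)⁻¹ = x * a * g * (x * a)⁻¹ * a * g⁻¹ * a⁻¹ by group, hc]
        group
      rw [h2, ← F.Z_cent hsq (hg.2 x hx) (hAY ha), mul_inv_cancel_right]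
      exact hg.2 x hx
    · have hτM := F.T_le_M hP hτ
      have he := mul_mem hτM (F.M_conj (hAY ha1) (inv_mem hτM))
      refine ⟨he, fun a ha => (hker _ (mul_mem (F.M_conj (hAY ha) he) (inv_mem he))).mp ?_⟩
      rw [hadd _ (F.M_conj (hAY ha) he) _ (inv_mem he), hinv _ he, hact a (hAY ha) _ he,
        hadd _ hτM _ (F.M_conj (hAY ha1) (inv_mem hτM)), hact a1 (hAY ha1) _ (inv_mem hτM), hinv _ hτM, map_neg]
      have h0 : ((ρ a - 1) * (ρ a1 - 1)) (π τ) = 0 := by rw [hprod a ha a1 ha1]; rfl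
      change ρ a (ρ a1 (π τ) - π τ) - (ρ a1 (π τ) - π τ) = 0 at h0
      rw [map_sub] at h0
      rw [map_add, map_neg]
      rw [← neg_zero, ← h0]
      abel
  -- the twins of `A` normalize `A`
  have hnorm : ∀ t ∈ T F.set A D A, conjBy A t = A := by
    intro t ht
    by_contra hne'
    obtain ⟨a, ha, ha1⟩ := (Subgroup.bot_or_exists_ne_one A).resolve_left (F.set.ne_bot A F.hA)
    have hz := (hTL ht).2 a ha
    have hp := pair_of_twin F.set F.deg F.hA (F.set.conj_mem A F.hA t) hne'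
      ((Subgroup.mem_inf.mp ht).2 A (mem_unip_left A D)).symm
    have hmem : t * a⁻¹ * t⁻¹ ∈ conjBy A t := conj_mem_conjBy (inv_mem ha)
    have hcen : ∀ x ∈ A, t * a⁻¹ * t⁻¹ * x = x * (t * a⁻¹ * t⁻¹) := by
      intro x hx
      rw [show t * a⁻¹ * t⁻¹ = a⁻¹ * (a * t * a⁻¹ * t⁻¹) by group, mul_assoc, F.Z_cent hsq hz (hAY hx),
        ← mul_assoc, hab _ (inv_mem ha) x hx, mul_assoc]
    have := eq_one_of_normalizes (RankOnePair_symm hp) hmem (conjBy_eq_self_of_commute hcen)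
    exact ha1 (inv_eq_one.mp (conj_eq_one_iff.mp this))
  have hpB := pair_of_twin F.set F.deg F.hA hB hne h
  obtain ⟨b, hb, hb1⟩ := (Subgroup.bot_or_exists_ne_one B).resolve_left (F.set.ne_bot B hB)
  obtain ⟨a, ha, ht⟩ := F.split (le_W hB h.symm hb)
  refine hb1 (eq_one_of_normalizes (RankOnePair_symm hpB) hb ?_)
  calc conjBy A b = conjBy (conjBy A a) (b * a⁻¹) := by rw [conjBy_conjBy, inv_mul_cancel_right]
    _ = A := by rw [conjBy_eq_self_of_mem ha, hnorm _ ht]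

end Cfsg.Agent.Lib.RankOne.Twin
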