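import Cfsg.Agent.Lib.RankOne.TwinKernel

/-!
# A twin pair does not contain an image of `SL₂(k)`, `|k| > 3`
-/

set_option autoImplicit false

namespace Cfsg.Agent.Lib.RankOne.Twin

open Cfsg
open scoped MatrixGroups

variable {G : Type*} [Group G] {S : Set (Subgroup G)} {A B D : Subgroup G}

/-- The derived group of `W A` lies in `K`. -/
theorem Frame.comm_W_mem (F : Frame S A D) {x y : G} (hx : x ∈ W S A) (hy : y ∈ W S A) :
    x * y * x⁻¹ * y⁻¹ ∈ ker F.set A D := by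
  have hY : A ≤ A ⊔ D := le_sup_left
  obtain ⟨a, ha, hk⟩ := F.split hx
  obtain ⟨b, hb, hl⟩ := F.split hy
  have hk' := (Subgroup.mem_inf.mp hk).2
  have hl' := (Subgroup.mem_inf.mp hl).2
  have h := mul_mem (mul_mem (mul_mem hk' (F.ker_conj (hY ha) hl')) (F.ker_conj (hY hb) (inv_mem hk')))
    (inv_mem hl')
  have hba : a⁻¹ * b = b * a⁻¹ := commute_of_mem F.set F.hA (inv_mem ha) hb
  convert h using 1
  simp only [mul_inv_rev, inv_inv, mul_assoc]
  simp only [inv_mul_cancel_left]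
  rw [← mul_assoc a⁻¹ b, hba, mul_assoc]
  simp

theorem Frame.not_psl (F : Frame S A D) (hB : B ∈ S) (h : commutingPartners S A = commutingPartners S B)
    {A₀ B₀ : Subgroup G} (hA₀ : A₀ ≤ A) (hB₀ : B₀ ≤ B) {k : Type*} [Field k] (hk : 3 < ENat.card k)
    (hpsl : IsPSL2PairOver k A₀ B₀) : False := by
  classical
  obtain ⟨φ, hr, hker, hup, -⟩ := hpsl
  obtain ⟨t, ht0, ht2⟩ : ∃ t : k, t ≠ 0 ∧ t * t ≠ 1 := by
    by_contra! hh
    have hsub : (Set.univ : Set k) ⊆ {0, 1, -1} := fun x _ => by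
      by_cases hx : x = 0
      · exact Or.inl hx
      · rcases mul_self_eq_one_iff.mp (hh x hx) with h | h
        · exact Or.inr (Or.inl h)
        · exact Or.inr (Or.inr h)
    have h3 : ENat.card k ≤ 3 := by
      rw [← Set.encard_univ]
      refine (Set.encard_le_encard hsub).trans ((Set.encard_insert_le _ _).trans ?_)
      refine (add_le_add (Set.encard_insert_le _ _) le_rfl).trans (le_of_eq ?_)
      rw [Set.encard_singleton]
      rfl
    exact absurd hk (not_lt.mpr h3)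
  let δ : SL(2, k) := ⟨!![t, 0; 0, t⁻¹], by simp [Matrix.det_fin_two, ht0]⟩
  let υ : k → SL(2, k) := fun s => ⟨!![1, s; 0, 1], by simp [Matrix.det_fin_two]⟩
  let low : SL(2, k) := ⟨!![1, 0; 1, 1], by simp [Matrix.det_fin_two]⟩
  have hle : φ.range ≤ W S A := by
    rw [hr]
    exact sup_le (hA₀.trans (le_W F.hA rfl)) (hB₀.trans (le_W hB h.symm))
  have hcomm : δ * υ 1 * δ⁻¹ * (υ 1)⁻¹ = υ (t * t - 1) := by
    rw [mul_inv_eq_iff_eq_mul, mul_inv_eq_iff_eq_mul]
    apply Subtype.ext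
    show δ.1 * (υ 1).1 = (υ (t * t - 1)).1 * (υ 1).1 * δ.1
    simp only [δ, υ, Matrix.mul_fin_two]
    ext i j
    fin_cases i <;> fin_cases j <;> simp <;> field_simp <;> ring
  have hK : φ (υ (t * t - 1)) ∈ ker F.set A D := by
    rw [← hcomm, map_mul, map_mul, map_mul, map_inv, map_inv]
    exact F.comm_W_mem (hle ⟨δ, rfl⟩) (hle ⟨υ 1, rfl⟩)
  have hA' : φ (υ (t * t - 1)) ∈ A := hA₀ (by
    rw [← hup]
    exact Subgroup.mem_map_of_mem φ (Subgroup.subset_closure ⟨rfl, rfl, rfl⟩))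
  have hc := hker (MonoidHom.mem_ker.mpr (F.ker_left hA' hK))
  have h1 := congrArg (fun g : SL(2, k) => (g : Matrix (Fin 2) (Fin 2) k) 0 0)
    (Subgroup.mem_center_iff.mp hc low)
  change (low.1 * (υ (t * t - 1)).1) 0 0 = ((υ (t * t - 1)).1 * low.1) 0 0 at h1
  simp [υ, low] at h1
  exact ht2 h1.symm

end Cfsg.Agent.Lib.RankOne.Twin
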