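import Cfsg.Agent.Lib.RankOne.Incomparable

/-!
# Weak TI-subsets of a non-degenerate class
-/

set_option autoImplicit false

namespace Cfsg.Agent.Lib.RankOne

open Cfsg

variable {G : Type*} [Group G] {S : Set (Subgroup G)} {A B : Subgroup G}

/-- The members of a weak TI-subset commute. -/
theorem weakTI_abelian (hS : IsRootSubgroupClass S) (hnd : IsNondegenerateRootSet S)
    {Δ : Set (Subgroup G)} (hΔ : IsWeakTISubset S Δ) : IsAbelianFamily Δ := by
  obtain ⟨hsub, -, hne, hTI⟩ := hΔ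
  let N : Subgroup G :=
    { carrier := {g | ∀ X : Subgroup G, X ∈ Δ ↔ conjBy X g ∈ Δ}
      one_mem' := fun X => by rw [conjBy_one]
      mul_mem' := fun {g k} hg hk X => by rw [hk X, hg (conjBy X k), conjBy_conjBy]
      inv_mem' := fun {g} hg X => by rw [hg (conjBy X g⁻¹), conjBy_conjBy, mul_inv_cancel, conjBy_one] }
  -- a root element fixing a member of `Δ` stabilizes `Δ`
  have hfix : ∀ {M X : Subgroup G}, M ∈ Δ → X ∈ S → (∀ x ∈ X, conjBy M x = M) → X ≤ N := by
    intro M X hM hX hMX x hx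
    by_cases hx1 : x = 1
    · rw [hx1]; exact one_mem _
    have himg : (fun P => conjBy P x) '' Δ = Δ := (hTI x ⟨hx1, X, hX, hx⟩).resolve_right fun h =>
      Set.disjoint_left.mp h ⟨M, hM, hMX x hx⟩ hM
    intro P
    refine ⟨fun h => himg ▸ ⟨P, h, rfl⟩, fun h => ?_⟩
    rw [← himg] at h
    obtain ⟨Q, hQ, e⟩ := h
    exact conjBy_inj e ▸ hQ
  have hcomm : ∀ {M X : Subgroup G}, M ∈ Δ → X ∈ S → ⁅X, M⁆ = ⊥ → X ≤ N := fun hM hX h =>
    hfix hM hX fun x hx => conjBy_eq_self_of_commute fun m hm => commutator_eq_bot_iff.mp h x hx m hm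
  have hself : ∀ M ∈ Δ, M ≤ N := fun M hM => hfix hM (hsub hM) fun x hx => conjBy_eq_self_of_mem hx
  -- no rank one pair lies in `Δ`
  have hno : ∀ A ∈ Δ, ∀ B ∈ Δ, ¬ IsRankOnePair A B := by
    intro A hA B hB hp
    have htop : N = ⊤ := top_le_iff.mp (by
      rw [← generated_by_lines hS hnd (hsub hA) (hsub hB) hp]
      exact sup_le (iSup₂_le fun C hC => hcomm hA hC.1.1 (by rw [Subgroup.commutator_comm]; exact hC.1.2.2))
        (hself B hB))
    refine hne (hsub.antisymm fun X hX => ?_)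
    obtain ⟨g, rfl⟩ := hS.2.2 A (hsub hA) X hX
    exact ((htop ▸ Subgroup.mem_top g : g ∈ N) A).mp hA
  intro A hA B hB a ha b hb
  rcases hS.1.pair A (hsub hA) B (hsub hB) with h | h | h
  · exact commutator_eq_bot_iff.mp h a ha b hb
  · exact absurd h (hno A hA B hB)
  exfalso
  obtain ⟨E, hE, hp⟩ := exists_line_partner_opposite hS.1 (fun X hX => not_isolated hS hnd hX)
    (hsub hA) (hsub hB) (by rw [Subgroup.commutator_comm]; exact h.1)
  obtain ⟨e, he, he1⟩ := (Subgroup.bot_or_exists_ne_one E).resolve_left (hS.1.ne_bot E hE.1.1)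
  have heN : e ∈ N := hcomm hB hE.1.1 (by rw [Subgroup.commutator_comm]; exact hE.1.2.2) he
  refine hno A hA _ ((heN A).mp hA) (pair_of_mem hp (mem_unip_left A E)
    (conj_mem_unip ((le_sup_right : E ≤ A ⊔ E) he) (mem_unip_left A E)) fun h' =>
      he1 (eq_one_of_normalizes (RankOnePair_symm hp) he h'.symm))

end Cfsg.Agent.Lib.RankOne
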